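import Cfsg.Agent.StdL34.Code
import Cfsg.Agent.ONType.OuterL

/-!
# Abstract `4.L3(4)` with coordinates
-/

set_option autoImplicit false
set_option linter.constructorNameAsVariable false
set_option linter.unusedVariables false

namespace Cfsg.Agent.StdL34

open Cfsg.Agent.SporadicA.FieldFour
open Cfsg.Agent.ONType.Psl (kap)
open Cfsg.Agent.ONType.OuterL (rv)

/-- value of a code -/
def elx {L : Type*} [Group L] (x : Fin 3 → Fin 3 → F4 → L) (s : L) (p : Code) : L :=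
  x 0 1 p.a * x 1 2 p.b * x 0 2 p.c * s ^ (p.k : ℕ)

/-- image of a root element under a pure outer type -/
def imgx {L : Type*} (x : Fin 3 → Fin 3 → F4 → L) (τ : Ty) (i j : Fin 3) (u : F4) : L :=
  if τ.2 then x (rv j) (rv i) (fr τ.1 u) else x i j (fr τ.1 u)

/-- Coordinates on a perfect central extension of `PSL(3,4)` by `Z/4`. -/
structure Cov (L : Type*) [Group L] where
  s : L
  x : Fin 3 → Fin 3 → F4 → L
  h : L
  ty : Bool
  s_cen : ∀ m, s * m = m * s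
  s_pow : s ^ 4 = 1
  x_add : ∀ i j, i ≠ j → ∀ u v, x i j u * x i j v = x i j (u + v)
  x_row : ∀ i j k, i ≠ j → i ≠ k → j ≠ k → ∀ u v,
    x i j u * x i k v = x i k v * x i j u * s ^ (t2 (u * v) : ℕ)
  x_col : ∀ i j k, i ≠ j → i ≠ k → j ≠ k → ∀ u v,
    x i j u * x k j v = x k j v * x i j u * s ^ (t2 (u * v) : ℕ)
  x_sum : ∀ i j k, i ≠ j → i ≠ k → j ≠ k → ∀ u v,
    x i k u * x k j v = x k j v * x i k u * x i j (u * v) * s ^ (gx ty (u * (v * v)) : ℕ)
  x_wey : ∀ i j k l, i ≠ j → k ≠ l → ∀ u,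
    (x i j 1 * x j i 1 * x i j 1)⁻¹ * x k l u * (x i j 1 * x j i 1 * x i j 1)
      = x (Equiv.swap i j k) (Equiv.swap i j l) u
  h_pow : h ^ 3 = 1
  h_x : ∀ i j, i ≠ j → ∀ u, h⁻¹ * x i j u * h = x i j (kap i j * u)
  h_eq : ∀ i j, i ≠ j →
    x i j (kap i j) * x j i (kap j i) * x i j (kap i j) * (x i j 1 * x j i 1 * x i j 1) = h
  el_inj : Function.Injective (elx x s)
  gen : Subgroup.closure {y | ∃ i j u, i ≠ j ∧ y = x i j u} = ⊤
  odd_index : ∃ T : Subgroup L, (∀ l, l ∈ T ↔ ∃ p, l = elx x s p) ∧ ¬ 2 ∣ T.index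
  cent : ∀ l, l * x 0 2 1 = x 0 2 1 * l → ∃ p, l = elx x s p
  r_ne : ∀ n : ℕ, (x 0 2 1 * x 2 0 1) ^ (2 ^ n) ≠ 1
  outer : ∀ α : MulAut L, ∃ (l : L) (τ : Ty), ∀ i j, i ≠ j → ∀ u,
    l * α (x i j u) * l⁻¹ = imgx x τ i j u

namespace Cov

variable {L : Type*} [Group L] (A : Cov L)

/-- value of a code -/
def el (p : Code) : L := elx A.x A.s p

/-- power of `s` -/
def sp (k : Fin 4) : L := A.s ^ (k : ℕ)

theorem sp_add (k l : Fin 4) : A.sp k * A.sp l = A.sp (k + l) := by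
  unfold sp
  rw [← pow_add]
  have h4 := A.s_pow
  have : ∀ k l : Fin 4, ∃ q : ℕ, (k : ℕ) + (l : ℕ) = 4 * q + ((k + l : Fin 4) : ℕ) := by
    intro k l
    refine ⟨((k : ℕ) + l) / 4, ?_⟩
    rw [Fin.val_add]; omega
  obtain ⟨q, hq⟩ := this k l
  rw [hq, pow_add, pow_mul, h4, one_pow, one_mul]

theorem sp_zero : A.sp 0 = 1 := pow_zero _

theorem sp_one : A.sp 1 = A.s := pow_one _

theorem sp_neg (k : Fin 4) : (A.sp k)⁻¹ = A.sp (-k) := by
  apply inv_eq_of_mul_eq_one_right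
  rw [A.sp_add, add_neg_cancel, A.sp_zero]

theorem sp_cen (k : Fin 4) (m : L) : A.sp k * m = m * A.sp k := by
  unfold sp
  exact ((show Commute A.s m from A.s_cen m).pow_left _).eq

theorem sp_left (k : Fin 4) (m n : L) : m * (A.sp k * n) = A.sp k * (m * n) := by
  rw [← mul_assoc, ← A.sp_cen, mul_assoc]

theorem el_eq (p : Code) : A.el p = A.x 0 1 p.a * A.x 1 2 p.b * A.x 0 2 p.c * A.sp p.k := rfl

theorem x_zero (i j : Fin 3) (h : i ≠ j) : A.x i j 0 = 1 := by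
  have := A.x_add i j h 0 0
  rw [add_zero] at this
  exact mul_eq_left.mp this

theorem add_self (u : F4) : u + u = 0 := by revert u; decide

theorem x_sq (i j : Fin 3) (h : i ≠ j) (u : F4) : A.x i j u * A.x i j u = 1 := by
  rw [A.x_add i j h, add_self, A.x_zero i j h]

theorem x_inv (i j : Fin 3) (h : i ≠ j) (u : F4) : (A.x i j u)⁻¹ = A.x i j u :=
  inv_eq_of_mul_eq_one_left (A.x_sq i j h u)

theorem row (i j k : Fin 3) (h1 : i ≠ j) (h2 : i ≠ k) (h3 : j ≠ k) (u v : F4) :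
    A.x i j u * A.x i k v = A.x i k v * A.x i j u * A.sp (t2 (u * v)) := A.x_row i j k h1 h2 h3 u v

theorem col (i j k : Fin 3) (h1 : i ≠ j) (h2 : i ≠ k) (h3 : j ≠ k) (u v : F4) :
    A.x i j u * A.x k j v = A.x k j v * A.x i j u * A.sp (t2 (u * v)) := A.x_col i j k h1 h2 h3 u v

theorem sum (i j k : Fin 3) (h1 : i ≠ j) (h2 : i ≠ k) (h3 : j ≠ k) (u v : F4) :
    A.x i k u * A.x k j v = A.x k j v * A.x i k u * A.x i j (u * v) *
      A.sp (gx A.ty (u * (v * v))) := A.x_sum i j k h1 h2 h3 u v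

theorem swap' (b a : F4) : A.x 1 2 b * A.x 0 1 a =
    A.x 0 1 a * A.x 1 2 b * A.x 0 2 (a * b) * A.sp (-(gx A.ty (a * (b * b)))) := by
  have h := A.sum 0 2 1 (by decide) (by decide) (by decide) a b
  rw [h, ← A.sp_neg]
  have hi := A.x_sq 0 2 (by decide) (a * b)
  have hc := A.sp_cen (gx A.ty (a * (b * b))) (A.x 0 2 (a * b))
  calc A.x 1 2 b * A.x 0 1 a
      = A.x 1 2 b * A.x 0 1 a * (A.x 0 2 (a * b) * A.x 0 2 (a * b)) *
          (A.sp (gx A.ty (a * (b * b))) * (A.sp (gx A.ty (a * (b * b))))⁻¹) := by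
        rw [hi]; group
    _ = A.x 1 2 b * A.x 0 1 a * A.x 0 2 (a * b) * (A.x 0 2 (a * b) *
          A.sp (gx A.ty (a * (b * b)))) * (A.sp (gx A.ty (a * (b * b))))⁻¹ := by group
    _ = _ := by rw [← hc]; group

theorem sp_x (k : Fin 4) (i j : Fin 3) (u : F4) : A.sp k * A.x i j u = A.x i j u * A.sp k :=
  A.sp_cen k _

theorem sp_x' (m : L) (k : Fin 4) (i j : Fin 3) (u : F4) :
    m * A.sp k * A.x i j u = m * A.x i j u * A.sp k := by
  rw [mul_assoc, A.sp_cen, mul_assoc]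

theorem sp_add' (m : L) (k l : Fin 4) : m * A.sp k * A.sp l = m * A.sp (k + l) := by
  rw [mul_assoc, A.sp_add]

theorem el_mul (p q : Code) : A.el p * A.el q = A.el (cmul A.ty p q) := by
  obtain ⟨a, b, c, k⟩ := p
  obtain ⟨a', b', c', k'⟩ := q
  simp only [el_eq, cmul]
  have e1 := A.row 0 2 1 (by decide) (by decide) (by decide) c a'
  have e2 := A.swap' b a'
  have e3 := A.col 0 2 1 (by decide) (by decide) (by decide) (a' * b + c) b'
  have a1 := A.x_add 0 1 (by decide) a a'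
  have a2 := A.x_add 1 2 (by decide) b b'
  have a3 := A.x_add 0 2 (by decide) (a' * b) c
  have a4 := A.x_add 0 2 (by decide) (a' * b + c) c'
  calc A.x 0 1 a * A.x 1 2 b * A.x 0 2 c * A.sp k * (A.x 0 1 a' * A.x 1 2 b' * A.x 0 2 c' * A.sp k')
      = A.x 0 1 a * A.x 1 2 b * (A.x 0 2 c * A.x 0 1 a') * A.x 1 2 b' * A.x 0 2 c' *
          A.sp (k + k') := by
        simp only [← mul_assoc, A.sp_x', A.sp_add']
    _ = A.x 0 1 a * (A.x 1 2 b * A.x 0 1 a') * A.x 0 2 c * A.x 1 2 b' * A.x 0 2 c' *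
          A.sp (t2 (c * a') + (k + k')) := by
        rw [e1]; simp only [← mul_assoc, A.sp_x', A.sp_add']
    _ = (A.x 0 1 a * A.x 0 1 a') * A.x 1 2 b * ((A.x 0 2 (a' * b) * A.x 0 2 c) * A.x 1 2 b') *
          A.x 0 2 c' * A.sp (-(gx A.ty (a' * (b * b))) + (t2 (c * a') + (k + k'))) := by
        rw [e2]; simp only [← mul_assoc, A.sp_x', A.sp_add']
    _ = (A.x 0 1 a * A.x 0 1 a') * (A.x 1 2 b * A.x 1 2 b') * (A.x 0 2 (a' * b + c) *
          A.x 0 2 c') * A.sp (t2 ((a' * b + c) * b') + (-(gx A.ty (a' * (b * b))) +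
            (t2 (c * a') + (k + k')))) := by
        rw [a3, e3]; simp only [← mul_assoc, A.sp_x', A.sp_add']
    _ = _ := by
        rw [a1, a2, a4]
        congr 2
        abel

theorem el_one : A.el cone = 1 := by
  simp only [el_eq, cone]
  rw [A.x_zero 0 1 (by decide), A.x_zero 1 2 (by decide), A.x_zero 0 2 (by decide), A.sp_zero]
  simp

theorem el_inv (p : Code) : (A.el p)⁻¹ = A.el (cinv A.ty p) := by
  apply inv_eq_of_mul_eq_one_right
  rw [A.el_mul, cmul_cinv, A.el_one]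

theorem inj {p q : Code} (h : A.el p = A.el q) : p = q := A.el_inj h

theorem el_sp (k : Fin 4) : A.el ⟨0, 0, 0, k⟩ = A.sp k := by
  simp only [el_eq]
  rw [A.x_zero 0 1 (by decide), A.x_zero 1 2 (by decide), A.x_zero 0 2 (by decide)]
  simp

theorem el_x02 (c : F4) : A.el ⟨0, 0, c, 0⟩ = A.x 0 2 c := by
  simp only [el_eq]
  rw [A.x_zero 0 1 (by decide), A.x_zero 1 2 (by decide), A.sp_zero]
  simp

theorem el_x01 (a : F4) : A.el ⟨a, 0, 0, 0⟩ = A.x 0 1 a := by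
  simp only [el_eq]
  rw [A.x_zero 0 2 (by decide), A.x_zero 1 2 (by decide), A.sp_zero]
  simp

theorem el_x12 (b : F4) : A.el ⟨0, b, 0, 0⟩ = A.x 1 2 b := by
  simp only [el_eq]
  rw [A.x_zero 0 1 (by decide), A.x_zero 0 2 (by decide), A.sp_zero]
  simp

/-- the central involution -/
def z : L := A.s * A.s

theorem z_eq : A.z = A.sp 2 := by
  show A.s * A.s = A.s ^ 2
  rw [pow_two]

/-- the Sylow 2-subgroup -/
def T : Subgroup L where
  carrier := Set.range A.el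
  mul_mem' := by
    rintro _ _ ⟨p, rfl⟩ ⟨q, rfl⟩
    exact ⟨_, (A.el_mul p q).symm⟩
  one_mem' := ⟨cone, A.el_one⟩
  inv_mem' := by
    rintro _ ⟨p, rfl⟩
    exact ⟨_, (A.el_inv p).symm⟩

theorem mem_T {l : L} : l ∈ A.T ↔ ∃ p, A.el p = l := Iff.rfl

theorem el_mem (p : Code) : A.el p ∈ A.T := ⟨p, rfl⟩

theorem T_index : ¬ 2 ∣ A.T.index := by
  obtain ⟨T, hT, h2⟩ := A.odd_index
  have : T = A.T := by
    ext l; rw [hT, mem_T]
    exact ⟨fun ⟨p, hp⟩ => ⟨p, hp.symm⟩, fun ⟨p, hp⟩ => ⟨p, hp.symm⟩⟩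
  rwa [this] at h2

/-- `β` acts on the coordinates exactly as the pure outer type `τ` -/
def IsTau (τ : Ty) (β : MulAut L) : Prop :=
  ∀ i j, i ≠ j → ∀ u, β (A.x i j u) = imgx A.x τ i j u

theorem exists_tau (α : MulAut L) : ∃ (l : L) (τ : Ty), A.IsTau τ (MulAut.conj l * α) := A.outer α

variable {A}

theorem IsTau.x01 {τ : Ty} {β : MulAut L} (h : A.IsTau τ β) (u : F4) :
    β (A.x 0 1 u) = if τ.2 then A.x 1 2 (fr τ.1 u) else A.x 0 1 (fr τ.1 u) := h 0 1 (by decide) u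

theorem IsTau.x12 {τ : Ty} {β : MulAut L} (h : A.IsTau τ β) (u : F4) :
    β (A.x 1 2 u) = if τ.2 then A.x 0 1 (fr τ.1 u) else A.x 1 2 (fr τ.1 u) := h 1 2 (by decide) u

theorem IsTau.x02 {τ : Ty} {β : MulAut L} (h : A.IsTau τ β) (u : F4) :
    β (A.x 0 2 u) = A.x 0 2 (fr τ.1 u) := by
  have := h 0 2 (by decide) u
  rw [this, imgx]
  split <;> rfl

theorem IsTau.x20 {τ : Ty} {β : MulAut L} (h : A.IsTau τ β) (u : F4) :
    β (A.x 2 0 u) = A.x 2 0 (fr τ.1 u) := by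
  have := h 2 0 (by decide) u
  rw [this, imgx]
  split <;> rfl

theorem aux1 : ∀ ty, gx ty (F4.w * (1 * 1)) = 1 := by decide

theorem aux2 : ∀ e, fr e F4.w * fr e 1 = fr e F4.w := by decide

theorem aux3 : ∀ ty e, gx ty (fr e F4.w * (fr e 1 * fr e 1)) = sg (invs ty (e, false)) 1 := by decide

theorem aux4 : ∀ e, fr e 1 * fr e F4.w = fr e F4.w := by decide

theorem aux5 : ∀ ty e, -(gx ty (fr e 1 * (fr e F4.w * fr e F4.w))) = sg (invs ty (e, true)) 1 := by
  decide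

theorem IsTau.s {τ : Ty} {β : MulAut L} (h : A.IsTau τ β) : β A.s = A.sp (sg (invs A.ty τ) 1) := by
  obtain ⟨e, f⟩ := τ
  have key := A.sum 0 2 1 (by decide) (by decide) (by decide) F4.w 1
  have w1 : F4.w * 1 = F4.w := rfl
  rw [aux1, w1] at key
  have k2 := congrArg β key
  simp only [map_mul] at k2
  rw [h.x01, h.x12, h.x02, sp_one] at k2
  cases f
  · simp only [Bool.false_eq_true, if_false] at k2
    have k3 := A.sum 0 2 1 (by decide) (by decide) (by decide) (fr e F4.w) (fr e 1)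
    rw [aux2 e] at k3
    have : β A.s = A.sp (gx A.ty (fr e F4.w * (fr e 1 * fr e 1))) := mul_left_cancel (k2.symm.trans k3)
    rw [this, aux3]
  · simp only [if_true] at k2
    have k3 := A.swap' (fr e F4.w) (fr e 1)
    rw [aux4 e] at k3
    have : β A.s = A.sp (-(gx A.ty (fr e 1 * (fr e F4.w * fr e F4.w)))) :=
      mul_left_cancel (k2.symm.trans k3)
    rw [this, aux5]

theorem IsTau.sp {τ : Ty} {β : MulAut L} (h : A.IsTau τ β) (k : Fin 4) :
    β (A.sp k) = A.sp (sg (invs A.ty τ) k) := by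
  unfold Cov.sp
  rw [map_pow, h.s]
  cases invs A.ty τ
  · simp only [sg, Bool.false_eq_true, if_false]
    rw [Cov.sp_one]
  · simp only [sg, if_true]
    have : ∀ k : Fin 4, (A.sp (-1)) ^ (k : ℕ) = A.sp (-k) := by
      intro k
      rw [← A.sp_neg, ← A.sp_neg, inv_pow, A.sp_one]
      rfl
    exact this k

theorem IsTau.el {τ : Ty} {β : MulAut L} (h : A.IsTau τ β) (p : Code) :
    β (A.el p) = A.el (ctau A.ty τ p) := by
  rw [A.el_eq, map_mul, map_mul, map_mul, h.x01, h.x12, h.x02, h.sp]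
  unfold ctau
  split
  · rw [← A.el_mul, ← A.el_mul, A.el_x12, A.el_x01]
    simp only [A.el_eq, A.x_zero 0 1 (by decide), A.x_zero 1 2 (by decide)]
    simp [mul_assoc]
  · rfl

end Cov

end Cfsg.Agent.StdL34
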