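import Cfsg.Agent.ONType.PslCard

/-!
# The centralizer of a root element in `PSL(3,4)`
-/

set_option autoImplicit false
set_option linter.constructorNameAsVariable false

namespace Cfsg.Agent.StdL34.PslCent

open Matrix
open Cfsg.Agent.SporadicA.FieldFour
open Cfsg.Agent.ONType.Psl
open Cfsg.Agent.ONType.PslCard

/-- scalar matrices in `SL(3,4)` -/
theorem exists_scalar (r : F4) (hr : r ≠ 0) :
    ∃ c : SL3, (c : Matrix (Fin 3) (Fin 3) F4) = Matrix.scalar (Fin 3) r := by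
  refine ⟨⟨Matrix.scalar (Fin 3) r, ?_⟩, rfl⟩
  rw [Matrix.det_fin_three]
  revert r
  decide +kernel

theorem mk_eq_of_scalar {A B : SL3} {r : F4} (hr : r ≠ 0)
    (h : (A : Matrix (Fin 3) (Fin 3) F4) = (B : Matrix (Fin 3) (Fin 3) F4) * Matrix.scalar (Fin 3) r) :
    (QuotientGroup.mk A : PSL3) = QuotientGroup.mk B := by
  obtain ⟨c, hc⟩ := exists_scalar r hr
  have h1 : A = B * c := by
    apply Subtype.ext
    show (A : Matrix (Fin 3) (Fin 3) F4) = (B : Matrix (Fin 3) (Fin 3) F4) * (c : Matrix (Fin 3) (Fin 3) F4)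
    rw [h, hc]
  symm
  rw [QuotientGroup.eq, h1, inv_mul_cancel_left]
  exact scalar_mem c r hc

theorem um_of_comm (A : SL3)
    (h : (QuotientGroup.mk A : PSL3) * t 0 2 1 = t 0 2 1 * (QuotientGroup.mk A : PSL3)) :
    ∃ a b c, (QuotientGroup.mk A : PSL3) = t 0 1 a * t 1 2 b * t 0 2 c := by
  have h1 : (QuotientGroup.mk (A * T 0 2 1) : PSL3) = QuotientGroup.mk (T 0 2 1 * A) := h
  rw [QuotientGroup.eq, Matrix.SpecialLinearGroup.mem_center_iff] at h1
  obtain ⟨r, hr3, hr⟩ := h1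
  have e1 : (T 0 2 1 : Matrix (Fin 3) (Fin 3) F4) * (A : Matrix (Fin 3) (Fin 3) F4) =
      (A : Matrix (Fin 3) (Fin 3) F4) * (T 0 2 1 : Matrix (Fin 3) (Fin 3) F4) *
        Matrix.scalar (Fin 3) r := by
    rw [hr]
    have h2 : T 0 2 1 * A = (A * T 0 2 1) * ((A * T 0 2 1)⁻¹ * (T 0 2 1 * A)) := by group
    have h3 := congrArg (fun X : SL3 => (X : Matrix (Fin 3) (Fin 3) F4)) h2
    exact h3
  have hT : (T 0 2 1 : Matrix (Fin 3) (Fin 3) F4) = tm 0 2 1 := rfl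
  rw [hT] at e1
  set a : Matrix (Fin 3) (Fin 3) F4 := (A : Matrix (Fin 3) (Fin 3) F4) with ha
  have en : ∀ i j, (tm 0 2 1 * a) i j = (a * tm 0 2 1) i j * r := by
    intro i j
    rw [e1]
    simp [Matrix.mul_diagonal]
  have hdet : a.det = 1 := A.2
  rw [Matrix.det_fin_three] at hdet
  have el : ∀ i j, (tm 0 2 1 * a) i j = a i j + (if i = 0 then a 2 j else 0) := by
    intro i j
    rw [Matrix.mul_apply, Fin.sum_univ_three]
    fin_cases i <;> simp [tm]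
  have er : ∀ i j, (a * tm 0 2 1) i j = a i j + (if j = 2 then a i 0 else 0) := by
    intro i j
    rw [Matrix.mul_apply, Fin.sum_univ_three]
    fin_cases j <;> simp [tm, add_comm]
  have key : ∀ i j, a i j + (if i = 0 then a 2 j else 0) = (a i j + (if j = 2 then a i 0 else 0)) * r := by
    intro i j
    rw [← el, ← er, en]
  have k00 := key 0 0
  have k01 := key 0 1
  have k02 := key 0 2
  have k10 := key 1 0
  have k11 := key 1 1
  have k12 := key 1 2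
  have k20 := key 2 0
  have k21 := key 2 1
  have k22 := key 2 2
  simp only [Fin.isValue, if_true, show ((0 : Fin 3) = 2) = False by simp, show ((1 : Fin 3) = 0) = False by simp,
    show ((1 : Fin 3) = 2) = False by simp, show ((2 : Fin 3) = 0) = False by simp, if_false, add_zero] at *
  have hr1 : r = 1 := by
    by_contra hne
    have hz : ∀ x : F4, x = x * r → x = 0 := by
      intro x hx
      by_contra hx0
      apply hne
      have : x * r = x * 1 := by rw [← hx, mul_one]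
      exact mul_left_cancel₀ hx0 this
    rw [hz _ k10, hz _ k11, hz _ k20, hz _ k21] at hdet
    simp at hdet
  subst hr1
  rw [mul_one] at k00 k01 k02 k12
  have a20 : a 2 0 = 0 := by simpa using k00
  have a21 : a 2 1 = 0 := by simpa using k01
  have a22 : a 2 2 = a 0 0 := by simpa using k02
  have a10 : a 1 0 = 0 := by
    have : a 1 2 + 0 = a 1 2 + a 1 0 := by rw [add_zero]; exact k12
    exact (add_left_cancel this).symm
  rw [a20, a21, a22, a10] at hdet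
  have hd : a 0 0 * a 1 1 * a 0 0 = 1 := by simpa using hdet
  have hF : ∀ x y : F4, x * y * x = 1 → x ≠ 0 ∧ y = x := by decide
  obtain ⟨hx0, hyx⟩ := hF _ _ hd
  have hinv : a 0 0 * (a 0 0)⁻¹ = 1 := mul_inv_cancel₀ hx0
  set x := a 0 0 with hx
  refine ⟨a 0 1 * x⁻¹, a 1 2 * x⁻¹, a 0 2 * x⁻¹ + (a 0 1 * x⁻¹) * (a 1 2 * x⁻¹), ?_⟩
  show (QuotientGroup.mk A : PSL3) = (QuotientGroup.mk (T 0 1 (a 0 1 * x⁻¹) * T 1 2 (a 1 2 * x⁻¹) *
    T 0 2 (a 0 2 * x⁻¹ + (a 0 1 * x⁻¹) * (a 1 2 * x⁻¹))) : PSL3)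
  apply mk_eq_of_scalar hx0
  have eX : ∀ p q w : F4, ((T 0 1 p * T 1 2 q * T 0 2 w : SL3) : Matrix (Fin 3) (Fin 3) F4) =
      um p q (p * q + w) := fun p q w => tm_prod p q w
  rw [eX]
  have eaa : ∀ p q w : F4, p * q + (w + p * q) = w := by decide
  rw [eaa]
  rw [← ha]
  have hm : ∀ p : F4, p * x⁻¹ * x = p := by
    intro p; rw [mul_assoc, inv_mul_cancel₀ hx0, mul_one]
  ext i j
  rw [show (um (a 0 1 * x⁻¹) (a 1 2 * x⁻¹) (a 0 2 * x⁻¹) * (Matrix.scalar (Fin 3) x)) i j =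
    um (a 0 1 * x⁻¹) (a 1 2 * x⁻¹) (a 0 2 * x⁻¹) i j * x by simp [Matrix.mul_diagonal]]
  fin_cases i <;> fin_cases j <;> simp [um, a20, a21, a22, a10, hyx, hx0]
  rfl

theorem cent_t02 (g : PSL3) :
    g * t 0 2 1 = t 0 2 1 * g ↔ ∃ a b c, g = t 0 1 a * t 1 2 b * t 0 2 c := by
  constructor
  · intro h
    obtain ⟨A, rfl⟩ := QuotientGroup.mk_surjective g
    exact um_of_comm A h
  · rintro ⟨a, b, c, rfl⟩
    have h1 : t 0 1 a * t 0 2 1 = t 0 2 1 * t 0 1 a := t_row 0 1 2 a 1 (by decide) (by decide)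
    have h2 : t 1 2 b * t 0 2 1 = t 0 2 1 * t 1 2 b := t_col 1 2 0 b 1 (by decide) (by decide)
    have h3 : t 0 2 c * t 0 2 1 = t 0 2 1 * t 0 2 c := by
      rw [t_add 0 2 c 1 (by decide), t_add 0 2 1 c (by decide), add_comm]
    rw [mul_assoc, h3, ← mul_assoc, mul_assoc (t 0 1 a), h2, ← mul_assoc, h1]
    simp only [mul_assoc]

theorem tt_pow_three : (t 0 2 1 * t 2 0 1) ^ 3 = 1 := by
  have h : (T 0 2 1 * T 2 0 1) ^ 3 = 1 := by
    apply Subtype.ext
    show ((T 0 2 1 * T 2 0 1) ^ 3 : SL3).1 = 1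
    rw [pow_succ, pow_two]
    show tm 0 2 1 * tm 2 0 1 * (tm 0 2 1 * tm 2 0 1) * (tm 0 2 1 * tm 2 0 1) = 1
    decide +kernel
  exact congrArg (QuotientGroup.mk : SL3 → PSL3) h

theorem tt_ne_one : t 0 2 1 * t 2 0 1 ≠ 1 := by
  intro h
  have h1 : (QuotientGroup.mk (T 0 2 1 * T 2 0 1) : PSL3) = QuotientGroup.mk 1 := h
  rw [eq_comm, QuotientGroup.eq, Matrix.SpecialLinearGroup.mem_center_iff] at h1
  obtain ⟨r, _, hr⟩ := h1
  have h2 := congrFun (congrFun hr 0) 2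
  rw [inv_one, one_mul] at h2
  have h3 : ((T 0 2 1 * T 2 0 1 : SL3) : Matrix (Fin 3) (Fin 3) F4) 0 2 = 1 := by
    show (tm 0 2 1 * tm 2 0 1) 0 2 = 1
    decide +kernel
  rw [h3] at h2
  simp at h2

theorem tt_pow_ne (n : ℕ) : (t 0 2 1 * t 2 0 1) ^ (2 ^ n) ≠ 1 := by
  intro h
  apply tt_ne_one
  have hc : Nat.Coprime 3 (2 ^ n) := Nat.Coprime.pow_right n (by norm_num)
  have := pow_gcd_eq_one.2 ⟨tt_pow_three, h⟩
  rw [hc.gcd_eq_one, pow_one] at this
  exact this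

end Cfsg.Agent.StdL34.PslCent
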