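import Cfsg.Agent.StandardComponent.CoreClose

/-!
# Killing the core by strong embedding (form used for standard components of type `4.L₃(4)`)
-/

set_option autoImplicit false

namespace Cfsg.Agent.StdL34

open Subgroup

theorem core_z {G : Type*} [Group G] [Finite G] [IsSimpleGroup G]
    (hSE : ∀ H : Subgroup G, Cfsg.IsStronglyEmbedded H → (Cfsg.oddCore ↥H).map H.subtype ≤ Cfsg.oddCore G)
    (z : G) (hz : orderOf z = 2) (hone : ∀ t : G, orderOf t = 2 → ∃ g, g * z * g⁻¹ = t)
    (D : Subgroup G) (hD : Odd (Nat.card D))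
    (hcomm : ∀ g, Commute (g * z * g⁻¹) z → D.map (MulAut.conj g).toMonoidHom = D) : D = ⊥ := by
  have hmem : ∀ g, D.map (MulAut.conj g).toMonoidHom = D → ∀ d ∈ D, g * d * g⁻¹ ∈ D := by
    intro g hg d hd
    rw [← hg]
    exact ⟨d, hd, rfl⟩
  apply StandardComponent.CoreClose.eq_bot hSE hz
  · intro u hu
    obtain ⟨g, hg⟩ := hone u hu
    exact ⟨g, hg.symm⟩
  · exact hD
  · intro y hy
    apply hmem
    apply hcomm
    rw [hy, mul_inv_cancel_right]
  · intro g hg
    exact hmem g (hcomm g hg)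

end Cfsg.Agent.StdL34
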