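import Cfsg.Agent.StdL34.Six

/-!
# Step (9): comparison of the two characters
-/

set_option autoImplicit false
set_option linter.constructorNameAsVariable false
set_option linter.unusedVariables false

namespace Cfsg.Agent.StdL34

open Cfsg.Agent.SporadicA.FieldFour

theorem t0_of_fix : ∀ ty (τ : Ty) a b c, cact ty ⟨a, b, c, 0⟩ τ ⟨0, 0, 1, 0⟩ = ⟨0, 0, 1, 0⟩ →
    trF (a + b) = false := by
  decide +kernel

namespace Emb

variable {L : Type*} [Group L] {A : Cov L} {G : Type*} [Group G] {E : Emb A G}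

/-- the homocyclic subgroup `⟨s, x₀₁(a)x₁₂(a), x₀₂(c)⟩`, as a set -/
def AA (E : Emb A G) : Set G := {m | ∃ y, m = E.ι (A.el (sa y))}

theorem sa_inj {y y' : F4 × F4 × Fin 4} (h : sa y = sa y') : y = y' := by
  obtain ⟨a, c, k⟩ := y
  obtain ⟨a', c', k'⟩ := y'
  simp only [sa, Code.mk.injEq] at h
  obtain ⟨rfl, _, rfl, rfl⟩ := h
  rfl

theorem nfix_card (hty : A.ty = true) {x : G} {α : MulAut L} (hα : E.Act x α) {p : Code} {τ : Ty}
    (hcd : A.Cd α p τ) : nfix p τ = Nat.card {m : G // m ∈ E.AA ∧ Commute x m} := by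
  have h1 : nfix p τ = Nat.card {y : F4 × F4 × Fin 4 // cact true p τ (sa y) = sa y} := by
    rw [Nat.card_eq_fintype_card, Fintype.card_subtype]
    rfl
  rw [h1]
  apply Nat.card_congr
  refine Equiv.ofBijective (fun y => ⟨E.ι (A.el (sa y.1)), ⟨y.1, rfl⟩, ?_⟩) ⟨?_, ?_⟩
  · rw [hα.commute_iff, hcd.apply, hty, y.2]
  · rintro ⟨y, hy⟩ ⟨y', hy'⟩ h
    have h2 : E.ι (A.el (sa y)) = E.ι (A.el (sa y')) := congrArg Subtype.val h
    exact Subtype.ext (sa_inj (A.inj (E.inj h2)))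
  · rintro ⟨m, ⟨y, rfl⟩, hm⟩
    rw [hα.commute_iff, hcd.apply, hty] at hm
    exact ⟨⟨y, A.inj hm⟩, rfl⟩

theorem inv_iff (hty : A.ty = true) {x : G} {α : MulAut L} (hα : E.Act x α) {p : Code} {τ : Ty}
    (hcd : A.Cd α p τ) : (∀ a' c' k, cact true p τ ⟨a', a', c', k⟩ = cinv true ⟨a', a', c', k⟩) ↔
      ∀ m ∈ E.AA, x * m * x⁻¹ = m⁻¹ := by
  constructor
  · rintro h _ ⟨⟨a, c, k⟩, rfl⟩
    rw [hα, hcd.apply, hty, ← map_inv, A.el_inv, hty]
    congr 2
    exact h a c k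
  · intro h a c k
    have := h _ ⟨⟨a, c, k⟩, rfl⟩
    rw [hα, hcd.apply, hty, ← map_inv, A.el_inv, hty] at this
    exact A.inj (E.inj this)

/-- intrinsic description of the character -/
theorem chi_iff (hty : A.ty = true) {x : G} {α : MulAut L} {τ : Ty} (hα : E.Act x α)
    (hτ : A.HasTy α τ) (hu : Commute x E.u) :
    xor τ.1 τ.2 = true ↔ (Nat.card {m : G // m ∈ E.AA ∧ Commute x m} = 16 ∨
      ∀ m ∈ E.AA, x * m * x⁻¹ = m⁻¹) := by
  have hfix : α (A.x 0 2 1) = A.x 0 2 1 := by rwa [← hα.commute_iff]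
  obtain ⟨a, b, c, ρ, hcd⟩ := A.exists_cd' hfix
  have : τ = ρ := hτ.unique hcd.hasTy
  subst this
  have ht : trF (a + b) = false := by
    apply t0_of_fix A.ty τ a b c
    apply A.inj
    rw [← hcd.apply, A.el_x02]
    exact hfix
  rw [chi_crit τ a b c ht, nfix_card hty hα hcd, inv_iff hty hα hcd]

/-- (9), symmetric pair -/
theorem chi_pair {w : G} (hP : E.Pair w) (hA : E.AA = (E.conj w).AA) {x : G}
    (hz : Commute x E.z) (hu : Commute x E.u) {α α' : MulAut L} {τ τ' : Ty} (h1 : E.Act x α)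
    (h1' : (E.conj w).Act x α') (ht : A.HasTy α τ) (ht' : A.HasTy α' τ') :
    xor τ.1 τ.2 = xor τ'.1 τ'.2 := by
  have hty := (sAct hP).1
  rw [Bool.eq_iff_iff, chi_iff hty h1 ht hu, chi_iff hty h1' ht' (by rw [hP.u']; exact hz), hA]

end Emb

end Cfsg.Agent.StdL34
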