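import Cfsg.Agent.StdL34.Seven
import Cfsg.Agent.StdL34.Nine

/-!
# Step (8): the homocyclic subgroup is the same for both components of a pair
-/

set_option autoImplicit false
set_option linter.constructorNameAsVariable false
set_option linter.unusedVariables false

namespace Cfsg.Agent.StdL34.Eight

open Cfsg.Agent.SporadicA.FieldFour
open Cfsg.Agent.StdL34
open Cfsg.Agent.StdL34.Emb (mem_K act_ι)
open Cfsg.Agent.StdL34.Seven

theorem sa_mul : ∀ y y' : F4 × F4 × Fin 4, ∃ y'', cmul true (sa y) (sa y') = sa y'' := by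
  rintro ⟨a, c, k⟩ ⟨a', c', k'⟩
  exact ⟨(_, _, _), rfl⟩

theorem sa_comm : ∀ y y' : F4 × F4 × Fin 4, cmul true (sa y) (sa y') = cmul true (sa y') (sa y) := by
  decide +kernel

theorem cent_g : ∀ (a b c k c' k'), cmul true ⟨a, b, c, k⟩ ⟨1, 1, c', k'⟩ =
    cmul true ⟨1, 1, c', k'⟩ ⟨a, b, c, k⟩ → a = b := by
  decide +kernel

section

variable {L : Type*} [Group L] {A : Cov L} {G : Type*} [Group G] {E : Emb A G} {w : G}

theorem ncard_AA : (E.AA).ncard = 64 := by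
  have h1 : E.AA = Set.range (fun y : F4 × F4 × Fin 4 => E.ι (A.el (sa y))) := by
    ext m
    constructor
    · rintro ⟨y, rfl⟩; exact ⟨y, rfl⟩
    · rintro ⟨y, rfl⟩; exact ⟨y, rfl⟩
  have h2 : Function.Injective (fun y : F4 × F4 × Fin 4 => E.ι (A.el (sa y))) := by
    intro y y' h
    exact Emb.sa_inj (A.inj (E.inj h))
  rw [h1, ← Set.image_univ, Set.ncard_image_of_injective _ h2, Set.ncard_univ, Nat.card_prod,
    Nat.card_prod, Nat.card_eq_fintype_card, F4.card_eq, Nat.card_eq_fintype_card, Fintype.card_fin]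

theorem comm_AA (hty : A.ty = true) {m m' : G} (h : m ∈ E.AA) (h' : m' ∈ E.AA) : Commute m m' := by
  obtain ⟨y, rfl⟩ := h
  obtain ⟨y', rfl⟩ := h'
  show E.ι _ * E.ι _ = E.ι _ * E.ι _
  rw [← map_mul, ← map_mul, A.el_mul, A.el_mul, hty, sa_comm]

theorem mul_AA (hty : A.ty = true) {m m' : G} (h : m ∈ E.AA) (h' : m' ∈ E.AA) : m * m' ∈ E.AA := by
  obtain ⟨y, rfl⟩ := h
  obtain ⟨y', rfl⟩ := h'
  obtain ⟨y'', hy⟩ := sa_mul y y'
  exact ⟨y'', by rw [← map_mul, A.el_mul, hty, hy]⟩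

theorem z_mem_AA : E.z ∈ E.AA := ⟨(0, 0, 2), by
  show E.ι A.z = _
  rw [A.z_eq, ← A.el_sp]; rfl⟩

theorem u_mem_AA : E.u ∈ E.AA := ⟨(0, 1, 0), by
  show E.ι (A.x 0 2 1) = _
  rw [← A.el_x02]; rfl⟩

theorem s_mem_AA : E.s ∈ E.AA := ⟨(0, 0, 1), by
  show E.ι A.s = _
  rw [← A.sp_one, ← A.el_sp]; rfl⟩

theorem pow_AA {m : G} (h : m ∈ E.AA) : m ^ 16 = 1 := by
  obtain ⟨y, rfl⟩ := h
  rw [← map_pow, el_pow16, map_one]

variable [Finite G]

omit [Finite G] in
/-- the only involution of `K` -/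
theorem hone (hP : E.Pair w) : ∀ k ∈ E.K, k * k = 1 → k = 1 ∨ k = E.z := by
  intro k hk hkk
  have hne : E.u ≠ E.z := by
    intro h
    apply u_not_mem_K (E := E)
    rw [h]; exact Seven.z_mem_K
  apply Emb.only_inv (g := w)
  · rw [hP.1]; exact (z_comm_u (E := E)).symm
  · rw [hP.1]; exact hne
  · exact hk
  · exact hkk
  · rw [hP.1]; exact comm_ι hk _

/-- elements of `AA` of inner type on the conjugate component -/
theorem inner_AA (hP : E.Pair w) (hty : A.ty = true) {c : F4} {k : Fin 4}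
    (hc : E.s = (E.conj w).ι (A.el ⟨1, 1, c, k⟩)) {m : G} (hm : m ∈ E.AA) {α : MulAut L} {p : Code}
    {τ : Ty} (hα : (E.conj w).Act m α) (hcd : A.Cd α p τ) (hτ : τ = (false, false)) :
    m ∈ (E.conj w).AA := by
  subst hτ
  have h1 : MulAut.conj (A.el p) * α = 1 := Cov.IsTau.ext hcd Cov.isTau_one
  have h2 : α = MulAut.conj (A.el (cinv A.ty p)) := by
    rw [← A.el_inv, map_inv]
    exact eq_inv_of_mul_eq_one_right h1
  rw [h2] at hα
  obtain ⟨j, hj⟩ := mem_of_inner hP.symm (Emb.sAct hP.symm) (hone hP.symm) hα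
    ⟨4, by rw [show 2 ^ 4 = 16 from rfl]; exact pow_AA hm⟩
  rw [← A.el_sp, A.el_mul, hty] at hj
  have h3 : Commute m E.s := comm_AA hty hm s_mem_AA
  rw [hj, hc] at h3
  have h4 : (E.conj w).ι (A.el (cmul true (cinv true p) ⟨0, 0, 0, j⟩) * A.el ⟨1, 1, c, k⟩) =
      (E.conj w).ι (A.el ⟨1, 1, c, k⟩ * A.el (cmul true (cinv true p) ⟨0, 0, 0, j⟩)) := by
    rw [map_mul, map_mul]; exact h3
  have h5 := (E.conj w).inj h4
  rw [A.el_mul, A.el_mul, hty] at h5
  have h6 := A.inj h5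
  generalize cmul true (cinv true p) ⟨0, 0, 0, j⟩ = r at *
  obtain ⟨a, b, c1, k1⟩ := r
  have h7 : a = b := cent_g a b c1 k1 c k h6
  subst h7
  exact ⟨(a, c1, k1), hj⟩

theorem AA_sub (hP : E.Pair w) : E.AA ⊆ (E.conj w).AA := by
  have hty := (Emb.sAct hP).1
  obtain ⟨c, k, hc⟩ := exists_s_eq hP (Emb.sAct hP) (Emb.sAct hP.symm) (hone hP.symm)
  have hs' : (E.conj w).s ∈ E.AA := by
    have hP2 := hP.symm.symm
    have hEE : (E.conj w).conj w⁻¹ = E := E.conj_inv_conj w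
    obtain ⟨c', k', hc'⟩ := exists_s_eq hP.symm (Emb.sAct hP.symm)
      (by
        have := Emb.sAct hP.symm.symm
        exact this) (by rw [hEE]; exact hone hP)
    rw [hEE] at hc'
    exact ⟨(1, c', k'), hc'⟩
  -- the type on the conjugate component
  have htype : ∀ m ∈ E.AA, ∃ α p τ, (E.conj w).Act m α ∧ A.Cd α p τ ∧ τ.2 = false := by
    intro m hm
    obtain ⟨α, p, τ, hα, hcd⟩ := exists_code' hP (comm_AA hty hm z_mem_AA) (comm_AA hty hm u_mem_AA)
    refine ⟨α, p, τ, hα, hcd, ?_⟩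
    have h1 : Commute m (E.conj w).s := comm_AA hty hm hs'
    have h2 : α A.s = A.s := (hα.commute_iff A.s).1 h1
    apply fix_s τ p.a p.b p.c
    have h3 := hcd.nk.apply ⟨0, 0, 0, 1⟩
    rw [A.el_sp, A.sp_one, h2] at h3
    have h4 : A.el ⟨0, 0, 0, 1⟩ = A.el (cact A.ty (nk p) τ ⟨0, 0, 0, 1⟩) := by
      rw [A.el_sp, A.sp_one]; exact h3
    have h5 := A.inj h4
    rw [hty] at h5
    exact h5.symm
  intro m hm
  obtain ⟨α, p, τ, hα, hcd, hτ2⟩ := htype m hm
  by_cases hτ : τ = (false, false)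
  · exact inner_AA hP hty hc hm hα hcd hτ
  exfalso
  have hτ' : τ = (true, false) := by
    obtain ⟨e, f⟩ := τ
    simp only at hτ2
    subst hτ2
    cases e
    · exact absurd rfl hτ
    · rfl
  subst hτ'
  set X : Set G := {x | x ∈ (E.conj w).AA ∧ Commute m x} with hX
  have hXc : X.ncard ≤ 16 := by
    have h1 := Emb.nfix_card (E := E.conj w) hty hα hcd.nk
    have h2 := sigma_fix p.a p.b p.c
    have h3 : X.ncard = Nat.card {x : G // x ∈ (E.conj w).AA ∧ Commute m x} := rfl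
    rw [h3, ← h1]
    exact h2
  have hsub : E.AA ⊆ X ∪ (fun x => x * m⁻¹) '' X := by
    intro m' hm'
    obtain ⟨α', p', τ', hα', hcd', hτ2'⟩ := htype m' hm'
    by_cases h : τ' = (false, false)
    · left
      exact ⟨inner_AA hP hty hc hm' hα' hcd' h, comm_AA hty hm hm'⟩
    · right
      have h' : τ' = (true, false) := by
        obtain ⟨e, f⟩ := τ'
        simp only at hτ2'
        subst hτ2'
        cases e
        · exact absurd rfl h
        · rfl
      subst h'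
      refine ⟨m' * m, ⟨?_, ?_⟩, by simp⟩
      · exact inner_AA hP hty hc (mul_AA hty hm' hm) (hα'.mul hα) (hcd'.mul hcd) rfl
      · exact comm_AA hty hm (mul_AA hty hm' hm)
  have h1 := Set.ncard_le_ncard hsub (Set.toFinite _)
  have h2 := Set.ncard_union_le X ((fun x => x * m⁻¹) '' X)
  have h3 := Set.ncard_image_le (f := fun x => x * m⁻¹) (Set.toFinite X)
  rw [ncard_AA] at h1
  omega

/-- **Step (8).** -/
theorem AA_eq (hP : E.Pair w) : E.AA = (E.conj w).AA := by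
  apply Set.Subset.antisymm (AA_sub hP)
  have h := AA_sub hP.symm
  rwa [E.conj_inv_conj w] at h

/-- (7), from the pair alone -/
theorem K_two (hP : E.Pair w) : ∀ k ∈ E.K, (∃ n, k ^ (2 ^ n) = 1) → ∃ j : ℕ, k = E.s ^ j :=
  mem_zpowers_of_two hP (Emb.sAct hP) (hone hP)

/-- (7c), from the pair alone -/
theorem K_decomp (hP : E.Pair w) {k : G} (hk : k ∈ E.K) :
    ∃ (j : ℕ) (d : G), d ∈ E.K ∧ d ∈ (E.conj w).K ∧ Odd (orderOf d) ∧ k = E.s ^ j * d :=
  exists_decomp hP (Emb.sAct hP) (hone hP) hk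

/-- (7d), from the pair alone -/
theorem s_eq (hP : E.Pair w) : ∃ (c : F4) (k : Fin 4), E.s = (E.conj w).ι (A.el ⟨1, 1, c, k⟩) :=
  exists_s_eq hP (Emb.sAct hP) (Emb.sAct hP.symm) (hone hP.symm)

/-- a 2-element of inner type lies in the component -/
theorem mem_of_inner' (hP : E.Pair w) {m : G} {p : Code} (hm : E.Act m (MulAut.conj (A.el p)))
    (h2 : ∃ n, m ^ (2 ^ n) = 1) : ∃ j : Fin 4, m = E.ι (A.el p * A.sp j) :=
  mem_of_inner hP (Emb.sAct hP) (hone hP) hm h2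

end

end Cfsg.Agent.StdL34.Eight
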