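import Cfsg.Agent.StdL34.Connect
import Cfsg.Agent.StdL34.Eight
import Cfsg.Agent.StdL34.CoreZ

/-!
# Step (11): the centralizer of the component is generated by `s`
-/

set_option autoImplicit false
set_option linter.constructorNameAsVariable false
set_option linter.unusedVariables false

namespace Cfsg.Agent.StdL34.Eleven

open Cfsg.Agent.SporadicA.FieldFour
open Cfsg.Agent.StdL34
open Cfsg.Agent.StdL34.Emb (mem_K act_ι)

variable {L : Type*} [Group L] {A : Cov L} {G : Type*} [Group G] {E : Emb A G}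

/-- the odd-order elements of the centralizer of the component -/
def DD (E : Emb A G) : Set G := {k | k ∈ E.K ∧ Odd (orderOf k)}

theorem mem_K_conj {g k : G} : k ∈ (E.conj g).K ↔ g⁻¹ * k * g ∈ E.K := by
  rw [mem_K, mem_K]
  refine forall_congr' fun y => ?_
  rw [Emb.conj_ι]
  constructor
  · intro h
    have h1 := h.conj g⁻¹
    have h2 : g⁻¹ * (g * E.ι y * g⁻¹) * g⁻¹⁻¹ = E.ι y := by group
    rwa [h2, inv_inv] at h1
  · intro h
    have h1 := h.conj g
    have h2 : g * (g⁻¹ * k * g) * g⁻¹ = k := by group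
    rwa [h2] at h1

theorem orderOf_conj' (g k : G) : orderOf (g⁻¹ * k * g) = orderOf k := by
  have h1 := (MulAut.conj g⁻¹).orderOf_eq k
  rwa [MulAut.conj_apply, inv_inv] at h1

theorem mem_DD_conj {g k : G} : k ∈ DD (E.conj g) ↔ g⁻¹ * k * g ∈ DD E := by
  show (k ∈ (E.conj g).K ∧ Odd (orderOf k)) ↔ (g⁻¹ * k * g ∈ E.K ∧ Odd (orderOf (g⁻¹ * k * g)))
  rw [mem_K_conj, orderOf_conj']

theorem DD_same {m : G} (hm : Commute m E.z) : DD (E.conj m) = DD E := by
  ext k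
  rw [mem_DD_conj]
  have hO := orderOf_conj' m k
  constructor
  · rintro ⟨h1, h2⟩
    refine ⟨?_, by rwa [hO] at h2⟩
    have h3 := Seven.conj_mem_K hm h1
    have h4 : m * (m⁻¹ * k * m) * m⁻¹ = k := by group
    rwa [h4] at h3
  · rintro ⟨h1, h2⟩
    refine ⟨?_, by rwa [hO]⟩
    have h3 := Seven.conj_mem_K hm.inv_left h1
    rwa [inv_inv] at h3

theorem DD_same' {g h : G} (hgh : (E.conj g).z = (E.conj h).z) : DD (E.conj g) = DD (E.conj h) := by
  have h1 : Commute (h * g⁻¹) (E.conj g).z := by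
    rw [Emb.conj_z, Emb.conj_z] at hgh
    rw [Emb.conj_z]
    show h * g⁻¹ * (g * E.z * g⁻¹) = (g * E.z * g⁻¹) * (h * g⁻¹)
    rw [hgh]
    have : h * g⁻¹ * (h * E.z * h⁻¹) = h * g⁻¹ * (g * E.z * g⁻¹) := by rw [hgh]
    rw [this]; group
  have h2 := DD_same h1
  rw [Emb.conj_conj, inv_mul_cancel_right] at h2
  exact h2.symm

theorem DD_pair {w : G} (hP : E.Pair w) : DD (E.conj w) = DD E := by
  ext k
  constructor
  · rintro ⟨h1, h2⟩
    refine ⟨?_, h2⟩
    have h3 := Seven.odd_mem hP.symm h1 h2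
    rwa [E.conj_inv_conj w] at h3
  · rintro ⟨h1, h2⟩
    exact ⟨Seven.odd_mem hP h1 h2, h2⟩

/-- conjugation by an element of the component -/
theorem DD_ι {g : G} {l : L} (h : DD (E.conj (E.ι l * g)) = DD E) : DD (E.conj g) = DD E := by
  ext k
  have h1 : k ∈ DD (E.conj g) ↔ E.ι l * k * (E.ι l)⁻¹ ∈ DD (E.conj (E.ι l * g)) := by
    rw [mem_DD_conj, mem_DD_conj]
    have : (E.ι l * g)⁻¹ * (E.ι l * k * (E.ι l)⁻¹) * (E.ι l * g) = g⁻¹ * k * g := by group
    rw [this]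
  rw [h1, h]
  have h2 : DD (E.conj (E.ι l)⁻¹) = DD E := DD_same (E.z_comm l).symm.inv_left
  have h3 : k ∈ DD (E.conj (E.ι l)⁻¹) ↔ E.ι l * k * (E.ι l)⁻¹ ∈ DD E := by rw [mem_DD_conj, inv_inv]
  rw [← h3, h2]

theorem DD_inner {g : G} (hc : Commute (g * E.z * g⁻¹) E.z) (hne : g * E.z * g⁻¹ ≠ E.z)
    (hin : E.HT (g * E.z * g⁻¹) (false, false)) : DD (E.conj g) = DD E := by
  obtain ⟨α, hα, hτ⟩ := hin
  obtain ⟨l, hl⟩ := Emb.inner_conj hc hne hα hτ
  obtain ⟨w, hP⟩ := Emb.exists_pair hc hne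
  apply DD_ι (l := l)
  have h3 : (E.conj (E.ι l * g)).z = (E.conj w).z := by
    rw [hP.z', ← hl, Emb.conj_z]; group
  rw [DD_same' h3, DD_pair hP]

theorem DD_comm (hpure : Emb.Pure A G) {g : G} (hc : Commute (g * E.z * g⁻¹) E.z) :
    DD (E.conj g) = DD E := by
  by_cases hne : g * E.z * g⁻¹ = E.z
  · have h1 : (E.conj g).z = (E.conj 1).z := by rw [Emb.conj_one]; exact hne
    rw [DD_same' h1, Emb.conj_one]
  obtain ⟨w, hP⟩ := Emb.exists_pair hc hne
  have hty := (Emb.sAct hP).1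
  obtain ⟨ρ, hρ⟩ := Emb.exists_HT hc
  by_cases hρ1 : ρ = (false, false)
  · subst hρ1
    exact DD_inner hc hne hρ
  obtain ⟨l, h, c1, c2, c3, c4, c5, c6, c7⟩ := Emb.connect hpure hty hc hne hρ hρ1 (x := 1) (n := 0)
    (Commute.one_left _) (Commute.one_left _) (one_pow _)
  apply DD_ι (l := l)
  have e1 : (h * (E.ι l * g)⁻¹) * (E.conj (E.ι l * g)).z * (h * (E.ι l * g)⁻¹)⁻¹ =
      h * E.z * h⁻¹ := by rw [Emb.conj_z]; group
  have k1 : DD (E.conj h) = DD E := DD_inner c2 c3 c4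
  have k2 := DD_inner (E := E.conj (E.ι l * g)) (g := h * (E.ι l * g)⁻¹) (by rw [e1]; exact c5)
    (by rw [e1]; exact c6) (by rw [e1]; exact c7)
  rw [Emb.conj_conj, inv_mul_cancel_right, k1] at k2
  exact k2.symm

/-- **Step (11).** -/
theorem K_eq [Finite G] [IsSimpleGroup G]
    (hSE : ∀ H : Subgroup G, Cfsg.IsStronglyEmbedded H → (Cfsg.oddCore ↥H).map H.subtype ≤ Cfsg.oddCore G)
    (hpure : Emb.Pure A G) {g : G} (hc : Commute (g * E.z * g⁻¹) E.z) (hne : g * E.z * g⁻¹ ≠ E.z)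
    (hone : ∀ t : G, orderOf t = 2 → ∃ g, g * E.z * g⁻¹ = t) : ∀ k ∈ E.K, ∃ j : ℕ, k = E.s ^ j := by
  obtain ⟨w, hP⟩ := Emb.exists_pair hc hne
  set D : Subgroup G := E.K ⊓ (E.conj w).K with hD
  have hmem : ∀ k, k ∈ D ↔ k ∈ DD E := by
    intro k
    constructor
    · rintro ⟨h1, h2⟩
      exact ⟨h1, Seven.inf_odd hP h1 h2⟩
    · rintro ⟨h1, h2⟩
      exact ⟨h1, Seven.odd_mem hP h1 h2⟩
  have hodd : Odd (Nat.card D) := by
    rw [← Nat.not_even_iff_odd, even_iff_two_dvd]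
    intro h2
    have : Fact (Nat.Prime 2) := ⟨Nat.prime_two⟩
    obtain ⟨x, hx⟩ := exists_prime_orderOf_dvd_card' 2 h2
    have h3 := ((hmem _).1 x.2).2
    rw [Subgroup.orderOf_coe, hx] at h3
    exact absurd h3 (by decide)
  have hz : orderOf E.z = 2 := by
    apply orderOf_eq_prime
    · rw [pow_two]; exact E.z_sq
    · exact Seven.z_ne
  have hbot : D = ⊥ := by
    refine core_z hSE E.z hz hone D hodd ?_
    intro x hx
    have h1 := DD_comm hpure hx
    ext k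
    rw [Subgroup.mem_map]
    constructor
    · rintro ⟨d, hd, rfl⟩
      rw [hmem, ← h1, mem_DD_conj]
      have : x⁻¹ * ((MulAut.conj x).toMonoidHom d) * x = d := by
        show x⁻¹ * (x * d * x⁻¹) * x = d
        group
      rw [this, ← hmem]; exact hd
    · intro hk
      rw [hmem, ← h1, mem_DD_conj] at hk
      refine ⟨x⁻¹ * k * x, (hmem _).2 hk, ?_⟩
      show x * (x⁻¹ * k * x) * x⁻¹ = k
      group
  intro k hk
  obtain ⟨j, d, hd1, hd2, -, hkd⟩ := Eight.K_decomp hP hk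
  have h1 : d ∈ D := ⟨hd1, hd2⟩
  rw [hbot, Subgroup.mem_bot] at h1
  exact ⟨j, by rw [hkd, h1, mul_one]⟩

end Cfsg.Agent.StdL34.Eleven
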