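import Cfsg.Agent.StdL34.IndexTwo
import Cfsg.Agent.SporRec.LyReduce

/-!
# Standard subgroups of type `4·L₃(4)`: the final reduction
-/

set_option autoImplicit false

namespace Cfsg.Agent.StdL34.Main

open Cfsg.Agent.SporadicA.FieldFour
open Cfsg.Agent.StdL34

/-- the conclusion of steps (1)-(11) -/
def Steps (G : Type*) [Group G] : Prop :=
  ∀ (L : Subgroup G) (A : Cov L) (E : Emb A G) (g : G), Commute (g * E.z * g⁻¹) E.z →
    g * E.z * g⁻¹ ≠ E.z → (∀ k ∈ E.K, ∃ j : ℕ, k = E.s ^ j) ∧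
      (∀ x τ, E.HT x τ → τ = (false, false) ∨ τ = (true, true))

theorem main {G : Type*} [Group G] [Finite G] [IsSimpleGroup G] (hG : ¬ IsMulCommutative G)
    (hON : ONRec G) (hsteps : Steps G) (L : Subgroup G) (hL : Cfsg.IsStandardSubgroup L)
    {F : Type*} [Field F] [Fintype F] (hF : Fintype.card F = 4)
    (hLX : IsCyclic ↥(Subgroup.center ↥L) ∧ Nat.card ↥(Subgroup.center ↥L) = 4 ∧
      Nonempty (↥L ⧸ Subgroup.center ↥L ≃* Matrix.ProjectiveSpecialLinearGroup (Fin 3) F)) :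
    Cfsg.Spor.IsoON G := by
  obtain ⟨hc, h4, ⟨e⟩⟩ := hLX
  obtain ⟨s₁, Fd⟩ := exists_found L hL hc h4
  obtain ⟨A, hA, hA4, -⟩ := exists_cov hc h4 Fd.perfect hF e
  obtain ⟨E, hι, hz⟩ := exists_emb L s₁ Fd A hA hA4
  have hz1 : orderOf E.z = 2 := by
    rw [hz, orderOf_pow' s₁ (by norm_num), Fd.s_ord]; rfl
  have hnc : ∃ a b : G, a * b ≠ b * a := by
    by_contra hcon
    push Not at hcon
    exact hG ⟨⟨hcon⟩⟩
  obtain ⟨g, hne, hcomm⟩ := Cfsg.Agent.SporRec.LyReduce.exists_conj_ne E.z hz1 hnc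
  obtain ⟨w, hP⟩ := Emb.exists_pair hcomm.symm hne
  obtain ⟨hK, hker⟩ := hsteps L A E g hcomm.symm hne
  have hfin := IndexTwo.final E hι hK hker (IndexTwo.exists_inv hP)
  rw [hz] at hfin
  exact assemble hON L s₁ Fd hc h4 hF e hfin

end Cfsg.Agent.StdL34.Main
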