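import Cfsg.Agent.StdL34.AllInv
import Cfsg.Agent.StdL34.Eleven
import Cfsg.Agent.StdL34.Main

/-!
# The reduction of S1749 to the recognition theorem of the O'Nan group and S1221
-/

set_option autoImplicit false

namespace Cfsg.Agent.StdL34.Steps

open Cfsg.Agent.SporadicA.FieldFour
open Cfsg.Agent.StdL34

theorem steps {G : Type*} [Group G] [Finite G] [IsSimpleGroup G] (hG : ¬ IsMulCommutative G)
    (hSE : ∀ H : Subgroup G, Cfsg.IsStronglyEmbedded H →
      (Cfsg.oddCore ↥H).map H.subtype ≤ Cfsg.oddCore G) : Main.Steps G := by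
  intro L A E g hc hne
  refine ⟨Eleven.K_eq hSE Emb.pure hc hne (Emb.all_inv hG E hc hne), fun x τ h => ?_⟩
  exact Emb.ty_cases hG E Emb.hAA h

end Cfsg.Agent.StdL34.Steps
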