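import Cfsg.Agent.StdL34.OneClass
import Cfsg.Agent.StdL34.Nine

/-!
# Step (10): the eights group is shared by the components of its involutions
-/

set_option autoImplicit false
set_option linter.constructorNameAsVariable false
set_option linter.unusedVariables false

namespace Cfsg.Agent.StdL34

open Cfsg.Agent.SporadicA.FieldFour
open Cfsg.Agent.ONType.Psl (kap)

namespace OneClass

variable {L : Type*} [Group L] {A : Cov L} {G : Type*} [Group G] {E : Emb A G}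

theorem mem_VG_conj {F : Emb A G} {m x : G} : x ∈ VG (F.conj m) ↔ m⁻¹ * x * m ∈ VG F := by
  constructor
  · rintro ⟨l, hl, rfl⟩
    refine ⟨l, hl, ?_⟩
    show F.ι l = m⁻¹ * (m * F.ι l * m⁻¹) * m
    group
  · rintro ⟨l, hl, h⟩
    refine ⟨l, hl, ?_⟩
    show m * F.ι l * m⁻¹ = x
    have h' : F.ι l = m⁻¹ * x * m := h
    rw [h']; group

theorem fin_sa : ∀ a c k, cmul true ⟨a, a, c, k⟩ ⟨a, a, c, k⟩ = cone → a = 0 ∧ (k = 0 ∨ k = 2) := by
  decide +kernel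

theorem mem_VG_iff_AA (hty : A.ty = true) {x : G} : x ∈ VG E ↔ x ∈ E.AA ∧ x * x = 1 := by
  constructor
  · intro hx
    refine ⟨?_, VG_sq hx⟩
    obtain ⟨l, ⟨c, k, hk, rfl⟩, rfl⟩ := hx
    exact ⟨⟨0, c, k⟩, rfl⟩
  · rintro ⟨⟨⟨a, c, k⟩, rfl⟩, h⟩
    rw [ι_mem_VG]
    have h1 : cmul true ⟨a, a, c, k⟩ ⟨a, a, c, k⟩ = cone := by
      apply A.inj
      apply E.inj
      rw [← hty, ← A.el_mul, map_mul, A.el_one, map_one]
      exact h
    obtain ⟨rfl, hk⟩ := fin_sa a c k h1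
    exact ⟨c, k, hk, rfl⟩

theorem VG_conj_eq (hty : A.ty = true) {w : G} (hA : E.AA = (E.conj w).AA) : VG (E.conj w) = VG E := by
  ext x
  rw [mem_VG_iff_AA hty, mem_VG_iff_AA hty, hA]

theorem h_sp (k : Fin 4) : A.h⁻¹ * A.sp k * A.h = A.sp k := by
  rw [mul_assoc, A.sp_cen, inv_mul_cancel_left]

theorem InV.conj_h {v : L} (hv : InV A v) : InV A (A.h⁻¹ * v * A.h) := by
  obtain ⟨c, k, hk, rfl⟩ := hv
  refine ⟨kap 0 2 * c, k, hk, ?_⟩
  have h1 : ∀ c, A.el ⟨0, 0, c, k⟩ = A.x 0 2 c * A.sp k := by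
    intro c
    rw [A.el_nk ⟨0, 0, c, k⟩, ← A.el_x02]; rfl
  rw [h1, h1, ← A.h_x 0 2 (by decide) c]
  calc A.h⁻¹ * (A.x 0 2 c * A.sp k) * A.h = A.h⁻¹ * A.x 0 2 c * A.h * (A.h⁻¹ * A.sp k * A.h) := by group
    _ = _ := by rw [h_sp]

theorem h_inv : A.h⁻¹ = A.h * A.h := by
  have := A.h_pow
  rw [pow_succ, pow_two] at this
  exact inv_eq_of_mul_eq_one_left this

theorem InV.conj_h' {v : L} (hv : InV A v) : InV A (A.h * v * A.h⁻¹) := by
  have h1 := hv.conj_h.conj_h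
  have h2 : A.h⁻¹ * (A.h⁻¹ * v * A.h) * A.h = A.h * v * A.h⁻¹ := by
    have h3 : A.h⁻¹ * A.h⁻¹ = A.h := by
      nth_rewrite 1 [h_inv]
      rw [mul_inv_cancel_right]
    calc A.h⁻¹ * (A.h⁻¹ * v * A.h) * A.h = (A.h⁻¹ * A.h⁻¹) * v * (A.h * A.h) := by group
      _ = _ := by rw [h3, ← h_inv]
  rwa [h2] at h1

theorem exists_l {c : F4} {k : Fin 4} (hc : c ≠ 0) (hk : k = 0 ∨ k = 2) :
    ∃ l : L, l * A.x 0 2 1 * l⁻¹ = A.el ⟨0, 0, c, k⟩ ∧ (∀ v, InV A v → InV A (l * v * l⁻¹)) := by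
  have h1 : ∀ c, A.el ⟨0, 0, c, k⟩ = A.x 0 2 c * A.sp k := by
    intro c
    rw [A.el_nk ⟨0, 0, c, k⟩, ← A.el_x02]; rfl
  -- first step: the torus
  have key1 : ∃ l : L, l * A.x 0 2 1 * l⁻¹ = A.x 0 2 c ∧ (∀ v, InV A v → InV A (l * v * l⁻¹)) := by
    cases c
    · exact absurd rfl hc
    · refine ⟨1, by rw [one_mul, inv_one, mul_one]; rfl, fun v hv => by simpa using hv⟩
    · refine ⟨A.h, ?_, fun v hv => hv.conj_h'⟩
      have := A.h_x 0 2 (by decide) F4.w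
      have e : kap 0 2 * F4.w = 1 := rfl
      rw [e] at this
      rw [← this]; group
    · refine ⟨A.h⁻¹, ?_, fun v hv => by rw [inv_inv]; exact hv.conj_h⟩
      rw [inv_inv, A.h_x 0 2 (by decide)]
      rfl
  obtain ⟨l, hl1, hl2⟩ := key1
  rcases hk with rfl | rfl
  · exact ⟨l, by rw [hl1, A.el_x02], hl2⟩
  · obtain ⟨q, hq⟩ := fin_move A.ty c 0 hc (Or.inl rfl)
    have h3 : A.el q * A.x 0 2 c * (A.el q)⁻¹ = A.x 0 2 c * A.z := by
      rw [mul_inv_eq_iff_eq_mul, ← A.el_x02, ← el_cze, A.el_mul, A.el_mul, A.el_mul, hq]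
    refine ⟨A.el q * l, ?_, ?_⟩
    · calc A.el q * l * A.x 0 2 1 * (A.el q * l)⁻¹ = A.el q * (l * A.x 0 2 1 * l⁻¹) * (A.el q)⁻¹ := by
            group
        _ = A.x 0 2 c * A.z := by rw [hl1, h3]
        _ = _ := by rw [h1, A.z_eq]
    · intro v hv
      have h4 : A.el q * l * v * (A.el q * l)⁻¹ = A.el q * (l * v * l⁻¹) * (A.el q)⁻¹ := by group
      rw [h4]
      rcases T_conj (hl2 v hv) (A.el_mem q) with h | h
      · rw [h]; exact hl2 v hv
      · rw [h]; exact (hl2 v hv).mul_z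

/-- the hypothesis `h8` of `one_class'` -/
theorem h8_of_AA [Finite L] (hty : A.ty = true) {w : G} (hP : E.Pair w)
    (hA : E.AA = (E.conj w).AA) (c : F4) (k : Fin 4) (hc : c ≠ 0) (hk : k = 0 ∨ k = 2) :
    ∃ g, (E.conj g).z = E.ι (A.el ⟨0, 0, c, k⟩) ∧ VG (E.conj g) = VG E := by
  obtain ⟨l, hl1, hl2⟩ := exists_l (A := A) hc hk
  refine ⟨E.ι l * w, ?_, ?_⟩
  · rw [← hl1]
    show E.ι l * w * E.z * (E.ι l * w)⁻¹ = _
    calc E.ι l * w * E.z * (E.ι l * w)⁻¹ = E.ι l * (w * E.z * w⁻¹) * (E.ι l)⁻¹ := by group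
      _ = E.ι l * E.ι (A.x 0 2 1) * (E.ι l)⁻¹ := by rw [hP.1]; rfl
      _ = _ := by rw [map_mul, map_mul, map_inv]
  · -- `conj l` preserves the eights group, so does its inverse
    have hbij : ∀ v, InV A (l * v * l⁻¹) → InV A v := by
      intro v hv
      have hfin : Finite (VL A) := inferInstance
      let f : VL A → VL A := fun x => ⟨l * x.1 * l⁻¹, hl2 _ x.2⟩
      have hf : Function.Injective f := by
        intro x y hxy
        have h1 := congrArg Subtype.val hxy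
        have h2 : l * x.1 * l⁻¹ = l * y.1 * l⁻¹ := h1
        exact Subtype.ext (mul_left_cancel (mul_right_cancel h2))
      obtain ⟨x, hx⟩ := Finite.surjective_of_injective hf ⟨l * v * l⁻¹, hv⟩
      have h3 : l * x.1 * l⁻¹ = l * v * l⁻¹ := congrArg Subtype.val hx
      rw [← mul_left_cancel (mul_right_cancel h3)]
      exact x.2
    ext x
    rw [← Emb.conj_conj, mem_VG_conj, VG_conj_eq hty hA]
    constructor
    · rintro ⟨v, hv, h⟩
      refine ⟨l * v * l⁻¹, hl2 v hv, ?_⟩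
      have h' : E.ι v = (E.ι l)⁻¹ * x * E.ι l := h
      show E.ι (l * v * l⁻¹) = x
      rw [map_mul, map_mul, map_inv, h']; group
    · rintro ⟨v, hv, rfl⟩
      refine ⟨l⁻¹ * v * l, hbij _ ?_, ?_⟩
      · have : l * (l⁻¹ * v * l) * l⁻¹ = v := by group
        rw [this]; exact hv
      · show E.ι (l⁻¹ * v * l) = (E.ι l)⁻¹ * E.ι v * E.ι l
        rw [map_mul, map_mul, map_inv]

end OneClass

end Cfsg.Agent.StdL34
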