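import Cfsg.Agent.StandardComponent.LocalTransfer

/-!
# Transfer for a homomorphism on the centralizer of an involution
-/

set_option autoImplicit false

namespace Cfsg.Agent.StdL34

open Subgroup

/-- If the only conjugate of `z` centralizing a Sylow 2-subgroup of `C_G(z)` is `z`, then `z` is central in a
Sylow 2-subgroup of `G`. -/
theorem exists_sylow_centralizing {G : Type*} [Group G] [Finite G] (z : G) (hz : orderOf z = 2)
    (hsyl : ∀ S : Subgroup G, IsPGroup 2 S → S ≤ Subgroup.centralizer ({z} : Set G) →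
      ¬ 2 ∣ S.relIndex (Subgroup.centralizer ({z} : Set G)) →
      ∀ g, (∀ s ∈ S, Commute s (g * z * g⁻¹)) → g * z * g⁻¹ = z) :
    ∃ S : Sylow 2 G, z ∈ S ∧ ∀ s ∈ S, s * z = z * s := by
  classical
  have : Fact (Nat.Prime 2) := ⟨Nat.prime_two⟩
  set C : Subgroup G := centralizer ({z} : Set G) with hC
  have hmemC : ∀ y, y ∈ C ↔ y * z = z * y := fun y => mem_centralizer_singleton_iff
  have hzC : z ∈ C := (hmemC z).2 rfl
  have hzpow : IsPGroup 2 (zpowers (⟨z, hzC⟩ : C)) := by
    rw [IsPGroup.iff_card]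
    refine ⟨1, ?_⟩
    rw [Nat.card_zpowers, Subgroup.orderOf_mk, hz, pow_one]
  obtain ⟨P, hP⟩ := hzpow.exists_le_sylow
  have hzP : (⟨z, hzC⟩ : C) ∈ P := hP (mem_zpowers _)
  set S : Subgroup G := (P : Subgroup C).map C.subtype with hS
  have hSp : IsPGroup 2 S := P.2.map C.subtype
  have hSC : S ≤ C := by
    rintro _ ⟨y, -, rfl⟩
    exact y.2
  have hzS : z ∈ S := ⟨⟨z, hzC⟩, hzP, rfl⟩
  have hrel : ¬ 2 ∣ S.relIndex C := by
    have h1 : S.subgroupOf C = (P : Subgroup C) := by
      rw [hS, subgroupOf, comap_map_eq_self_of_injective C.subtype_injective]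
    rw [relIndex, h1]
    exact P.not_dvd_index
  -- the normalizer of S lies in C
  have hN : normalizer (S : Set G) ≤ C := by
    intro n hn
    have h1 : n * z * n⁻¹ = z := by
      apply hsyl S hSp hSC hrel n
      intro s hs
      have h2 : n⁻¹ * s * n ∈ S := by
        have h3 := (mem_normalizer_iff.1 (inv_mem hn) s).1 hs
        rwa [inv_inv] at h3
      have h3 : n⁻¹ * s * n * z = z * (n⁻¹ * s * n) := (hmemC _).1 (hSC h2)
      show s * (n * z * n⁻¹) = n * z * n⁻¹ * s
      calc s * (n * z * n⁻¹) = n * (n⁻¹ * s * n * z) * n⁻¹ := by group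
        _ = n * (z * (n⁻¹ * s * n)) * n⁻¹ := by rw [h3]
        _ = _ := by group
    rw [hmemC]
    rwa [mul_inv_eq_iff_eq_mul] at h1
  obtain ⟨T, hT⟩ := hSp.exists_le_sylow
  have hTS : (T : Subgroup G) = S := by
    by_contra hne
    have hlt : S < T := lt_of_le_of_ne hT (fun h => hne h.symm)
    -- normalizers grow in T
    have hnil : Group.IsNilpotent T := T.2.isNilpotent
    have hnc := Group.normalizerCondition_of_isNilpotent (G := T)
    have hlt' : S.subgroupOf T < ⊤ := by
      rw [lt_top_iff_ne_top]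
      intro h
      rw [subgroupOf_eq_top] at h
      exact hne (le_antisymm h hT)
    have h1 := hnc _ hlt'
    obtain ⟨y, hy, hyS⟩ := SetLike.exists_of_lt h1
    -- y normalizes S
    have hyN : (y : G) ∈ normalizer (S : Set G) := by
      rw [mem_normalizer_iff]
      intro s
      constructor
      · intro hs
        have h2 := (mem_normalizer_iff.1 hy ⟨s, hT hs⟩).1 hs
        exact h2
      · intro hs
        have h3 : (y : G)⁻¹ * (y * s * (y : G)⁻¹) * y ∈ S := by
          have h2 := (mem_normalizer_iff.1 (inv_mem hy) ⟨(y : G) * s * (y : G)⁻¹, hT hs⟩).1 hs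
          have h4 : ((y⁻¹ * ⟨(y : G) * s * (y : G)⁻¹, hT hs⟩ * y⁻¹⁻¹ : T) : G) ∈ S := h2
          simpa using h4
        have h4 : (y : G)⁻¹ * (y * s * (y : G)⁻¹) * y = s := by group
        rwa [h4] at h3
    have hyC : (y : G) ∈ C := hN hyN
    -- the 2-group S ⊔ <y> in C
    have hyp : IsPGroup 2 (zpowers (y : G)) := by
      have h2 : zpowers (y : G) ≤ T := by
        rw [zpowers_le]; exact y.2
      exact IsPGroup.of_injective T.2 (inclusion h2) (inclusion_injective h2)
    have hle : S ⊔ zpowers (y : G) ≤ T := sup_le hT (by rw [zpowers_le]; exact y.2)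
    have hleC : S ⊔ zpowers (y : G) ≤ C := sup_le hSC (by rw [zpowers_le]; exact hyC)
    have hp : IsPGroup 2 ↥(S ⊔ zpowers (y : G)) :=
      IsPGroup.of_injective T.2 (inclusion hle) (inclusion_injective hle)
    have hp' : IsPGroup 2 ↥((S ⊔ zpowers (y : G)).subgroupOf C) :=
      IsPGroup.of_injective hp ((subgroupOfEquivOfLe hleC).toMonoidHom)
        (subgroupOfEquivOfLe hleC).injective
    have h5 : (P : Subgroup C) ≤ (S ⊔ zpowers (y : G)).subgroupOf C := by
      intro q hq
      exact (le_sup_left : S ≤ _) ⟨q, hq, rfl⟩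
    have h6 := P.3 hp' h5
    have h7 : (⟨(y : G), hyC⟩ : C) ∈ (P : Subgroup C) := by
      rw [← h6]
      exact (le_sup_right : zpowers (y : G) ≤ S ⊔ zpowers (y : G)) (mem_zpowers (y : G))
    exact hyS (⟨_, h7, rfl⟩ : (y : G) ∈ S)
  refine ⟨T, ?_, ?_⟩
  · show z ∈ (T : Subgroup G)
    rw [hTS]; exact hzS
  · intro s hs
    have h1 : s ∈ (T : Subgroup G) := hs
    rw [hTS] at h1
    exact (hmemC s).1 (hSC h1)

theorem transfer_z {G : Type*} [Group G] [Finite G] [IsSimpleGroup G] (hG : ¬ IsMulCommutative G)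
    (z : G) (hz : orderOf z = 2) (X : Subgroup.centralizer ({z} : Set G) →* ℤˣ)
    (hcomm : ∀ (g x : G) (hx : x ∈ Subgroup.centralizer ({z} : Set G))
      (hx' : g⁻¹ * x * g ∈ Subgroup.centralizer ({z} : Set G)), Commute (g * z * g⁻¹) z →
      (∃ n, x ^ (2 ^ n) = 1) → X ⟨x, hx⟩ = X ⟨g⁻¹ * x * g, hx'⟩)
    (hsyl : ∀ S : Subgroup G, IsPGroup 2 S → S ≤ Subgroup.centralizer ({z} : Set G) →
      ¬ 2 ∣ S.relIndex (Subgroup.centralizer ({z} : Set G)) →
      ∀ g, (∀ s ∈ S, Commute s (g * z * g⁻¹)) → g * z * g⁻¹ = z) : X = 1 := by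
  classical
  have : Fact (Nat.Prime 2) := ⟨Nat.prime_two⟩
  obtain ⟨S, hzS, hzc⟩ := exists_sylow_centralizing z hz hsyl
  have hmemC : ∀ y, y ∈ Subgroup.centralizer ({z} : Set G) ↔ y * z = z * y :=
    fun y => mem_centralizer_singleton_iff
  let χ : G → ℤˣ := fun x => if h : x ∈ Subgroup.centralizer ({z} : Set G) then X ⟨x, h⟩ else 1
  have hχ : ∀ x (h : x ∈ Subgroup.centralizer ({z} : Set G)), χ x = X ⟨x, h⟩ := by
    intro x h
    simp only [χ, dif_pos h]
  have key := StandardComponent.LocalTransfer.eq_one_of_simple' (p := 2) hG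
    (fun a : ℤˣ => Int.units_sq a) S hzS hzc χ
    (by
      intro x y hx hy
      have hx' := (hmemC x).2 hx
      have hy' := (hmemC y).2 hy
      rw [hχ x hx', hχ y hy', hχ _ (mul_mem hx' hy'), ← map_mul]
      rfl)
    (by
      intro g hg x hxp hxz hxu
      have hx' := (hmemC x).2 hxz
      have hgx : g⁻¹ * x * g ∈ Subgroup.centralizer ({z} : Set G) := by
        rw [hmemC]
        calc g⁻¹ * x * g * z = g⁻¹ * (x * (g * z * g⁻¹)) * g := by group
          _ = g⁻¹ * (g * z * g⁻¹ * x) * g := by rw [hxu]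
          _ = z * (g⁻¹ * x * g) := by group
      rw [hχ x hx', hχ _ hgx]
      exact (hcomm g x hx' hgx hg hxp).symm)
  apply MonoidHom.ext
  intro x
  have h1 := key x ((hmemC x).1 x.2)
  rw [hχ x x.2] at h1
  rw [MonoidHom.one_apply]
  exact h1

end Cfsg.Agent.StdL34
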