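import Cfsg.Agent.StdL34.Eights
import Cfsg.Agent.StandardComponent.EightMove
import Cfsg.Agent.StdL34.TransferZ

/-!
# Step (10): one class of involutions
-/

set_option autoImplicit false
set_option linter.constructorNameAsVariable false
set_option linter.unusedVariables false

namespace Cfsg.Agent.StdL34

open Cfsg.Agent.SporadicA.FieldFour
open scoped Pointwise

namespace OneClass

variable {L : Type*} [Group L] {A : Cov L} {G : Type*} [Group G]

/-- the eights group as a subgroup of `L` -/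
def VL (A : Cov L) : Subgroup L where
  carrier := {l | InV A l}
  mul_mem' ha hb := InV.mul ha hb
  one_mem' := inV_one
  inv_mem' {a} ha := by
    have : a⁻¹ = a := inv_eq_of_mul_eq_one_left (InV.sq ha)
    show InV A a⁻¹
    rw [this]; exact ha

theorem mem_VL {l : L} : l ∈ VL A ↔ InV A l := Iff.rfl

theorem card_VL : Nat.card (VL A) = 8 := by
  have e : (VL A) ≃ F4 × Bool := by
    symm
    refine Equiv.ofBijective (fun p => ⟨A.el ⟨0, 0, p.1, if p.2 then 2 else 0⟩, p.1, _, ?_, rfl⟩) ⟨?_, ?_⟩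
    · split <;> simp
    · rintro ⟨c, k⟩ ⟨c', k'⟩ h
      have h1 := A.inj (congrArg Subtype.val h)
      have h2 : c = c' := congrArg Code.c h1
      have h3 : (if k then (2 : Fin 4) else 0) = if k' then 2 else 0 := congrArg Code.k h1
      have h4 : k = k' := by
        cases k <;> cases k' <;> first | rfl | (exact absurd h3 (by decide))
      rw [h2, h4]
    · rintro ⟨l, c, k, hk, rfl⟩
      rcases hk with rfl | rfl
      · exact ⟨(c, false), rfl⟩
      · exact ⟨(c, true), rfl⟩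
  rw [Nat.card_congr e, Nat.card_prod, Nat.card_eq_fintype_card, Nat.card_eq_fintype_card]
  rfl

/-- the eights group in `G` -/
def VG (E : Emb A G) : Subgroup G := (VL A).map E.ι

variable {E : Emb A G}

theorem mem_VG {x : G} : x ∈ VG E ↔ ∃ l, InV A l ∧ E.ι l = x := Iff.rfl

theorem ι_mem_VG {l : L} : E.ι l ∈ VG E ↔ InV A l := by
  rw [mem_VG]
  constructor
  · rintro ⟨m, hm, h⟩
    rwa [← E.inj h]
  · intro h; exact ⟨l, h, rfl⟩

theorem card_VG : Nat.card (VG E) = 8 := by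
  rw [VG, Subgroup.card_map_of_injective E.inj, card_VL]

theorem VG_sq {x : G} (hx : x ∈ VG E) : x * x = 1 := by
  obtain ⟨l, hl, rfl⟩ := hx
  rw [← map_mul, InV.sq hl, map_one]

theorem z_mem_VG : E.z ∈ VG E := ι_mem_VG.2 inV_z

theorem z_ne : E.z ≠ 1 := by
  intro h
  have h1 : A.z = 1 := E.inj (h.trans (map_one _).symm)
  rw [← el_cze, ← A.el_one] at h1
  exact absurd (A.inj h1) (by decide)

/-- transvections with centre `z` -/
theorem move_z {c : G} (hc : c ∈ VG E) (h1 : c ≠ 1) (hz : c ≠ E.z) :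
    ∃ n, (∀ x, x ∈ VG E ↔ n * x * n⁻¹ ∈ VG E) ∧ n * c * n⁻¹ = c * E.z := by
  obtain ⟨l, ⟨c, k, hk, rfl⟩, rfl⟩ := hc
  have hc0 : c ≠ 0 := by
    rintro rfl
    rcases hk with rfl | rfl
    · apply h1; rw [A.el_sp, A.sp_zero, map_one]
    · apply hz; rw [A.el_sp, ← A.z_eq]; rfl
  obtain ⟨q, hq⟩ := fin_move A.ty c k hc0 hk
  have hfor : ∀ t ∈ A.T, ∀ x ∈ VG E, E.ι t * x * (E.ι t)⁻¹ ∈ VG E := by
    rintro t ht _ ⟨m, hm, rfl⟩
    rw [← map_inv, ← map_mul, ← map_mul, ι_mem_VG]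
    rcases T_conj hm ht with h | h
    · rw [h]; exact hm
    · rw [h]; exact InV.mul_z hm
  refine ⟨E.ι (A.el q), ?_, ?_⟩
  · intro x
    constructor
    · exact hfor _ (A.el_mem q) x
    · intro hx
      have h2 := hfor _ (inv_mem (A.el_mem q)) _ hx
      rw [map_inv] at h2
      have h3 : (E.ι (A.el q))⁻¹ * (E.ι (A.el q) * x * (E.ι (A.el q))⁻¹) * (E.ι (A.el q))⁻¹⁻¹ = x := by
        group
      rwa [h3] at h2
  · rw [mul_inv_eq_iff_eq_mul]
    have hz' : E.z = E.ι (A.el cze) := by rw [el_cze]; rfl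
    rw [hz', ← map_mul, ← map_mul, ← map_mul, A.el_mul, A.el_mul, A.el_mul, hq]

/-- Elements acting as inner automorphisms. -/
theorem mem_ι_of_inner
    (hK : ∀ k, (∀ y, Commute k (E.ι y)) → (∃ n, k ^ 2 ^ n = 1) → ∃ j, k = E.ι (A.sp j))
    {t : G} (ht : t * t = 1) {α : MulAut L} (h : E.Act t α) (hα : A.HasTy α (false, false)) :
    ∃ i : L, t = E.ι i := by
  obtain ⟨l, rfl⟩ := hα.inner
  -- k := ι(l)⁻¹ t centralizes the component
  have hk : (E.ι l)⁻¹ * t ∈ E.K := by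
    rw [← Emb.act_one_iff]
    have := (Emb.act_ι (E := E) l).inv.mul h
    rwa [inv_mul_cancel] at this
  rw [Emb.mem_K] at hk
  have hc : Commute t (E.ι l) := by
    have h2 := hk l
    have h3 : Commute (E.ι l * ((E.ι l)⁻¹ * t)) (E.ι l) := (Commute.refl _).mul_left h2
    rwa [mul_inv_cancel_left] at h3
  have h1 : ((E.ι l)⁻¹ * t) * ((E.ι l)⁻¹ * t) = E.ι (l⁻¹ * l⁻¹) := by
    calc ((E.ι l)⁻¹ * t) * ((E.ι l)⁻¹ * t) = (E.ι l)⁻¹ * (t * (E.ι l)⁻¹) * t := by group
      _ = (E.ι l)⁻¹ * ((E.ι l)⁻¹ * t) * t := by rw [hc.inv_right.eq]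
      _ = (E.ι l)⁻¹ * (E.ι l)⁻¹ * (t * t) := by group
      _ = _ := by rw [ht, mul_one]; simp
  have h2 : MulAut.conj (l⁻¹ * l⁻¹) = 1 := by
    ext y
    rw [MulAut.conj_apply, MulAut.one_apply]
    apply E.inj
    rw [map_mul, map_mul, map_inv, ← h1]
    have h3 : Commute (((E.ι l)⁻¹ * t) * ((E.ι l)⁻¹ * t)) (E.ι y) := (hk y).mul_left (hk y)
    rw [h3.eq, mul_inv_cancel_right]
  obtain ⟨j, hj⟩ := Cov.conj_eq_one h2
  have h4 : ((E.ι l)⁻¹ * t) ^ 2 ^ 3 = 1 := by
    have h5 : ((E.ι l)⁻¹ * t) ^ 2 ^ 3 = (((E.ι l)⁻¹ * t) * ((E.ι l)⁻¹ * t)) ^ 4 := by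
      rw [← pow_two, ← pow_mul]
      norm_num
    rw [h5, h1, hj, ← map_pow]
    have h6 : A.sp j ^ 4 = 1 := by
      show (A.s ^ (j : ℕ)) ^ 4 = 1
      rw [← pow_mul, mul_comm, pow_mul, A.s_pow, one_pow]
    rw [h6, map_one]
  obtain ⟨j', hj'⟩ := hK _ hk ⟨3, h4⟩
  refine ⟨l * A.sp j', ?_⟩
  rw [map_mul, ← hj', mul_inv_cancel_left]

/-- An involutory automorphism of `L` fixes some conjugate of `T`. -/
theorem exists_fixed_T [Finite L] (α : MulAut L) (hα : α * α = 1) :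
    ∃ l : L, ∀ t ∈ A.T, (MulAut.conj l * α * (MulAut.conj l)⁻¹) t ∈ A.T := by
  classical
  have : Fact (Nat.Prime 2) := ⟨Nat.prime_two⟩
  -- T as a Sylow subgroup
  have hTp : IsPGroup 2 A.T := by
    rintro ⟨_, p, rfl⟩
    refine ⟨4, ?_⟩
    apply Subtype.ext
    show (A.el p) ^ 2 ^ 4 = 1
    have h1 := pow16 A.ty p
    have h2 := congrArg A.el h1
    simp only [← A.el_mul] at h2
    rw [A.el_one] at h2
    rw [← h2, show (2 : ℕ) ^ 4 = 16 from rfl]
    simp only [pow_succ, pow_zero, one_mul, mul_assoc]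
  let Ts : Sylow 2 L := hTp.toSylow A.T_index
  have hTs : (Ts : Subgroup L) = A.T := rfl
  -- the group generated by α
  have hZ : IsPGroup 2 (Subgroup.zpowers α) := by
    rintro ⟨y, hy⟩
    obtain ⟨m, rfl⟩ := Subgroup.mem_zpowers_iff.mp hy
    refine ⟨1, ?_⟩
    apply Subtype.ext
    show (α ^ m) ^ 2 ^ 1 = 1
    rw [pow_one, pow_two, ← zpow_add, ← two_mul, zpow_mul]
    have : α ^ (2 : ℤ) = 1 := by rw [zpow_two, hα]
    rw [this, one_zpow]
  have hcard : ¬ 2 ∣ Nat.card (Sylow 2 L) := not_dvd_card_sylow 2 L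
  obtain ⟨P, hP⟩ := hZ.nonempty_fixed_point_of_prime_not_dvd_card (Sylow 2 L) hcard
  have hPα : α • P = P := hP ⟨α, Subgroup.mem_zpowers α⟩
  obtain ⟨l, hl⟩ := MulAction.exists_smul_eq L P Ts
  -- conj l • P = Ts
  have hl' : MulAut.conj l • P = Ts := hl
  refine ⟨l, ?_⟩
  have hfix : (MulAut.conj l * α * (MulAut.conj l)⁻¹) • Ts = Ts := by
    rw [← hl', smul_smul, mul_assoc, inv_mul_cancel, mul_one, mul_smul, hPα]
  intro t ht
  have h1 : t ∈ (Ts : Subgroup L) := ht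
  have h2 : (MulAut.conj l * α * (MulAut.conj l)⁻¹) t ∈
      ((MulAut.conj l * α * (MulAut.conj l)⁻¹) • Ts : Sylow 2 L) := ⟨t, h1, rfl⟩
  rw [hfix] at h2
  exact h2

/-- Step (10): every involution commuting with `z` is conjugate to `z`. -/
theorem one_class' [Finite L] (E : Emb A G)
    (hker : ∀ m α, Commute m E.z → E.Act m α → A.HasTy α (false, false) ∨ A.HasTy α (true, true))
    (hK : ∀ k, (∀ y, Commute k (E.ι y)) → (∃ n, k ^ 2 ^ n = 1) → ∃ j, k = E.ι (A.sp j))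
    (h4 : ∀ i : L, i * i = 1 → i ≠ 1 → ∃ g, g * E.z * g⁻¹ = E.ι i)
    (h8 : ∀ (c : F4) (k : Fin 4), c ≠ 0 → (k = 0 ∨ k = 2) →
      ∃ g, (E.conj g).z = E.ι (A.el ⟨0, 0, c, k⟩) ∧ VG (E.conj g) = VG E) :
    ∀ t, t * t = 1 → t ≠ 1 → Commute t E.z → ∃ g, g * E.z * g⁻¹ = t := by
  -- inner involutions
  have hinner : ∀ t, t * t = 1 → t ≠ 1 → ∀ α, E.Act t α → A.HasTy α (false, false) →
      ∃ g, g * E.z * g⁻¹ = t := by
    intro t ht ht1 α hα hty
    obtain ⟨i, rfl⟩ := mem_ι_of_inner hK ht hα hty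
    refine h4 i ?_ ?_
    · apply E.inj; rw [map_mul, ht, map_one]
    · rintro rfl; exact ht1 (map_one _)
  intro t ht ht1 htz
  obtain ⟨α, hα⟩ := E.exists_act htz
  rcases hker t α htz hα with hty | hty
  · exact hinner t ht ht1 α hα hty
  -- outer case: conjugate so that T is normalized
  have hαα : α * α = 1 := by
    have h1 := hα.mul hα
    rw [ht] at h1
    exact h1.unique Emb.Act.one
  obtain ⟨l, hl⟩ := exists_fixed_T (A := A) α hαα
  set t' : G := E.ι l * t * (E.ι l)⁻¹ with ht'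
  set α' : MulAut L := MulAut.conj l * α * (MulAut.conj l)⁻¹ with hα'
  have hact' : E.Act t' α' := ((Emb.act_ι (E := E) l).mul hα).mul (Emb.act_ι (E := E) l).inv
  have ht'2 : t' * t' = 1 := by
    calc t' * t' = E.ι l * (t * t) * (E.ι l)⁻¹ := by rw [ht']; group
      _ = 1 := by rw [ht]; group
  have hty' : A.HasTy α' (true, true) := hty.conj _
  have hzι := Case2.z_comm_ι E l
  have ht'z : Commute t' E.z := by
    have h1 := htz.conj (E.ι l)
    have h2 : E.ι l * E.z * (E.ι l)⁻¹ = E.z := by rw [← hzι.eq, mul_inv_cancel_right]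
    rw [h2] at h1
    exact h1
  have hαz : α' A.z = A.z := (hact'.commute_iff A.z).1 ht'z
  -- the eights group is normalized
  have hinvT : ∀ x ∈ A.T, α'⁻¹ x ∈ A.T := by
    -- α' is an involution
    intro x hx
    have h1 : α'⁻¹ = α' := by
      apply inv_eq_of_mul_eq_one_left
      have h2 := hact'.mul hact'
      rw [ht'2] at h2
      exact h2.unique Emb.Act.one
    rw [h1]
    exact hl x hx
  have hVα : ∀ v, InV A v → InV A (α' v) := by
    intro v hv
    rw [inV_iff (hl v hv.mem_T)]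
    have h1 := (inV_iff hv.mem_T).1 hv
    refine ⟨by rw [← map_mul, h1.1, map_one], ?_⟩
    intro x hx
    have h2 := h1.2 _ (hinvT x hx)
    have h3 : α' (α'⁻¹ x) = x := α'.apply_symm_apply x
    rcases h2 with h2 | h2
    · left
      have h4 := congrArg α' h2
      rwa [map_mul, map_mul, h3] at h4
    · right
      have h4 := congrArg α' h2
      rwa [map_mul, map_mul, map_mul, h3, hαz] at h4
  have hVG : ∀ x ∈ VG E, t' * x * t'⁻¹ ∈ VG E := by
    rintro _ ⟨v, hv, rfl⟩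
    rw [hact']
    exact ι_mem_VG.2 (hVα v hv)
  have hVn : ∃ x ∈ VG E, t' * x ≠ x * t' := by
    by_contra hcon
    push Not at hcon
    apply not_trans hty'
    intro c
    left
    apply (hact'.commute_iff _).1
    exact hcon _ (ι_mem_VG.2 (inV_x c))
  -- all transvections are induced
  have hmove : ∀ u ∈ VG E, u ≠ 1 → ∀ c ∈ VG E, c ≠ 1 → c ≠ u →
      ∃ n, (∀ x, x ∈ VG E ↔ n * x * n⁻¹ ∈ VG E) ∧ n * c * n⁻¹ = c * u := by
    intro u hu hu1 c hc hc1 hcu
    by_cases huz : u = E.z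
    · subst huz
      exact move_z hc hc1 hcu
    · obtain ⟨v, ⟨b, k, hk, rfl⟩, rfl⟩ := hu
      have hb0 : b ≠ 0 := by
        rintro rfl
        rcases hk with rfl | rfl
        · apply hu1
          rw [A.el_sp, A.sp_zero]
          exact map_one _
        · apply huz
          rw [A.el_sp, ← A.z_eq]; rfl
      obtain ⟨g, hg1, hg2⟩ := h8 b k hb0 hk
      have h1 := move_z (E := E.conj g) (c := c) (by rw [hg2]; exact hc) hc1
        (by rw [hg1]; exact hcu)
      rw [hg2, hg1] at h1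
      exact h1
  obtain ⟨n, hn, hnz, hnact⟩ := StandardComponent.EightMove.exists_conj (VG E) (fun x hx => VG_sq hx)
    card_VG z_mem_VG z_ne hmove t' ht'2 hVG hVn
  set v : G := n * t' * n⁻¹ with hv
  have hv2 : v * v = 1 := by
    calc v * v = n * (t' * t') * n⁻¹ := by rw [hv]; group
      _ = 1 := by rw [ht'2]; group
  have ht'1 : t' ≠ 1 := by
    intro h
    apply ht1
    calc t = (E.ι l)⁻¹ * t' * E.ι l := by rw [ht']; group
      _ = 1 := by rw [h]; group
  have hv1 : v ≠ 1 := by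
    intro h
    apply ht'1
    calc t' = n⁻¹ * v * n := by rw [hv]; group
      _ = 1 := by rw [h]; group
  obtain ⟨γ, hγ⟩ := E.exists_act hnz
  have hγty : A.HasTy γ (false, false) := by
    rcases hker v γ hnz hγ with h | h
    · exact h
    · exfalso
      apply not_trans h
      intro c
      have h1 := hnact (E.ι (A.x 0 2 c)) (ι_mem_VG.2 (inV_x c))
      rw [hγ] at h1
      rcases h1 with h1 | h1
      · left; exact E.inj h1
      · right
        apply E.inj
        rw [h1, map_mul]; rfl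
  obtain ⟨g, hg⟩ := hinner v hv2 hv1 γ hγ hγty
  refine ⟨(E.ι l)⁻¹ * n⁻¹ * g, ?_⟩
  calc (E.ι l)⁻¹ * n⁻¹ * g * E.z * ((E.ι l)⁻¹ * n⁻¹ * g)⁻¹
      = (E.ι l)⁻¹ * (n⁻¹ * (g * E.z * g⁻¹) * n) * E.ι l := by group
    _ = (E.ι l)⁻¹ * t' * E.ι l := by rw [hg, hv]; group
    _ = t := by rw [ht']; group

end OneClass

end Cfsg.Agent.StdL34
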