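import Cfsg.Agent.StdL34.ChiOne
import Cfsg.Agent.StdL34.EightsOfAA
import Cfsg.Agent.StdL34.OneClass
import Cfsg.Agent.StdL34.Eight

/-!
# All involutions are conjugate
-/

set_option autoImplicit false
set_option linter.constructorNameAsVariable false
set_option linter.unusedVariables false

namespace Cfsg.Agent.StdL34

open Cfsg.Agent.SporadicA.FieldFour

namespace Emb

variable {L : Type*} [Group L] {A : Cov L} {G : Type*} [Group G] {E : Emb A G}

theorem hAA [Finite G] : ∀ (E : Emb A G) (w : G), E.Pair w → E.AA = (E.conj w).AA :=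
  fun _ _ hP => Eight.AA_eq hP

/-- all involutions of `G` are conjugate to `z` -/
theorem all_inv [Finite L] [Finite G] [IsSimpleGroup G] (hG : ¬ IsMulCommutative G) (E : Emb A G)
    {g : G} (hc : Commute (g * E.z * g⁻¹) E.z) (hne : g * E.z * g⁻¹ ≠ E.z) :
    ∀ t : G, orderOf t = 2 → ∃ g, g * E.z * g⁻¹ = t := by
  have : Fact (Nat.Prime 2) := ⟨Nat.prime_two⟩
  obtain ⟨w, hP⟩ := exists_pair hc hne
  have hty := (sAct hP).1
  have key := OneClass.one_class' E ?_ ?_ ?_ ?_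
  · obtain ⟨S, hzS, hS⟩ := exists_sylow_centralizing E.z (orderOf_z E)
      (fun S h1 h2 h3 g hg => E.hsyl S h1 h2 h3 g hg)
    intro t ht
    have ht2 : t * t = 1 := by rw [← pow_two, ← ht]; exact pow_orderOf_eq_one t
    have ht1 : t ≠ 1 := by rintro rfl; rw [orderOf_one] at ht; exact absurd ht (by decide)
    have hp : IsPGroup 2 (Subgroup.zpowers t) := by
      apply IsPGroup.of_card (n := 1)
      rw [Nat.card_zpowers, ht, pow_one]
    obtain ⟨S', hS'⟩ := hp.exists_le_sylow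
    obtain ⟨c, hc'⟩ := MulAction.exists_smul_eq G S' S
    have h1 : c * t * c⁻¹ ∈ S := by
      rw [← hc']
      have h2 : t ∈ S' := hS' (Subgroup.mem_zpowers t)
      exact ⟨t, h2, rfl⟩
    obtain ⟨h, hh⟩ := key (c * t * c⁻¹) (by
        calc (c * t * c⁻¹) * (c * t * c⁻¹) = c * (t * t) * c⁻¹ := by group
          _ = 1 := by rw [ht2]; group)
      (by
        intro h3
        apply ht1
        have : t = c⁻¹ * (c * t * c⁻¹) * c := by group
        rw [this, h3]; group) (hS _ h1)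
    refine ⟨c⁻¹ * h, ?_⟩
    calc c⁻¹ * h * E.z * (c⁻¹ * h)⁻¹ = c⁻¹ * (h * E.z * h⁻¹) * c := by group
      _ = t := by rw [hh]; group
  · intro m α hm hα
    obtain ⟨τ, hτ⟩ := A.hasTy α
    rcases ty_cases hG E hAA ⟨α, hα, hτ⟩ with rfl | rfl
    · exact Or.inl hτ
    · exact Or.inr hτ
  · intro k hk hn
    obtain ⟨j, hj⟩ := Eight.K_two hP k (mem_K.mpr hk) hn
    refine ⟨⟨j % 4, Nat.mod_lt _ (by norm_num)⟩, ?_⟩
    rw [hj]
    unfold s Cov.sp
    rw [← map_pow]
    congr 1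
    show A.s ^ j = A.s ^ (j % 4)
    conv_lhs => rw [← Nat.div_add_mod j 4, pow_add, pow_mul, A.s_pow, one_pow, one_mul]
  · intro i hi hi1
    by_cases h1 : MulAut.conj i = 1
    · obtain ⟨k, rfl⟩ := A.conj_eq_one h1
      rw [A.sp_add, A.sp_eq_one] at hi
      have hk : k = 0 ∨ k = 2 := by revert hi; clear * -; revert k; decide
      rcases hk with rfl | rfl
      · exact absurd A.sp_zero hi1
      · exact ⟨1, by rw [← A.z_eq]; show 1 * E.z * 1⁻¹ = E.z; group⟩
    · obtain ⟨m, hm⟩ := A.invol_conj i h1 hi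
      refine ⟨(E.ι m)⁻¹ * w, ?_⟩
      have h2 : E.ι m * E.ι i * (E.ι m)⁻¹ = E.u := by
        rw [← map_inv, ← map_mul, ← map_mul, hm]; rfl
      calc (E.ι m)⁻¹ * w * E.z * ((E.ι m)⁻¹ * w)⁻¹ = (E.ι m)⁻¹ * (w * E.z * w⁻¹) * E.ι m := by group
        _ = E.ι i := by rw [hP.1, ← h2]; group
  · intro c k hc hk
    exact OneClass.h8_of_AA hty hP (hAA E w hP) c k hc hk

end Emb

end Cfsg.Agent.StdL34
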