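import Cfsg.Agent.StdL34.OfStandard
import Cfsg.Prelude.Def_Spor_ON

/-!
# Assembly: from the final structure of `C(z)` to the hypotheses of the O'Nan recognition theorem
-/

set_option autoImplicit false

namespace Cfsg.Agent.StdL34

open Subgroup
open Cfsg.Agent.SporadicA.FieldFour

/-- The recognition theorem for the O'Nan group, as a property of `G`. -/
def ONRec (G : Type*) [Group G] [Finite G] [IsSimpleGroup G] : Prop :=
  ∀ (t : G) (_ : orderOf t = 2) (M : Subgroup (Subgroup.centralizer ({t} : Set G))) (_ : M.Normal)
    (_ : M.index = 2)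
    (_ : Subgroup.centralizer (M : Set (Subgroup.centralizer ({t} : Set G))) ≤ M)
    (_ : IsCyclic (Subgroup.center M)) (_ : Nat.card (Subgroup.center M) = 4)
    (_ : commutator M = ⊤) (_ : M ⧸ Subgroup.center M ≃* Matrix.ProjectiveSpecialLinearGroup (Fin 3) F4),
    Cfsg.Spor.IsoON G

/-- The final conclusion of the analysis of a standard `4·L₃(4)`. -/
structure Final (G : Type*) [Group G] (L : Subgroup G) (z : G) : Prop where
  cent : centralizer (L : Set G) ≤ L
  index : (L.subgroupOf (centralizer ({z} : Set G))).index = 2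

theorem assemble {G : Type*} [Group G] [Finite G] [IsSimpleGroup G] (hON : ONRec G)
    (L : Subgroup G) (s : G) (Fd : Found L s)
    (hc : IsCyclic ↥(Subgroup.center ↥L)) (h4 : Nat.card ↥(Subgroup.center ↥L) = 4)
    {F : Type*} [Field F] [Fintype F] (hF : Fintype.card F = 4)
    (e : ↥L ⧸ Subgroup.center ↥L ≃* Matrix.ProjectiveSpecialLinearGroup (Fin 3) F)
    (hfin : Final G L (s ^ 2)) : Cfsg.Spor.IsoON G := by
  classical
  obtain ⟨e'⟩ := nonempty_psl_equiv (n := Fin 3) F hF
  set z : G := s ^ 2 with hz
  have hz1 : orderOf z = 2 := by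
    rw [hz, orderOf_pow' s (by norm_num), Fd.s_ord]; rfl
  have hle : L ≤ centralizer ({z} : Set G) := by
    rw [hz, Fd.cent_eq]; exact le_normalizer
  set C := centralizer ({z} : Set G) with hC
  set M := L.subgroupOf C with hM
  let eM : M ≃* L := Subgroup.subgroupOfEquivOfLe hle
  have hcm : (center M).map (eM : M →* L) = center L := map_center_eq eM
  have ec : center M ≃* center L :=
    ((center M).equivMapOfInjective (eM : M →* L) eM.injective).trans (MulEquiv.subgroupCongr hcm)
  refine hON z hz1 M (Subgroup.normal_of_index_eq_two hfin.index) hfin.index ?_ ?_ ?_ ?_ ?_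
  · intro c hcc
    rw [hM, mem_subgroupOf]
    apply hfin.cent
    rw [mem_centralizer_iff]
    intro y hy
    rw [mem_centralizer_iff] at hcc
    exact congrArg Subtype.val (hcc ⟨y, hle hy⟩ hy)
  · haveI := hc
    exact isCyclic_of_surjective ec.symm ec.symm.surjective
  · rw [Nat.card_congr ec.toEquiv, h4]
  · have h1 := Fd.perfect
    have h2 : (commutator L).map (eM.symm : L →* M) = commutator M := by
      rw [commutator_def, Subgroup.map_commutator]
      have : (⊤ : Subgroup L).map (eM.symm : L →* M) = ⊤ := by
        rw [← MonoidHom.range_eq_map]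
        exact MonoidHom.range_eq_top.2 eM.symm.surjective
      rw [this]; rfl
    rw [← h2, h1, ← MonoidHom.range_eq_map]
    exact MonoidHom.range_eq_top.2 eM.symm.surjective
  · exact (QuotientGroup.congr (center M) (center L) eM hcm).trans (e.trans e'.symm)

end Cfsg.Agent.StdL34
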