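import Cfsg.Agent.StdL34.Code

/-!
# Finite facts on codes
-/

set_option autoImplicit false
set_option linter.constructorNameAsVariable false

namespace Cfsg.Agent.StdL34

open Cfsg.Agent.SporadicA.FieldFour

/-- central codes -/
def cz (p : Code) : Prop := p.a = 0 ∧ p.b = 0 ∧ p.c = 0

instance (p : Code) : Decidable (cz p) := by unfold cz; infer_instance

/-- membership of a code in the centraliser of `x₀₂(1)` -/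
def t0 (p : Code) : Prop := trF (p.a + p.b) = false

instance (p : Code) : Decidable (t0 p) := by unfold t0; infer_instance

/-- drop the central part -/
def nk (p : Code) : Code := ⟨p.a, p.b, p.c, 0⟩

/-- generators of the centraliser of `x₀₂(1)` -/
def T0 : List Code := [⟨0, 0, F4.w, 0⟩, ⟨1, 0, 0, 0⟩, ⟨0, 1, 0, 0⟩, ⟨F4.w, F4.w, 0, 0⟩, ⟨0, 0, 0, 1⟩]

theorem pow16 : ∀ ty p, cmul ty (cmul ty (cmul ty (cmul ty p p) (cmul ty p p))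
    (cmul ty (cmul ty p p) (cmul ty p p))) (cmul ty (cmul ty (cmul ty p p) (cmul ty p p))
    (cmul ty (cmul ty p p) (cmul ty p p))) = cone := by
  decide +kernel

theorem inv_inner : ∀ ty a b c, cz (cmul ty ⟨a, b, c, 0⟩ ⟨a, b, c, 0⟩) → ¬ cz ⟨a, b, c, 0⟩ → 
    ∃ a' b', (fun r : Code => (r.a = 0 ∧ r.b = 0) ∨ (r.b = 0 ∧ r.c = 0) ∨ (r.a = 0 ∧ r.c = 0))
      (cmul ty (cmul ty ⟨a', b', 0, 0⟩ ⟨a, b, c, 0⟩) (cinv ty ⟨a', b', 0, 0⟩)) := by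
  decide +kernel

theorem inv_outer : ∀ ty (τ : Ty) a b c, τ ≠ (false, false) →
    cz (cmul ty (ctau ty τ ⟨a, b, c, 0⟩) ⟨a, b, c, 0⟩) → 
    ∃ a' b' c', cz (cmul ty (ctau ty τ ⟨a', b', c', 0⟩)
      (cmul ty ⟨a, b, c, 0⟩ (cinv ty ⟨a', b', c', 0⟩))) := by
  decide +kernel

theorem fix_T0 : ∀ ty (τ : Ty) a b c, (∀ y ∈ T0, cact ty ⟨a, b, c, 0⟩ τ y = y) →
    τ = (false, false) ∧ a = 0 ∧ b = 0 ∧ (c = 0 ∨ c = 1) := by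
  decide +kernel

theorem fix_T : ∀ ty (τ : Ty) a b c, (∀ y ∈ (⟨0, F4.w, 0, 0⟩ :: T0), cact ty ⟨a, b, c, 0⟩ τ y = y) →
    τ = (false, false) ∧ a = 0 ∧ b = 0 ∧ c = 0 := by
  decide +kernel

/-- inclusion of fixed points -/
def fixle (ty : Bool) (p : Code) (τ : Ty) (q : Code) (ρ : Ty) : Prop :=
  ∀ y, cact ty p τ y = y → cact ty q ρ y = y

instance (ty : Bool) (p : Code) (τ : Ty) (q : Code) (ρ : Ty) : Decidable (fixle ty p τ q ρ) := by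
  unfold fixle
  exact decidable_of_iff (∀ a b c k, cact ty p τ ⟨a, b, c, k⟩ = ⟨a, b, c, k⟩ →
    cact ty q ρ ⟨a, b, c, k⟩ = ⟨a, b, c, k⟩) ⟨fun h y => h _ _ _ _, fun h a b c k => h _⟩

theorem all_outer : ∀ ty (τ ρ : Ty) a b c, τ ≠ (false, false) → ρ ≠ (false, false) → τ ≠ ρ →
    cz (cmul ty (ctau ty ρ ⟨a, b, c, 0⟩) ⟨a, b, c, 0⟩) →
    cz (cmul ty (ctau ty τ ⟨a, b, c, 0⟩) (cinv ty ⟨a, b, c, 0⟩)) →
    fixle ty cone τ ⟨a, b, c, 0⟩ ρ →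
    ¬ fixle ty (ctau ty τ ⟨a, b, c, 0⟩) (τ.mul ρ) ⟨a, b, c, 0⟩ ρ := by
  decide +kernel

/-- congruence modulo the centre -/
def cq (p q : Code) : Prop := p.a = q.a ∧ p.b = q.b ∧ p.c = q.c

instance (p q : Code) : Decidable (cq p q) := by unfold cq; infer_instance

theorem s_act : ∀ ty (τ : Ty) a b c,
    cq (cmul ty (ctau ty τ ⟨a, b, c, 0⟩) ⟨a, b, c, 0⟩) ⟨0, 0, 1, 0⟩ →
    (∀ y ∈ T0, cact ty ⟨a, b, c, 0⟩ τ y = y ∨ cact ty ⟨a, b, c, 0⟩ τ y = cmul ty y ⟨0, 0, 1, 0⟩) →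
    ty = true ∧ τ = (false, false) ∧ a = 1 ∧ b = 1 := by
  decide +kernel

theorem k_act : ∀ (τ : Ty) a b c c', τ.2 = false →
    cq (cmul true (ctau true τ ⟨a, b, c, 0⟩) ⟨a, b, c, 0⟩) ⟨1, 1, c', 0⟩ →
    ¬ (∀ y ∈ T0, cq (cact true ⟨a, b, c, 0⟩ τ y) y ∨
      cq (cact true ⟨a, b, c, 0⟩ τ y) (cmul true y ⟨1, 1, c', 0⟩) ∨
      cq (cact true ⟨a, b, c, 0⟩ τ y) (cmul true y ⟨0, 0, 1, 0⟩) ∨
      cq (cact true ⟨a, b, c, 0⟩ τ y) (cmul true y ⟨1, 1, c' + 1, 0⟩)) := by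
  decide +kernel

/-- codes of the elements of `A` -/
def sa (y : F4 × F4 × Fin 4) : Code := ⟨y.1, y.1, y.2.1, y.2.2⟩

/-- number of fixed points on `A` -/
def nfix (p : Code) (τ : Ty) : ℕ :=
  ((Finset.univ : Finset (F4 × F4 × Fin 4)).filter (fun y => cact true p τ (sa y) = sa y)).card

theorem sigma_fix : ∀ a b c, nfix ⟨a, b, c, 0⟩ (true, false) ≤ 16 := by
  decide +kernel

theorem chi_crit : ∀ (τ : Ty) a b c, trF (a + b) = false →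
    (xor τ.1 τ.2 = true ↔ (nfix ⟨a, b, c, 0⟩ τ = 16 ∨
      ∀ a' c' k, cact true ⟨a, b, c, 0⟩ τ ⟨a', a', c', k⟩ = cinv true ⟨a', a', c', k⟩)) := by
  decide +kernel

theorem sq_fix : ∀ ty (τ : Ty), invs ty τ = true → ¬ (ty = true ∧ τ = (false, true)) →
    ∃ a b c k, ctau ty τ ⟨a, b, c, k⟩ = ⟨a, b, c, k⟩ ∧
      (cmul ty ⟨a, b, c, k⟩ ⟨a, b, c, k⟩ = ⟨0, 0, 1, 0⟩ ∨
        cmul ty ⟨a, b, c, k⟩ ⟨a, b, c, k⟩ = ⟨0, 0, 1, 2⟩) := by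
  decide +kernel

theorem conj_fix : ∀ ty (τ : Ty), invs ty τ = true →
    ∃ a b c k, (cmul ty ⟨a, b, c, k⟩ (cinv ty (ctau ty τ ⟨a, b, c, k⟩)) = ⟨0, 0, 1, 0⟩ ∨
      cmul ty ⟨a, b, c, k⟩ (cinv ty (ctau ty τ ⟨a, b, c, k⟩)) = ⟨0, 0, 1, 2⟩) := by
  decide +kernel

end Cfsg.Agent.StdL34
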