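import Cfsg.Agent.StdL34.Aut

/-!
# Involutory automorphisms of `4.L3(4)`
-/

set_option autoImplicit false
set_option linter.constructorNameAsVariable false
set_option linter.unusedVariables false

namespace Cfsg.Agent.StdL34

open Cfsg.Agent.SporadicA.FieldFour
open Cfsg.Agent.ONType.Psl (kap)
open Cfsg.Agent.ONType.OuterL (rv rv_ne rv_rv)

theorem ctau_one (ty : Bool) (p : Code) : ctau ty (false, false) p = p := by
  obtain ⟨a, b, c, k⟩ := p
  cases ty <;> rfl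

theorem Ty.eq_of_mul : ∀ τ ρ : Ty, τ.mul ρ = (false, false) → ρ = τ := by decide

theorem Ty.mul_mul : ∀ τ ρ : Ty, (ρ.mul τ).mul ρ = τ := by decide

theorem cz_nk {p : Code} : cz (nk p) ↔ cz p := Iff.rfl

namespace Cov

variable {L : Type*} [Group L] {A : Cov L}

theorem cz_el {p : Code} (h : cz p) : A.el p = A.sp p.k := by
  obtain ⟨a, b, c, k⟩ := p
  obtain ⟨rfl, rfl, rfl⟩ := h
  exact A.el_sp k

theorem conj_cz {p : Code} (h : cz p) : MulAut.conj (A.el p) = 1 := by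
  rw [cz_el h, conj_sp]

theorem Cd.of_cz {α : MulAut L} {p : Code} {τ : Ty} (h : A.Cd α p τ) (hp : cz p) : A.IsTau τ α := by
  unfold Cd at h
  rwa [conj_cz hp, one_mul] at h

/-- an automorphism fixing `T` pointwise -/
theorem Cd.eq_one {α : MulAut L} {p : Code} {τ : Ty} (h : A.Cd α p τ)
    (hf : ∀ y ∈ (⟨0, F4.w, 0, 0⟩ :: T0 : List Code), α (A.el y) = A.el y) :
    τ = (false, false) ∧ cz p ∧ α = 1 := by
  have h' := h.nk
  have := fix_T A.ty τ p.a p.b p.c (fun y hy => by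
    apply A.inj
    have := hf y hy
    rw [h'.apply] at this
    exact this)
  obtain ⟨h1, h2, h3, h4⟩ := this
  have hcz : cz p := ⟨h2, h3, h4⟩
  refine ⟨h1, hcz, ?_⟩
  have := h.of_cz hcz
  rw [h1] at this
  exact this.ext isTau_one

theorem Cd.one {p : Code} {τ : Ty} (h : A.Cd 1 p τ) : τ = (false, false) ∧ cz p := by
  have := h.eq_one (fun y _ => rfl)
  exact ⟨this.1, this.2.1⟩

theorem cz_of_conj {p : Code} (h : MulAut.conj (A.el p) = 1) : cz p := by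
  have : A.Cd 1 p (false, false) := by
    unfold Cd
    rw [h, one_mul]
    exact isTau_one
  exact this.one.2

theorem mem_of_commute {l : L} (h : l * A.x 0 2 1 = A.x 0 2 1 * l) : ∃ p, A.el p = l := by
  obtain ⟨p, hp⟩ := A.cent l h
  exact ⟨p, hp.symm⟩

/-- the centre -/
theorem conj_eq_one {l : L} (h : MulAut.conj l = 1) : ∃ k, l = A.sp k := by
  have h1 : l * A.x 0 2 1 = A.x 0 2 1 * l := by
    have := DFunLike.congr_fun h (A.x 0 2 1)
    rw [MulAut.conj_apply, MulAut.one_apply] at this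
    exact mul_inv_eq_iff_eq_mul.mp this
  obtain ⟨p, rfl⟩ := mem_of_commute h1
  exact ⟨p.k, cz_el (cz_of_conj h)⟩

theorem IsTau.unique {τ ρ : Ty} {β : MulAut L} {n : L} (h : A.IsTau τ β)
    (h' : A.IsTau ρ (MulAut.conj n * β)) : ρ = τ ∧ MulAut.conj n = 1 := by
  have h1 : n * A.x 0 2 1 = A.x 0 2 1 * n := by
    have h2 := h'.x02 1
    rw [MulAut.mul_apply, h.x02 1, MulAut.conj_apply] at h2
    have e1 : ∀ e, fr e (1 : F4) = 1 := by decide
    rw [e1, e1] at h2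
    exact mul_inv_eq_iff_eq_mul.mp h2
  obtain ⟨p, rfl⟩ := mem_of_commute h1
  have h2 : A.Cd β p ρ := h'
  have h3 := (IsTau.cd h).inv
  have h4 := h3.mul h2
  rw [inv_mul_cancel] at h4
  have h5 := h4.one
  have h6 : ρ = τ := Ty.eq_of_mul _ _ h5.1
  subst h6
  refine ⟨rfl, ?_⟩
  have h7 : MulAut.conj (A.el p) * β = β := IsTau.ext h' h
  exact mul_eq_right.mp h7

variable (A) in
/-- outer type of an automorphism -/
def HasTy (α : MulAut L) (τ : Ty) : Prop := ∃ l, A.IsTau τ (MulAut.conj l * α)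

theorem hasTy (α : MulAut L) : ∃ τ, A.HasTy α τ := by
  obtain ⟨l, τ, h⟩ := A.exists_tau α
  exact ⟨τ, l, h⟩

theorem HasTy.unique {α : MulAut L} {τ ρ : Ty} (h : A.HasTy α τ) (h' : A.HasTy α ρ) : τ = ρ := by
  obtain ⟨l, hl⟩ := h
  obtain ⟨m, hm⟩ := h'
  have e : MulAut.conj m * α = MulAut.conj (m * l⁻¹) * (MulAut.conj l * α) := by
    rw [map_mul, map_inv]; group
  rw [e] at hm
  exact (hl.unique hm).1.symm

theorem IsTau.hasTy {τ : Ty} {α : MulAut L} (h : A.IsTau τ α) : A.HasTy α τ :=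
  ⟨1, by rwa [map_one, one_mul]⟩

theorem Cd.hasTy {τ : Ty} {p : Code} {α : MulAut L} (h : A.Cd α p τ) : A.HasTy α τ :=
  ⟨A.el p, h⟩

theorem HasTy.mul {α β : MulAut L} {τ ρ : Ty} (h : A.HasTy α τ) (h' : A.HasTy β ρ) :
    A.HasTy (α * β) (τ.mul ρ) := by
  obtain ⟨l, hl⟩ := h
  obtain ⟨m, hm⟩ := h'
  refine ⟨(MulAut.conj l * α) m * l, ?_⟩
  have := hl.mul hm
  convert this using 1
  rw [map_mul, conj_map]
  group

theorem hasTy_conj (l : L) : A.HasTy (MulAut.conj l) (false, false) :=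
  ⟨l⁻¹, by rw [map_inv, inv_mul_cancel]; exact isTau_one⟩

theorem HasTy.inner {α : MulAut L} (h : A.HasTy α (false, false)) : ∃ l, α = MulAut.conj l := by
  obtain ⟨l, hl⟩ := h
  refine ⟨l⁻¹, ?_⟩
  have := hl.ext isTau_one
  rw [map_inv]
  exact eq_inv_of_mul_eq_one_right this

theorem HasTy.inv {α : MulAut L} {τ : Ty} (h : A.HasTy α τ) : A.HasTy α⁻¹ τ := by
  obtain ⟨ρ, hρ⟩ := A.hasTy α⁻¹
  have h1 := h.mul hρ
  rw [mul_inv_cancel] at h1
  have h2 := h1.unique isTau_one.hasTy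
  rwa [← Ty.eq_of_mul _ _ h2]

theorem HasTy.conj {α : MulAut L} {τ : Ty} (h : A.HasTy α τ) (β : MulAut L) :
    A.HasTy (β * α * β⁻¹) τ := by
  obtain ⟨ρ, hρ⟩ := A.hasTy β
  have := (hρ.mul h).mul hρ.inv
  rwa [Ty.mul_mul] at this

/-- an automorphism fixing `x₀₂(1)` -/
theorem exists_cd {α : MulAut L} (h : α (A.x 0 2 1) = A.x 0 2 1) : ∃ p τ, A.Cd α p τ := by
  obtain ⟨l, τ, hl⟩ := A.exists_tau α
  have h2 := hl.x02 1
  have e1 : ∀ e, fr e (1 : F4) = 1 := by decide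
  rw [MulAut.mul_apply, h, MulAut.conj_apply, e1] at h2
  obtain ⟨p, rfl⟩ := mem_of_commute (mul_inv_eq_iff_eq_mul.mp h2)
  exact ⟨p, τ, hl⟩

theorem exists_cd' {α : MulAut L} (h : α (A.x 0 2 1) = A.x 0 2 1) :
    ∃ a b c τ, A.Cd α ⟨a, b, c, 0⟩ τ := by
  obtain ⟨p, τ, h⟩ := exists_cd h
  exact ⟨p.a, p.b, p.c, τ, h.nk⟩

end Cov

end Cfsg.Agent.StdL34
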