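import Cfsg.Agent.StdL34.Emb
import Cfsg.Agent.StdL34.Inv

/-!
# Commuting conjugates: the symmetric pair
-/

set_option autoImplicit false
set_option linter.constructorNameAsVariable false
set_option linter.unusedVariables false

namespace Cfsg.Agent.StdL34

open Cfsg.Agent.SporadicA.FieldFour

namespace Emb

variable {L : Type*} [Group L] {A : Cov L} {G : Type*} [Group G] (E : Emb A G)

/-- the noncentral involution `ι x₀₂(1)` -/
def u : G := E.ι (A.x 0 2 1)

/-- `w` swaps `z` and `u` -/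
def Pair (w : G) : Prop := w * E.z * w⁻¹ = E.u ∧ w * E.u * w⁻¹ = E.z

variable {E}

theorem conj_u (g : G) : (E.conj g).u = g * E.u * g⁻¹ := rfl

theorem Pair.z' {w : G} (h : E.Pair w) : (E.conj w).z = E.u := h.1

theorem Pair.u' {w : G} (h : E.Pair w) : (E.conj w).u = E.z := h.2

theorem Pair.symm {w : G} (h : E.Pair w) : (E.conj w).Pair w⁻¹ := by
  constructor
  · show w⁻¹ * (w * E.z * w⁻¹) * w⁻¹⁻¹ = w * E.u * w⁻¹
    rw [h.2]; group
  · show w⁻¹ * (w * E.u * w⁻¹) * w⁻¹⁻¹ = w * E.z * w⁻¹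
    rw [h.1]; group

/-- conclusion of step (6): type II, and `s` acts on the conjugate component as the inner automorphism of
`el ⟨1,1,c,0⟩⁻¹` -/
def SAct (E : Emb A G) (w : G) : Prop := A.ty = true ∧
  ∃ c, (E.conj w).Act E.s (MulAut.conj (A.el ⟨1, 1, c, 0⟩))⁻¹

end Emb

end Cfsg.Agent.StdL34
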