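import Cfsg.Agent.StdL34.FZero
import Cfsg.Agent.StdL34.Pair

/-!
# Involutions of the centraliser of the component
-/

set_option autoImplicit false
set_option linter.constructorNameAsVariable false
set_option linter.unusedVariables false

namespace Cfsg.Agent.StdL34

open Cfsg.Agent.SporadicA.FieldFour

namespace Emb

variable {L : Type*} [Group L] {A : Cov L} {G : Type*} [Group G] (E : Emb A G)

theorem z_sq : E.z * E.z = 1 := by
  unfold z; rw [← map_mul, A.z_sq, map_one]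

theorem z_ne_one : E.z ≠ 1 := by
  unfold z
  intro h
  rw [map_eq_one_iff _ E.inj] at h
  exact A.z_ne_one h

theorem z_comm (y : L) : Commute E.z (E.ι y) := by
  unfold z Commute SemiconjBy
  rw [← map_mul, A.z_cen, map_mul]

theorem z_mem_K : E.z ∈ E.K := mem_K.mpr E.z_comm

theorem s_comm (y : L) : Commute E.s (E.ι y) := by
  unfold s Commute SemiconjBy
  rw [← map_mul, A.s_cen, map_mul]

theorem s_mem_K : E.s ∈ E.K := mem_K.mpr E.s_comm

theorem s_sq : E.s * E.s = E.z := by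
  unfold s z Cov.z; rw [map_mul]

theorem u_sq : E.u * E.u = 1 := by
  unfold u; rw [← map_mul, A.x_sq 0 2 (by decide), map_one]

variable {E}

theorem K_comm_z {k : G} (h : k ∈ E.K) : Commute k E.z := mem_K.mp h _

theorem K_comm_s {k : G} (h : k ∈ E.K) : Commute k E.s := mem_K.mp h _

theorem K_comm_u {k : G} (h : k ∈ E.K) : Commute k E.u := mem_K.mp h _

/-- a conjugate of `z` in `K` is `z` -/
theorem eq_z_of_mem {g : G} (h : g * E.z * g⁻¹ ∈ E.K) : g * E.z * g⁻¹ = E.z :=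
  E.uniq g (mem_K.mp h)

theorem tight' {k : G} (hk : k ∈ E.K) (h1 : k ≠ 1) (h2 : k * k = 1) {m : G} (hm : Commute m k) :
    Commute m E.z := E.tight k (mem_K.mp hk) h1 h2 m hm

/-- no common involutions -/
theorem disj' {g : G} (h : g * E.z * g⁻¹ ≠ E.z) {k : G} (hk : k ∈ E.K) (hk' : k ∈ (E.conj g).K)
    (h2 : k * k = 1) : k = 1 :=
  E.disj g h k h2 (mem_K.mp hk) (mem_K.mp hk')

/-- **(F)** -/
theorem only_inv {g : G} (hc : Commute (g * E.z * g⁻¹) E.z) (hne : g * E.z * g⁻¹ ≠ E.z) {k : G}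
    (hk : k ∈ E.K) (hk2 : k * k = 1) (hkc : Commute k (g * E.z * g⁻¹)) : k = 1 ∨ k = E.z := by
  by_contra hcon
  push Not at hcon
  obtain ⟨hk1, hkz⟩ := hcon
  obtain ⟨v, hv⟩ := (E.conj g).exists_act (m := k) hkc
  obtain ⟨y, hy⟩ := (E.conj g).exists_act (m := E.z) hc.symm
  have hkz' : Commute k E.z := K_comm_z hk
  have hprod1 : k * E.z ≠ 1 := by
    intro h
    apply hkz
    have : k = k * (E.z * E.z) := by rw [E.z_sq, mul_one]
    rw [this, ← mul_assoc, h, one_mul]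
  have hprod2 : (k * E.z) * (k * E.z) = 1 := by
    calc (k * E.z) * (k * E.z) = k * (E.z * k) * E.z := by group
      _ = k * (k * E.z) * E.z := by rw [hkz'.eq]
      _ = (k * k) * (E.z * E.z) := by group
      _ = 1 := by rw [hk2, E.z_sq, mul_one]
  have hprodK : k * E.z ∈ E.K := mul_mem hk E.z_mem_K
  refine A.fzero (v := v) (y := y) ?_ ?_ ?_ ?_ ?_ ?_ ?_ ?_
  · have := hv.mul hy
    rw [hkz'.eq] at this
    exact this.unique (hy.mul hv)
  · rintro rfl
    exact hk1 (disj' hne hk (act_one_iff.mp hv) hk2)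
  · rintro rfl
    have h1 := act_one_iff.mp hy
    have h2 : g⁻¹ * (E.conj g).z * g⁻¹⁻¹ = E.z := by rw [conj_z]; group
    rw [← h2] at h1
    have := eq_z_of_mem h1
    rw [h2] at this
    exact hne this.symm
  · rintro rfl
    have h1 := hv.mul hy
    have h2 := hv.mul hv
    rw [hk2] at h2
    have h3 := h2.unique Act.one
    rw [h3] at h1
    exact hprod1 (disj' hne hprodK (act_one_iff.mp h1) hprod2)
  · have := hv.mul hv
    rw [hk2] at this
    exact this.unique Act.one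
  · have := hy.mul hy
    rw [E.z_sq] at this
    exact this.unique Act.one
  · intro l hl
    rw [← hv.commute_iff] at hl
    rw [← hy.commute_iff]
    exact (tight' hk hk1 hk2 hl.symm).symm
  · intro l hl
    have hvy := hv.mul hy
    have h1 : (v * y) l = l := hl
    rw [← hvy.commute_iff] at h1
    rw [← hy.commute_iff]
    exact (tight' hprodK hprod1 hprod2 h1.symm).symm

/-- **(3)** A conjugate `u ≠ z` of `z`, commuting with `z` and acting as an inner automorphism, is a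
noncentral involution of the component. -/
theorem inner_conj {g : G} {α : MulAut L} (hc : Commute (g * E.z * g⁻¹) E.z)
    (hne : g * E.z * g⁻¹ ≠ E.z) (ha : E.Act (g * E.z * g⁻¹) α) (hin : A.HasTy α (false, false)) :
    ∃ l : L, E.ι l * (g * E.z * g⁻¹) * (E.ι l)⁻¹ = E.u := by
  obtain ⟨l0, rfl⟩ := hin.inner
  have hu2 : (g * E.z * g⁻¹) * (g * E.z * g⁻¹) = 1 := by
    calc (g * E.z * g⁻¹) * (g * E.z * g⁻¹) = g * (E.z * E.z) * g⁻¹ := by group
      _ = 1 := by rw [E.z_sq]; group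
  have h1 : MulAut.conj l0 ≠ 1 := by
    intro h
    rw [h] at ha
    exact hne (eq_z_of_mem (act_one_iff.mp ha))
  have h2 : MulAut.conj l0 * MulAut.conj l0 = 1 := by
    have := ha.mul ha
    rw [hu2] at this
    exact this.unique Act.one
  obtain ⟨g0, j, hg0⟩ := A.sq_central l0 h1 h2
  set k := (E.ι l0)⁻¹ * (g * E.z * g⁻¹) with hk
  have hkK : k ∈ E.K := by
    rw [← act_one_iff]
    have := (act_ι (E := E) l0).inv.mul ha
    rwa [inv_mul_cancel] at this
  set k' := E.ι (A.sp j) * k with hk'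
  have hspK : E.ι (A.sp j) ∈ E.K := by
    rw [mem_K]
    intro y
    show E.ι (A.sp j) * E.ι y = E.ι y * E.ι (A.sp j)
    rw [← map_mul, A.sp_cen, map_mul]
  have hk'K : k' ∈ E.K := mul_mem hspK hkK
  have hu' : E.ι g0 * (g * E.z * g⁻¹) * (E.ι g0)⁻¹ = E.u * k' := by
    have e1 : g * E.z * g⁻¹ = E.ι l0 * k := by rw [hk]; group
    have e2 : k * (E.ι g0)⁻¹ = (E.ι g0)⁻¹ * k := by
      have := mem_K.mp hkK g0⁻¹
      rw [map_inv] at this
      exact this
    calc E.ι g0 * (g * E.z * g⁻¹) * (E.ι g0)⁻¹ = E.ι g0 * E.ι l0 * (k * (E.ι g0)⁻¹) := by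
          rw [e1]; group
      _ = E.ι (g0 * l0 * g0⁻¹) * k := by
          rw [e2, map_mul, map_mul, map_inv]; group
      _ = E.u * k' := by rw [hg0, map_mul, hk', u]; group
  have hg0z : Commute (E.ι g0) E.z := (E.z_comm g0).symm
  have e3 : E.ι g0 * (g * E.z * g⁻¹) * (E.ι g0)⁻¹ = (E.ι g0 * g) * E.z * (E.ι g0 * g)⁻¹ := by group
  have hzz : E.ι g0 * E.z * (E.ι g0)⁻¹ = E.z := by rw [hg0z.eq]; group
  have hc' : Commute ((E.ι g0 * g) * E.z * (E.ι g0 * g)⁻¹) E.z := by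
    have := hc.conj (E.ι g0)
    rw [hzz, e3] at this
    exact this
  have hne' : (E.ι g0 * g) * E.z * (E.ι g0 * g)⁻¹ ≠ E.z := by
    rw [← e3]
    intro h
    apply hne
    have : g * E.z * g⁻¹ = (E.ι g0)⁻¹ * (E.ι g0 * (g * E.z * g⁻¹) * (E.ι g0)⁻¹) * E.ι g0 := by group
    rw [this, h]
    calc (E.ι g0)⁻¹ * E.z * E.ι g0 = (E.ι g0)⁻¹ * (E.ι g0 * E.z * (E.ι g0)⁻¹) * E.ι g0 := by
          rw [hzz]
      _ = E.z := by group
  have hcu : Commute k' E.u := K_comm_u hk'K
  have hk'2 : k' * k' = 1 := by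
    have h3 : (E.u * k') * (E.u * k') = 1 := by
      rw [← hu']
      calc E.ι g0 * (g * E.z * g⁻¹) * (E.ι g0)⁻¹ * (E.ι g0 * (g * E.z * g⁻¹) * (E.ι g0)⁻¹)
          = E.ι g0 * ((g * E.z * g⁻¹) * (g * E.z * g⁻¹)) * (E.ι g0)⁻¹ := by group
        _ = 1 := by rw [hu2]; group
    calc k' * k' = (E.u * E.u) * (k' * k') := by rw [E.u_sq, one_mul]
      _ = E.u * (E.u * k') * k' := by group
      _ = E.u * (k' * E.u) * k' := by rw [hcu.eq]
      _ = (E.u * k') * (E.u * k') := by group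
      _ = 1 := h3
  have hkc : Commute k' ((E.ι g0 * g) * E.z * (E.ι g0 * g)⁻¹) := by
    rw [← e3, hu']
    exact hcu.mul_right (Commute.refl _)
  rcases only_inv hc' hne' hk'K hk'2 hkc with h | h
  · exact ⟨g0, by rw [hu', h, mul_one]⟩
  · obtain ⟨g1, hg1⟩ := A.x02_z
    refine ⟨g1 * g0, ?_⟩
    calc E.ι (g1 * g0) * (g * E.z * g⁻¹) * (E.ι (g1 * g0))⁻¹
        = E.ι g1 * (E.ι g0 * (g * E.z * g⁻¹) * (E.ι g0)⁻¹) * (E.ι g1)⁻¹ := by
          rw [map_mul]; group
      _ = E.ι (g1 * (A.x 0 2 1 * A.z) * g1⁻¹) := by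
          rw [hu', h, map_mul, map_mul, map_mul, map_inv]; rfl
      _ = E.u := by rw [hg1]; rfl

end Emb

end Cfsg.Agent.StdL34
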