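import Cfsg.Agent.StdL34.Pair

/-!
# Steps (4) and (5): the symmetric pair
-/

set_option autoImplicit false
set_option linter.constructorNameAsVariable false
set_option linter.unusedVariables false

namespace Cfsg.Agent.StdL34

open Cfsg.Agent.SporadicA.FieldFour
open Cfsg.Agent.ONType.Psl (kap)

namespace Case2

variable {L : Type*} [Group L] {A : Cov L} {G : Type*} [Group G]

/-- conclusion of step (3) -/
def Step3 (A : Cov L) (G : Type*) [Group G] : Prop :=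
  ∀ (E' : Emb A G) (g : G) (α : MulAut L), Commute (g * E'.z * g⁻¹) E'.z →
    g * E'.z * g⁻¹ ≠ E'.z → E'.Act (g * E'.z * g⁻¹) α → A.HasTy α (false, false) →
    ∃ l : L, E'.ι l * (g * E'.z * g⁻¹) * (E'.ι l)⁻¹ = E'.u

/-- involutory automorphisms -/
def Inv (A : Cov L) : Prop :=
  ∀ v : MulAut L, v ≠ 1 → v * v = 1 → ∃ l,
    (∃ τ, τ ≠ (false, false) ∧ A.IsTau τ (MulAut.conj l * v * (MulAut.conj l)⁻¹)) ∨
      MulAut.conj l * v * (MulAut.conj l)⁻¹ = MulAut.conj (A.x 0 2 1)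

theorem zz : A.z * A.z = 1 := by
  rw [A.z_eq, A.sp_add]
  exact A.sp_zero

theorem z_comm (y : L) : A.z * y = y * A.z := by
  rw [A.z_eq]; exact A.sp_cen _ _

variable (E : Emb A G)

theorem Ezz : E.z * E.z = 1 := by
  show E.ι A.z * E.ι A.z = 1
  rw [← map_mul, zz, map_one]

theorem Ess : E.s * E.s = E.z := by
  show E.ι A.s * E.ι A.s = E.ι (A.s * A.s)
  rw [map_mul]

theorem s_comm_ι (y : L) : Commute E.s (E.ι y) := by
  show E.ι A.s * E.ι y = E.ι y * E.ι A.s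
  rw [← map_mul, ← map_mul, A.s_cen]

theorem z_comm_ι (y : L) : Commute E.z (E.ι y) := by
  show E.ι A.z * E.ι y = E.ι y * E.ι A.z
  rw [← map_mul, ← map_mul, z_comm]

theorem s_comm_u : Commute E.s E.u := s_comm_ι E _

theorem z_comm_u : Commute E.z E.u := z_comm_ι E _

theorem u_ne_z : E.u ≠ E.z := by
  intro h
  have h1 : A.x 0 2 1 = A.z := E.inj h
  rw [← A.el_x02, A.z_eq, ← A.el_sp] at h1
  have := A.inj h1
  exact absurd this (by decide)

theorem act_u : E.Act E.u (MulAut.conj (A.x 0 2 1)) := Emb.act_ι _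

/-- An element whose square root commutes with `E.z` acts as an inner automorphism. -/
theorem hasTy_sq {m : G} (hm : Commute m E.z) {γ : MulAut L} (h : E.Act (m * m) γ) :
    A.HasTy γ (false, false) := by
  obtain ⟨β, hβ⟩ := E.exists_act hm
  obtain ⟨τ, hτ⟩ := A.hasTy β
  have h1 := hβ.mul hβ
  have h2 := hτ.mul hτ
  rw [Cov.Ty.mul_self] at h2
  rwa [h1.unique h] at h2

theorem Ty.comm4 : ∀ τ ρ : Ty, ((τ.mul ρ).mul τ).mul ρ = (false, false) := by decide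

/-- The commutator of two elements commuting with `E.z` acts as an inner automorphism. -/
theorem hasTy_comm {m n : G} (hm : Commute m E.z) (hn : Commute n E.z) {γ : MulAut L}
    (h : E.Act (m⁻¹ * n⁻¹ * m * n) γ) : A.HasTy γ (false, false) := by
  obtain ⟨β, hβ⟩ := E.exists_act hm
  obtain ⟨β', hβ'⟩ := E.exists_act hn
  obtain ⟨τ, hτ⟩ := A.hasTy β
  obtain ⟨ρ, hρ⟩ := A.hasTy β'
  have h1 := ((hβ.inv.mul hβ'.inv).mul hβ).mul hβ'
  have h2 := ((hτ.inv.mul hρ.inv).mul hτ).mul hρ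
  rw [Ty.comm4] at h2
  rwa [h1.unique h] at h2

/-- An element acting as an inner automorphism commutes with `E.s`. -/
theorem comm_s {m : G} {γ : MulAut L} (h : E.Act m γ) (hγ : A.HasTy γ (false, false)) :
    Commute m E.s := by
  obtain ⟨l, rfl⟩ := hγ.inner
  show Commute m (E.ι A.s)
  rw [h.commute_iff, MulAut.conj_apply, ← A.s_cen]
  group

/-- `E.s` is centralized or inverted. -/
theorem s_or {m : G} (hm : Commute m E.z) : Commute m E.s ∨ m * E.s * m⁻¹ = E.s⁻¹ := by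
  obtain ⟨β, hβ⟩ := E.exists_act hm
  obtain ⟨l, τ, hl⟩ := A.exists_tau β
  have h1 := hl.s
  rw [MulAut.mul_apply, MulAut.conj_apply] at h1
  have h2 : β A.s = A.sp (sg (invs A.ty τ) 1) := by
    have h3 : β A.s = l⁻¹ * A.sp (sg (invs A.ty τ) 1) * l := by rw [← h1]; group
    rw [h3, mul_assoc, A.sp_cen]
    group
  cases hi : invs A.ty τ
  · left
    rw [hi] at h2
    show Commute m (E.ι A.s)
    rw [hβ.commute_iff, h2]
    exact A.sp_one
  · right
    rw [hi] at h2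
    show m * E.ι A.s * m⁻¹ = (E.ι A.s)⁻¹
    rw [hβ, h2, ← map_inv]
    congr 1
    show A.sp (-1) = A.s⁻¹
    rw [← A.sp_neg, A.sp_one]

variable {E}

/-- (5): a conjugate of `z` acting as an inner automorphism gives a symmetric pair. -/
theorem pair_of_inner (hin : Step3 A G) (g : G) (hc : Commute (g * E.z * g⁻¹) E.z)
    (hne : g * E.z * g⁻¹ ≠ E.z) {α : MulAut L} (hα : E.Act (g * E.z * g⁻¹) α)
    (hty : A.HasTy α (false, false)) : ∃ w, E.Pair w := by
  obtain ⟨l, hl⟩ := hin E g α hc hne hα hty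
  -- rename
  obtain ⟨g, hg⟩ : ∃ g', g' * E.z * g'⁻¹ = E.u := by
    refine ⟨E.ι l * g, ?_⟩
    rw [← hl]; group
  have hFz : (E.conj g).z = E.u := hg
  have hs : Commute E.s (E.conj g).z := by rw [hFz]; exact s_comm_u E
  obtain ⟨β, hβ⟩ := (E.conj g).exists_act hs
  have h1 : (E.conj g).Act (E.s * E.s) (β * β) := hβ.mul hβ
  have h2 := hasTy_sq (E.conj g) hs h1
  rw [Ess] at h1
  have e1 : g⁻¹ * (E.conj g).z * g⁻¹⁻¹ = E.z := by
    show g⁻¹ * (g * E.z * g⁻¹) * g⁻¹⁻¹ = E.z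
    group
  obtain ⟨l', hl'⟩ := hin (E.conj g) g⁻¹ (β * β)
    (by rw [e1, hFz]; exact z_comm_u E) (by rw [e1, hFz]; exact (u_ne_z E).symm)
    (by rw [e1]; exact h1) h2
  rw [e1] at hl'
  have h3 : Commute (E.conj g).z ((E.conj g).ι l') := z_comm_ι _ _
  rw [hFz] at h3
  refine ⟨((E.conj g).ι l')⁻¹ * g, ?_, ?_⟩
  · calc ((E.conj g).ι l')⁻¹ * g * E.z * (((E.conj g).ι l')⁻¹ * g)⁻¹
        = ((E.conj g).ι l')⁻¹ * (g * E.z * g⁻¹) * (E.conj g).ι l' := by group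
      _ = ((E.conj g).ι l')⁻¹ * (E.u * (E.conj g).ι l') := by rw [hg, mul_assoc]
      _ = E.u := by rw [h3.eq, inv_mul_cancel_left]
  · calc ((E.conj g).ι l')⁻¹ * g * E.u * (((E.conj g).ι l')⁻¹ * g)⁻¹
        = ((E.conj g).ι l')⁻¹ * (E.conj g).u * (E.conj g).ι l' := by
          rw [Emb.conj_u]; group
      _ = E.z := by rw [← hl']; group

theorem kap02 : ∃ c : F4, c + kap 0 2 * c = 1 := by decide

/-- the element `x₀₂(1)` or `x₀₂(1) z` fixed by a pure outer type inverting `s`, obtained as a square or a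
commutator of fixed elements -/
theorem exists_j {τ : Ty} {β : MulAut L} (hβ : A.IsTau τ β) (hinv : invs A.ty τ = true)
    {G : Type*} [Group G] {E : Emb A G} {v : G} (hv : E.Act v β) (F : Emb A G) (hF : F.z = v) :
    ∃ j : L, (j = A.x 0 2 1 ∨ j = A.x 0 2 1 * A.z) ∧ Commute (E.ι j) v ∧ Commute (E.ι j) F.s := by
  by_cases hcase : A.ty = true ∧ τ = (false, true)
  · -- commutator
    obtain ⟨c, hc⟩ := kap02
    obtain ⟨hty, rfl⟩ := hcase
    have hfx : β (A.x 0 2 c) = A.x 0 2 c := by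
      rw [hβ.x02]; rfl
    have hfx0 : ∀ u, β (A.x 0 2 u) = A.x 0 2 u := by
      intro u; rw [hβ.x02]; rfl
    have hfx2 : ∀ u, β (A.x 2 0 u) = A.x 2 0 u := by
      intro u; rw [hβ.x20]; rfl
    have hfh : β A.h = A.h := by
      have h1 := A.h_eq 0 2 (by decide)
      rw [← h1]
      simp only [map_mul, hfx0, hfx2]
    have hm : Commute (E.ι (A.x 0 2 c)) F.z := by
      rw [hF]; exact ((hv.commute_iff _).2 hfx).symm
    have hn : Commute (E.ι A.h) F.z := by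
      rw [hF]; exact ((hv.commute_iff _).2 hfh).symm
    have hj : A.x 0 2 1 = (A.x 0 2 c)⁻¹ * A.h⁻¹ * A.x 0 2 c * A.h := by
      have h1 := A.h_x 0 2 (by decide) c
      calc A.x 0 2 1 = A.x 0 2 (c + kap 0 2 * c) := by rw [hc]
        _ = A.x 0 2 c * A.x 0 2 (kap 0 2 * c) := (A.x_add 0 2 (by decide) _ _).symm
        _ = (A.x 0 2 c)⁻¹ * (A.h⁻¹ * A.x 0 2 c * A.h) := by
          rw [h1, A.x_inv 0 2 (by decide)]
        _ = _ := by group
    refine ⟨A.x 0 2 1, Or.inl rfl, ((hv.commute_iff _).2 (hfx0 1)).symm, ?_⟩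
    have hjc : Commute (E.ι (A.x 0 2 1)) F.z := by
      rw [hF]; exact ((hv.commute_iff _).2 (hfx0 1)).symm
    obtain ⟨γ, hγ⟩ := F.exists_act hjc
    apply comm_s F hγ
    apply hasTy_comm F hm hn
    have e : (E.ι (A.x 0 2 c))⁻¹ * (E.ι A.h)⁻¹ * E.ι (A.x 0 2 c) * E.ι A.h = E.ι (A.x 0 2 1) := by
      rw [hj]; simp
    rw [e]
    exact hγ
  · obtain ⟨a, b, c, k, hfix, hsq⟩ := sq_fix A.ty τ hinv hcase
    set t : L := A.el ⟨a, b, c, k⟩ with ht
    have hft : β t = t := by rw [ht, hβ.el, hfix]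
    have hm : Commute (E.ι t) F.z := by
      rw [hF]; exact ((hv.commute_iff _).2 hft).symm
    have hjj : t * t = A.x 0 2 1 ∨ t * t = A.x 0 2 1 * A.z := by
      rw [ht, A.el_mul]
      rcases hsq with h | h
      · left
        rw [h, A.el_x02]
      · right
        rw [h, A.el_nk, ← A.el_x02, A.z_eq]
        rfl
    refine ⟨t * t, hjj, ?_, ?_⟩
    · apply Commute.symm
      rw [hv.commute_iff, map_mul, hft]
    · have hjc : Commute (E.ι (t * t)) F.z := by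
        rw [map_mul]
        exact hm.mul_left hm
      obtain ⟨γ, hγ⟩ := F.exists_act hjc
      apply comm_s F hγ
      apply hasTy_sq F hm
      rw [← map_mul]
      exact hγ

/-- `x₀₂(1)` and `x₀₂(1) z` are conjugate -/
theorem x02_conj : ∃ l : L, l * A.x 0 2 1 * l⁻¹ = A.x 0 2 1 * A.z := by
  refine ⟨A.x 0 1 F4.w, ?_⟩
  have h1 := A.row 0 2 1 (by decide) (by decide) (by decide) 1 F4.w
  -- x02(1) x01(w) = x01(w) x02(1) z
  have h2 : A.sp (t2 (1 * F4.w)) = A.z := by rw [A.z_eq]; rfl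
  rw [h2] at h1
  have h3 : A.x 0 1 F4.w * A.x 0 2 1 = A.x 0 2 1 * A.x 0 1 F4.w * A.z := by
    rw [h1, mul_assoc _ A.z A.z, zz, mul_one]
  rw [h3, mul_assoc, z_comm, ← mul_assoc, mul_inv_cancel_right]

/-- (4) and (5) -/
theorem exists_pair (E : Emb A G) (g : G) (hc : Commute (g * E.z * g⁻¹) E.z)
    (hne : g * E.z * g⁻¹ ≠ E.z) (hin : Step3 A G) (hinv : Inv A) : ∃ w, E.Pair w := by
  by_contra hno
  -- no conjugate acts as an inner automorphism
  have hout : ∀ (E' : Emb A G), (∃ x, E' = E.conj x) → ∀ g : G, Commute (g * E'.z * g⁻¹) E'.z →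
      g * E'.z * g⁻¹ ≠ E'.z → ∀ α, E'.Act (g * E'.z * g⁻¹) α → ¬ A.HasTy α (false, false) := by
    rintro E' ⟨x, rfl⟩ g hc hne α hα hty
    obtain ⟨w, hw1, hw2⟩ := pair_of_inner hin g hc hne hα hty
    apply hno
    refine ⟨x⁻¹ * w * x, ?_, ?_⟩
    · have h1 : w * (x * E.z * x⁻¹) * w⁻¹ = x * E.u * x⁻¹ := hw1
      calc x⁻¹ * w * x * E.z * (x⁻¹ * w * x)⁻¹ = x⁻¹ * (w * (x * E.z * x⁻¹) * w⁻¹) * x := by group
        _ = E.u := by rw [h1]; group
    · have h1 : w * (x * E.u * x⁻¹) * w⁻¹ = x * E.z * x⁻¹ := hw2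
      calc x⁻¹ * w * x * E.u * (x⁻¹ * w * x)⁻¹ = x⁻¹ * (w * (x * E.u * x⁻¹) * w⁻¹) * x := by group
        _ = E.z := by rw [h1]; group
  have hout0 := hout E ⟨1, E.conj_one.symm⟩
  -- `E.u` is not a conjugate of `z`
  have hu : ∀ h : G, h * E.z * h⁻¹ ≠ E.u := by
    intro h hh
    refine hout0 h ?_ ?_ (MulAut.conj (A.x 0 2 1)) ?_ (Cov.hasTy_conj _)
    · rw [hh]; exact (z_comm_u E).symm
    · rw [hh]; exact u_ne_z E
    · rw [hh]; exact act_u E
  obtain ⟨α, hα⟩ := E.exists_act hc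
  have hα1 : ¬ A.HasTy α (false, false) := hout0 g hc hne α hα
  have hvv : (g * E.z * g⁻¹) * (g * E.z * g⁻¹) = 1 := by
    have := Ezz E
    calc (g * E.z * g⁻¹) * (g * E.z * g⁻¹) = g * (E.z * E.z) * g⁻¹ := by group
      _ = 1 := by rw [this]; group
  have hαα : α * α = 1 := by
    have h1 := hα.mul hα
    rw [hvv] at h1
    exact h1.unique Emb.Act.one
  have hαne : α ≠ 1 := by
    rintro rfl
    exact hα1 Cov.isTau_one.hasTy
  obtain ⟨l, hl⟩ := hinv α hαne hαα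
  obtain ⟨τ, hτne, hτ⟩ : ∃ τ, τ ≠ (false, false) ∧
      A.IsTau τ (MulAut.conj l * α * (MulAut.conj l)⁻¹) := by
    rcases hl with h | h
    · exact h
    · exfalso
      apply hα1
      have h1 : A.HasTy (MulAut.conj l * α * (MulAut.conj l)⁻¹) (false, false) := by
        rw [h]; exact Cov.hasTy_conj _
      have h2 := h1.conj (MulAut.conj l)⁻¹
      have h3 : (MulAut.conj l)⁻¹ * (MulAut.conj l * α * (MulAut.conj l)⁻¹) * (MulAut.conj l)⁻¹⁻¹ = α := by
        group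
      rwa [h3] at h2
  -- replace g
  obtain ⟨g, β, hβ, hact, hc, hne⟩ : ∃ (g : G) (β : MulAut L), A.IsTau τ β ∧
      E.Act (g * E.z * g⁻¹) β ∧ Commute (g * E.z * g⁻¹) E.z ∧ g * E.z * g⁻¹ ≠ E.z := by
    refine ⟨E.ι l * g, _, hτ, ?_, ?_, ?_⟩
    · have h1 := ((Emb.act_ι (E := E) l).mul hα).mul (Emb.act_ι (E := E) l).inv
      have e : E.ι l * g * E.z * (E.ι l * g)⁻¹ = E.ι l * (g * E.z * g⁻¹) * (E.ι l)⁻¹ := by group
      rw [e]
      exact h1
    · have h1 := hc.conj (E.ι l)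
      have h2 : E.ι l * E.z * (E.ι l)⁻¹ = E.z := by
        rw [← (z_comm_ι E l).eq, mul_inv_cancel_right]
      rw [h2] at h1
      have e : E.ι l * g * E.z * (E.ι l * g)⁻¹ = E.ι l * (g * E.z * g⁻¹) * (E.ι l)⁻¹ := by group
      rw [e]
      exact h1
    · intro h
      apply hne
      have h2 : (E.ι l)⁻¹ * E.z * E.ι l = E.z := by
        rw [mul_assoc, (z_comm_ι E l).eq, inv_mul_cancel_left]
      calc g * E.z * g⁻¹ = (E.ι l)⁻¹ * (E.ι l * g * E.z * (E.ι l * g)⁻¹) * E.ι l := by group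
        _ = E.z := by rw [h, h2]
  set v : G := g * E.z * g⁻¹ with hv
  have hFz : (E.conj g).z = v := rfl
  have hvv' : v * v = 1 := by
    have := Ezz (E.conj g)
    rwa [hFz] at this
  -- z seen from F
  have e1 : g⁻¹ * (E.conj g).z * g⁻¹⁻¹ = E.z := by
    show g⁻¹ * (g * E.z * g⁻¹) * g⁻¹⁻¹ = E.z
    group
  -- claim 1: `τ` inverts `s`
  have hns : ¬ Commute v E.s := by
    intro hcs
    have hs : Commute E.s (E.conj g).z := by rw [hFz]; exact hcs.symm
    obtain ⟨γ, hγ⟩ := (E.conj g).exists_act hs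
    have h1 : (E.conj g).Act (E.s * E.s) (γ * γ) := hγ.mul hγ
    have h2 := hasTy_sq (E.conj g) hs h1
    rw [Ess] at h1
    refine hout (E.conj g) ⟨g, rfl⟩ g⁻¹ ?_ ?_ (γ * γ) ?_ h2
    · rw [e1, hFz]; exact hc.symm
    · rw [e1, hFz]; exact hne.symm
    · rw [e1]; exact h1
  have hinvs : invs A.ty τ = true := by
    by_contra hcon
    rw [Bool.not_eq_true] at hcon
    apply hns
    show Commute v (E.ι A.s)
    rw [hact.commute_iff, hβ.s, hcon]
    exact A.sp_one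
  have hvs : v * E.s * v⁻¹ = E.s⁻¹ := by
    rcases s_or E hc with h | h
    · exact absurd h hns
    · exact h
  -- claim 2: `z` inverts `F.s`
  have hzF : E.z * (E.conj g).s * E.z⁻¹ = (E.conj g).s⁻¹ := by
    have hcz : Commute E.z (E.conj g).z := by rw [hFz]; exact hc.symm
    rcases s_or (E.conj g) hcz with h | h
    · exfalso
      -- F.s commutes with z, so v = F.s ^ 2 acts as inner
      obtain ⟨γ, hγ⟩ := E.exists_act (m := (E.conj g).s) h.symm
      have h1 : E.Act ((E.conj g).s * (E.conj g).s) (γ * γ) := hγ.mul hγ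
      have h2 := hasTy_sq E h.symm h1
      rw [Ess, hFz] at h1
      exact hout0 g hc hne (γ * γ) h1 h2
    · exact h
  -- conjugation rules
  have hzi : E.z⁻¹ = E.z := inv_eq_of_mul_eq_one_left (Ezz E)
  have hvi : v⁻¹ = v := inv_eq_of_mul_eq_one_left hvv'
  have hsi2 : E.s⁻¹ * E.s⁻¹ = E.z := by
    rw [← mul_inv_rev, Ess, hzi]
  have hFsi2 : (E.conj g).s⁻¹ * (E.conj g).s⁻¹ = v := by
    rw [← mul_inv_rev, Ess, hFz, hvi]
  have r1 : E.s * v * E.s⁻¹ = v * E.z := by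
    have h1 : v * E.s = E.s⁻¹ * v := by
      rw [← hvs]; group
    have h2 : E.s * v = v * E.s⁻¹ := by
      have h3 : v * E.s * v = E.s⁻¹ := by rw [← hvs, hvi]
      calc E.s * v = (v * E.s * v)⁻¹ * v := by rw [h3, inv_inv]
        _ = v⁻¹ * E.s⁻¹ * (v⁻¹ * v) := by group
        _ = v * E.s⁻¹ := by rw [hvi, hvv', mul_one]
    rw [h2, mul_assoc, hsi2]
  have r2 : (E.conj g).s * E.z * (E.conj g).s⁻¹ = E.z * v := by
    have h2 : (E.conj g).s * E.z = E.z * (E.conj g).s⁻¹ := by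
      have h3 : E.z * (E.conj g).s * E.z = (E.conj g).s⁻¹ := by rw [← hzF, hzi]
      calc (E.conj g).s * E.z = (E.z * (E.conj g).s * E.z)⁻¹ * E.z := by rw [h3, inv_inv]
        _ = E.z⁻¹ * (E.conj g).s⁻¹ * (E.z⁻¹ * E.z) := by group
        _ = E.z * (E.conj g).s⁻¹ := by rw [hzi, Ezz, mul_one]
    rw [h2, mul_assoc, hFsi2]
  obtain ⟨j, hj, hjv, hjF⟩ := exists_j hβ hinvs hact (E.conj g) hFz
  obtain ⟨a, b, c, k, hcf⟩ := conj_fix A.ty τ hinvs
  set t : L := A.el ⟨a, b, c, k⟩ with ht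
  -- t β(t)⁻¹ = j1
  obtain ⟨j1, hj1, hj1t⟩ : ∃ j1 : L, (j1 = A.x 0 2 1 ∨ j1 = A.x 0 2 1 * A.z) ∧ t * (β t)⁻¹ = j1 := by
    have h1 : t * (β t)⁻¹ = A.el (cmul A.ty ⟨a, b, c, k⟩ (cinv A.ty (ctau A.ty τ ⟨a, b, c, k⟩))) := by
      rw [ht, hβ.el, A.el_inv, A.el_mul]
    refine ⟨_, ?_, rfl⟩
    rw [h1]
    rcases hcf with h | h
    · left
      rw [h, A.el_x02]
    · right
      rw [h, A.el_nk, ← A.el_x02, A.z_eq]
      rfl
  have hvj1 : E.ι t * v * (E.ι t)⁻¹ = E.ι j1 * v := by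
    have h1 := hact t⁻¹
    rw [map_inv, map_inv, map_inv] at h1
    have h2 : v * (E.ι t)⁻¹ = (E.ι (β t))⁻¹ * v := mul_inv_eq_iff_eq_mul.mp h1
    rw [← hj1t, map_mul, map_inv, mul_assoc, h2, mul_assoc]
  have hsj : Commute E.s (E.ι j) := s_comm_ι E j
  have hzj : Commute E.z (E.ι j) := z_comm_ι E j
  -- j z ~ j z v ~ j v
  have c1 : (E.conj g).s * (E.ι j * E.z) * (E.conj g).s⁻¹ = E.ι j * (E.z * v) := by
    calc (E.conj g).s * (E.ι j * E.z) * (E.conj g).s⁻¹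
        = ((E.conj g).s * E.ι j) * E.z * (E.conj g).s⁻¹ := by group
      _ = (E.ι j * (E.conj g).s) * E.z * (E.conj g).s⁻¹ := by rw [hjF.eq]
      _ = E.ι j * ((E.conj g).s * E.z * (E.conj g).s⁻¹) := by group
      _ = _ := by rw [r2]
  have c2 : E.s * (E.ι j * (E.z * v)) * E.s⁻¹ = E.ι j * v := by
    have h1 : Commute E.s E.z := by rw [← Ess]; exact (Commute.refl _).mul_right (Commute.refl _)
    calc E.s * (E.ι j * (E.z * v)) * E.s⁻¹
        = (E.s * E.ι j) * E.z * v * E.s⁻¹ := by group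
      _ = E.ι j * (E.s * E.z) * v * E.s⁻¹ := by rw [hsj.eq]; group
      _ = E.ι j * E.z * (E.s * v * E.s⁻¹) := by rw [h1.eq]; group
      _ = E.ι j * E.z * (v * E.z) := by rw [r1]
      _ = E.ι j * (E.z * v) * E.z := by group
      _ = E.ι j * (v * E.z) * E.z := by rw [hc.eq]
      _ = E.ι j * v * (E.z * E.z) := by group
      _ = _ := by rw [Ezz, mul_one]
  -- so `j z` is a conjugate of `z`
  have key : ∃ x : G, x * E.z * x⁻¹ = E.ι j * E.z := by
    -- v ~ j1 v, and j1 v ∈ {j v, j z v}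
    have hj12 : E.ι j1 * v = E.ι j * v ∨ E.ι j1 * v = E.ι j * (E.z * v) := by
      have hEz : E.ι A.z = E.z := rfl
      rcases hj with h | h <;> rcases hj1 with h' | h'
      · left; rw [h, h']
      · right; rw [h, h', map_mul, hEz, mul_assoc]
      · right
        rw [h, h', map_mul, hEz]
        calc E.ι (A.x 0 2 1) * v = E.ι (A.x 0 2 1) * (E.z * E.z) * v := by rw [Ezz, mul_one]
          _ = _ := by group
      · left; rw [h, h']
    rcases hj12 with h | h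
    · refine ⟨(E.s * (E.conj g).s)⁻¹ * E.ι t * g, ?_⟩
      have : E.ι j * E.z = (E.s * (E.conj g).s)⁻¹ * (E.ι j * v) * (E.s * (E.conj g).s) := by
        rw [← c2, ← c1]; group
      rw [this, ← h, ← hvj1, hv]
      group
    · refine ⟨((E.conj g).s)⁻¹ * E.ι t * g, ?_⟩
      have : E.ι j * E.z = ((E.conj g).s)⁻¹ * (E.ι j * (E.z * v)) * (E.conj g).s := by
        rw [← c1]; group
      rw [this, ← h, ← hvj1, hv]
      group
  obtain ⟨x, hx⟩ := key
  obtain ⟨l, hl⟩ := x02_conj (A := A)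
  have hEz : E.ι A.z = E.z := rfl
  rcases hj with h | h
  · -- j z = x02(1) z
    apply hu ((E.ι l)⁻¹ * x)
    have h1 : E.ι l * E.u * (E.ι l)⁻¹ = E.ι j * E.z := by
      show E.ι l * E.ι (A.x 0 2 1) * (E.ι l)⁻¹ = _
      rw [← map_inv, ← map_mul, ← map_mul, hl, map_mul, hEz, h]
    calc (E.ι l)⁻¹ * x * E.z * ((E.ι l)⁻¹ * x)⁻¹ = (E.ι l)⁻¹ * (x * E.z * x⁻¹) * E.ι l := by group
      _ = (E.ι l)⁻¹ * (E.ι l * E.u * (E.ι l)⁻¹) * E.ι l := by rw [hx, h1]
      _ = E.u := by group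
  · apply hu x
    rw [hx, h, map_mul, hEz, mul_assoc, Ezz, mul_one]
    rfl

end Case2

end Cfsg.Agent.StdL34
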