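import Cfsg.Agent.StdL34.Basic

/-!
# The sign character of `C(z)` and Sylow facts
-/

set_option autoImplicit false
set_option linter.constructorNameAsVariable false
set_option linter.unusedVariables false

namespace Cfsg.Agent.StdL34

open Cfsg.Agent.SporadicA.FieldFour

/-- sign of an outer type -/
def tsign (τ : Ty) : ℤˣ := if xor τ.1 τ.2 then -1 else 1

theorem tsign_mul : ∀ τ ρ : Ty, tsign (τ.mul ρ) = tsign τ * tsign ρ := by decide

theorem comm_pure_t0 : ∀ ty (τ ρ : Ty) a b c, τ ≠ (false, false) →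
    cq (cmul ty (ctau ty τ ⟨a, b, c, 0⟩) cone) (cmul ty (ctau ty ρ cone) ⟨a, b, c, 0⟩) →
    trF (a + b) = false := by
  decide +kernel

theorem cact_t0 : ∀ ty (ρ : Ty) a b c, trF (a + b) = false →
    cact ty ⟨a, b, c, 0⟩ ρ ⟨0, 0, 1, 0⟩ = ⟨0, 0, 1, 0⟩ := by
  decide +kernel

theorem cq_of_cz : ∀ ty (k : Fin 4) (p : Code), cq (cmul ty ⟨0, 0, 0, k⟩ p) p := by
  decide +kernel

namespace Cov

variable {L : Type*} [Group L] {A : Cov L}

variable (A) in
/-- the outer type of an automorphism -/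
noncomputable def tyOf (α : MulAut L) : Ty := (A.hasTy α).choose

theorem hasTy_tyOf (α : MulAut L) : A.HasTy α (A.tyOf α) := (A.hasTy α).choose_spec

theorem tyOf_eq {α : MulAut L} {τ : Ty} (h : A.HasTy α τ) : A.tyOf α = τ :=
  (hasTy_tyOf α).unique h

theorem tyOf_mul (α β : MulAut L) : A.tyOf (α * β) = (A.tyOf α).mul (A.tyOf β) :=
  tyOf_eq ((hasTy_tyOf α).mul (hasTy_tyOf β))

theorem tyOf_one : A.tyOf (1 : MulAut L) = (false, false) := tyOf_eq isTau_one.hasTy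

/-- uniqueness of the code modulo the centre -/
theorem Cd.unique {α : MulAut L} {p q : Code} {τ ρ : Ty} (h : A.Cd α p τ) (h' : A.Cd α q ρ) :
    ρ = τ ∧ cq q p := by
  have e : MulAut.conj (A.el q) * α =
      MulAut.conj (A.el q * (A.el p)⁻¹) * (MulAut.conj (A.el p) * α) := by
    rw [map_mul, map_inv]; group
  unfold Cd at h h'
  rw [e] at h'
  obtain ⟨h1, h2⟩ := h.unique h'
  refine ⟨h1, ?_⟩
  obtain ⟨k, hk⟩ := conj_eq_one h2
  have h3 : A.el q = A.el (cmul A.ty ⟨0, 0, 0, k⟩ p) := by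
    rw [← A.el_mul, A.el_sp, ← hk]; group
  rw [A.inj h3]
  exact cq_of_cz _ _ _

/-- An automorphism with a code that commutes with a pure outer automorphism fixes `x₀₂(1)`. -/
theorem Cd.fix_of_comm {α β : MulAut L} {p : Code} {τ ρ : Ty} (hτ : τ ≠ (false, false))
    (ht : A.IsTau τ α) (h : A.Cd β p ρ) (hc : α * β = β * α) :
    β (A.x 0 2 1) = A.x 0 2 1 := by
  have h' := h.nk
  have h1 := ht.cd.mul h'
  have h2 := h'.mul ht.cd
  rw [← hc] at h2
  have h3 := (h2.unique h1).2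
  have h4 := comm_pure_t0 A.ty τ ρ p.a p.b p.c hτ h3
  rw [← A.el_x02, h'.apply]
  congr 1
  exact cact_t0 A.ty ρ p.a p.b p.c h4

/-- A 2-group of automorphisms commuting with an outer involutory automorphism: up to inner
automorphisms, the involution is pure and the group fixes `x₀₂(1)`. -/
theorem exists_conj_pure (Q : Subgroup (MulAut L)) (hQ : IsPGroup 2 Q) {α : MulAut L}
    (hα : α ∈ Q) (hα2 : α * α = 1) {τ : Ty} (hτ : τ ≠ (false, false)) (hty : A.HasTy α τ)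
    (hc : ∀ β ∈ Q, α * β = β * α) :
    ∃ l, A.IsTau τ (MulAut.conj l * α * (MulAut.conj l)⁻¹) ∧
      ∀ β ∈ Q, (MulAut.conj l * β * (MulAut.conj l)⁻¹) ∈ A.MT ∧
        (MulAut.conj l * β * (MulAut.conj l)⁻¹) (A.x 0 2 1) = A.x 0 2 1 := by
  obtain ⟨l, hl⟩ := A.exists_conj_MT Q hQ
  obtain ⟨p, τ', hp⟩ := hl α hα
  have hcd := hp.nk
  have hτ' : τ = τ' := (hty.conj _).unique hp.hasTy
  subst hτ'
  set v' := MulAut.conj l * α * (MulAut.conj l)⁻¹ with hv'
  have h2' : v' * v' = 1 := by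
    calc v' * v' = MulAut.conj l * (α * α) * (MulAut.conj l)⁻¹ := by rw [hv']; group
      _ = 1 := by rw [hα2]; group
  have hsq := hcd.mul hcd
  rw [h2'] at hsq
  have hcz := hsq.one.2
  obtain ⟨a', b', c', hq⟩ := inv_outer A.ty τ p.a p.b p.c hτ hcz
  have hc2 := hcd.conj ⟨a', b', c', 0⟩
  have hpure := hc2.of_cz hq
  have e : ∀ β : MulAut L, MulAut.conj (A.el ⟨a', b', c', 0⟩ * l) * β *
      (MulAut.conj (A.el ⟨a', b', c', 0⟩ * l))⁻¹ = MulAut.conj (A.el ⟨a', b', c', 0⟩) *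
        (MulAut.conj l * β * (MulAut.conj l)⁻¹) * (MulAut.conj (A.el ⟨a', b', c', 0⟩))⁻¹ := by
    intro β
    rw [map_mul]; group
  refine ⟨A.el ⟨a', b', c', 0⟩ * l, ?_, ?_⟩
  · rw [e]; exact hpure
  · intro β hβ
    have h3 : MulAut.conj (A.el ⟨a', b', c', 0⟩ * l) * β *
        (MulAut.conj (A.el ⟨a', b', c', 0⟩ * l))⁻¹ ∈ A.MT := by
      rw [e]
      exact mul_mem (mul_mem (conj_mem_MT _) (hl β hβ)) (inv_mem (conj_mem_MT _))
    refine ⟨h3, ?_⟩
    obtain ⟨r, ρ, hr⟩ := h3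
    refine hr.fix_of_comm hτ (α := MulAut.conj (A.el ⟨a', b', c', 0⟩ * l) * α *
      (MulAut.conj (A.el ⟨a', b', c', 0⟩ * l))⁻¹) (by rw [e]; exact hpure) ?_
    set m := MulAut.conj (A.el ⟨a', b', c', 0⟩ * l)
    calc m * α * m⁻¹ * (m * β * m⁻¹) = m * (α * β) * m⁻¹ := by group
      _ = m * (β * α) * m⁻¹ := by rw [hc β hβ]
      _ = _ := by group

end Cov

namespace Emb

variable {L : Type*} [Group L] {A : Cov L} {G : Type*} [Group G] (E : Emb A G)

theorem mem_cent {x : G} : x ∈ Subgroup.centralizer ({E.z} : Set G) ↔ Commute x E.z :=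
  Subgroup.mem_centralizer_singleton_iff

/-- the automorphism induced by an element of `C(z)` -/
noncomputable def actOf (x : Subgroup.centralizer ({E.z} : Set G)) : MulAut L :=
  (E.exists_act (E.mem_cent.mp x.2)).choose

theorem act_actOf (x : Subgroup.centralizer ({E.z} : Set G)) : E.Act (x : G) (E.actOf x) :=
  (E.exists_act (E.mem_cent.mp x.2)).choose_spec

theorem actOf_eq {x : Subgroup.centralizer ({E.z} : Set G)} {α : MulAut L}
    (h : E.Act (x : G) α) : E.actOf x = α := (E.act_actOf x).unique h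

/-- the action of `C(z)` on `L` -/
noncomputable def actHom : Subgroup.centralizer ({E.z} : Set G) →* MulAut L where
  toFun := E.actOf
  map_one' := E.actOf_eq (by simpa using Act.one)
  map_mul' x y := E.actOf_eq (by simpa using (E.act_actOf x).mul (E.act_actOf y))

theorem actHom_eq {x : G} (hx : x ∈ Subgroup.centralizer ({E.z} : Set G)) {α : MulAut L}
    (h : E.Act x α) : E.actHom ⟨x, hx⟩ = α := E.actOf_eq h

/-- the sign character of `C(z)` -/
noncomputable def chi : Subgroup.centralizer ({E.z} : Set G) →* ℤˣ where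
  toFun x := tsign (A.tyOf (E.actHom x))
  map_one' := by
    rw [map_one, Cov.tyOf_one]; rfl
  map_mul' x y := by
    rw [map_mul, Cov.tyOf_mul, tsign_mul]

theorem chi_eq {x : G} (hx : x ∈ Subgroup.centralizer ({E.z} : Set G)) {α : MulAut L} {τ : Ty}
    (h : E.Act x α) (hτ : A.HasTy α τ) :
    E.chi ⟨x, hx⟩ = if xor τ.1 τ.2 then -1 else 1 := by
  show tsign (A.tyOf (E.actHom ⟨x, hx⟩)) = tsign τ
  rw [E.actHom_eq hx h, Cov.tyOf_eq hτ]

variable {E} in
theorem Act.conj' {x : G} {α : MulAut L} (h : E.Act x α) (g : G) :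
    (E.conj g).Act (g * x * g⁻¹) α := by
  intro y
  rw [conj_ι, conj_ι, ← h]
  group

theorem mem_cent_conj {x : G} (g : G) (hx : x ∈ Subgroup.centralizer ({E.z} : Set G)) :
    g * x * g⁻¹ ∈ Subgroup.centralizer ({(E.conj g).z} : Set G) := by
  rw [mem_cent] at hx ⊢
  rw [conj_z]
  have := hx.conj g
  exact this

theorem chi_conj (g x : G) (hx : x ∈ Subgroup.centralizer ({E.z} : Set G))
    (hx' : g * x * g⁻¹ ∈ Subgroup.centralizer ({(E.conj g).z} : Set G)) :
    (E.conj g).chi ⟨g * x * g⁻¹, hx'⟩ = E.chi ⟨x, hx⟩ := by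
  obtain ⟨α, hα⟩ := E.exists_act (E.mem_cent.mp hx)
  rw [E.chi_eq hx hα (Cov.hasTy_tyOf α), (E.conj g).chi_eq hx' (hα.conj' g) (Cov.hasTy_tyOf α)]

/-- variant of `chi_conj` -/
theorem chi_conj' (g x : G) (hx : x ∈ Subgroup.centralizer ({(E.conj g).z} : Set G))
    (hx' : g⁻¹ * x * g ∈ Subgroup.centralizer ({E.z} : Set G)) :
    (E.conj g).chi ⟨x, hx⟩ = E.chi ⟨g⁻¹ * x * g, hx'⟩ := by
  rw [← E.chi_conj g (g⁻¹ * x * g) hx' (E.mem_cent_conj g hx')]
  congr 2
  group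

theorem chi_conj_of_commute (g x : G) (hg : Commute g E.z)
    (hx : x ∈ Subgroup.centralizer ({E.z} : Set G))
    (hx' : x ∈ Subgroup.centralizer ({(E.conj g).z} : Set G)) :
    (E.conj g).chi ⟨x, hx'⟩ = E.chi ⟨x, hx⟩ := by
  have hg' : g ∈ Subgroup.centralizer ({E.z} : Set G) := E.mem_cent.mpr hg
  have h1 : g⁻¹ * x * g ∈ Subgroup.centralizer ({E.z} : Set G) :=
    mul_mem (mul_mem (inv_mem hg') hx) hg'
  rw [E.chi_conj' g x hx' h1]
  have h2 : (⟨g⁻¹ * x * g, h1⟩ : Subgroup.centralizer ({E.z} : Set G)) =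
      ⟨g, hg'⟩⁻¹ * ⟨x, hx⟩ * ⟨g, hg'⟩ := rfl
  rw [h2, map_mul, map_mul, map_inv, mul_right_comm, inv_mul_cancel, one_mul]

/-- the characters of conjugate embeddings with the same central involution agree -/
theorem chi_conj_congr (g h x : G) (hgh : (E.conj g).z = (E.conj h).z)
    (hx : x ∈ Subgroup.centralizer ({(E.conj g).z} : Set G))
    (hx' : x ∈ Subgroup.centralizer ({(E.conj h).z} : Set G)) :
    (E.conj g).chi ⟨x, hx⟩ = (E.conj h).chi ⟨x, hx'⟩ := by
  have e : E.conj g = (E.conj h).conj (g * h⁻¹) := by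
    rw [conj_conj]; congr 1; group
  have hc : Commute (g * h⁻¹) (E.conj h).z := by
    have h1 : ((E.conj h).conj (g * h⁻¹)).z = (E.conj h).z := by rw [← e, hgh]
    rw [conj_z] at h1
    exact mul_inv_eq_iff_eq_mul.mp h1
  have key : ∀ (E' : Emb A G) (he : E' = (E.conj h).conj (g * h⁻¹))
      (hx1 : x ∈ Subgroup.centralizer ({E'.z} : Set G)),
      E'.chi ⟨x, hx1⟩ = (E.conj h).chi ⟨x, hx'⟩ := by
    rintro _ rfl hx1
    exact (E.conj h).chi_conj_of_commute (g * h⁻¹) x hc hx' hx1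
  exact key _ e hx

/-- The only conjugate of `z` centralising a Sylow 2-subgroup of `C(z)` is `z`. -/
theorem hsyl (S : Subgroup G) (hS : IsPGroup 2 S)
    (hSC : S ≤ Subgroup.centralizer ({E.z} : Set G))
    (hrel : ¬ 2 ∣ S.relIndex (Subgroup.centralizer ({E.z} : Set G))) (g : G)
    (hg : ∀ s ∈ S, Commute s (g * E.z * g⁻¹)) : g * E.z * g⁻¹ = E.z := by
  have : Fact (Nat.Prime 2) := ⟨Nat.prime_two⟩
  -- the 2-group `ι T` in `C(z)`
  have hT : IsPGroup 2 A.T := by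
    rintro ⟨_, p, rfl⟩
    refine ⟨4, ?_⟩
    apply Subtype.ext
    show (A.el p) ^ (2 ^ 4) = 1
    have h := pow16 A.ty p
    have h1 : A.el p ^ (2 ^ 4) = A.el (cmul A.ty (cmul A.ty (cmul A.ty (cmul A.ty p p) (cmul A.ty p p))
      (cmul A.ty (cmul A.ty p p) (cmul A.ty p p))) (cmul A.ty (cmul A.ty (cmul A.ty p p) (cmul A.ty p p))
      (cmul A.ty (cmul A.ty p p) (cmul A.ty p p)))) := by
      simp only [← A.el_mul]
      rw [show 2 ^ 4 = 16 from rfl]
      simp only [pow_succ, pow_zero, one_mul, mul_assoc]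
    rw [h1, h, A.el_one]
  set C := Subgroup.centralizer ({E.z} : Set G) with hC
  have hιC : ∀ y : L, E.ι y ∈ C := fun y => E.mem_cent.mpr (E.z_comm y).symm
  let f : L →* C := E.ι.codRestrict C hιC
  have hR : IsPGroup 2 (A.T.map f) := hT.map f
  obtain ⟨x, hx⟩ := hR.nonempty_fixed_point_of_prime_not_dvd_card (C ⧸ S.subgroupOf C) hrel
  obtain ⟨c, rfl⟩ := QuotientGroup.mk_surjective x
  have key : ∀ p, (c : G)⁻¹ * E.ι (A.el p) * c ∈ S := by
    intro p
    have h2 := hx ⟨f (A.el p), Subgroup.mem_map_of_mem _ (A.el_mem p)⟩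
    have h3 : ((f (A.el p) * c : C) : C ⧸ S.subgroupOf C) = (c : C ⧸ S.subgroupOf C) := h2
    rw [eq_comm, QuotientGroup.eq] at h3
    have h4 : (c : G)⁻¹ * (E.ι (A.el p) * c) ∈ S := h3
    rwa [← mul_assoc] at h4
  have hcz : Commute (c : G) E.z := E.mem_cent.mp c.2
  set v := ((c : G) * g) * E.z * ((c : G) * g)⁻¹ with hv
  have hvp : ∀ p, Commute (E.ι (A.el p)) v := by
    intro p
    have h1 := (hg _ (key p)).conj (c : G)
    have e1 : (c : G) * ((c : G)⁻¹ * E.ι (A.el p) * c) * (c : G)⁻¹ = E.ι (A.el p) := by group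
    have e2 : (c : G) * (g * E.z * g⁻¹) * (c : G)⁻¹ = v := by rw [hv]; group
    rw [e1, e2] at h1
    exact h1
  have hvz : Commute v E.z := by
    have h1 := hvp ⟨0, 0, 0, 2⟩
    rw [A.el_sp, ← A.z_eq] at h1
    exact h1.symm
  obtain ⟨α, hα⟩ := E.exists_act hvz
  have hfix : ∀ p, α (A.el p) = A.el p := fun p => (hα.commute_iff _).mp (hvp p).symm
  have h02 : α (A.x 0 2 1) = A.x 0 2 1 := by
    have := hfix ⟨0, 0, 1, 0⟩
    rwa [A.el_x02] at this
  obtain ⟨a, b, c', τ, hcd⟩ := A.exists_cd' h02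
  have h1 := (hcd.eq_one (fun y _ => hfix y)).2.2
  rw [h1] at hα
  have h2 : v = E.z := eq_z_of_mem (act_one_iff.mp hα)
  calc g * E.z * g⁻¹ = (c : G)⁻¹ * v * c := by rw [hv]; group
    _ = (c : G)⁻¹ * (E.z * c) := by rw [h2]; group
    _ = (c : G)⁻¹ * (c * E.z) := by rw [hcz.eq]
    _ = E.z := by group

/-- A 2-group `P` commuting with `z` and with an involution `v` inducing an outer automorphism of type
`τ`: up to conjugation in `ι L`, `v` is pure and `P` centralises `u`. -/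
theorem exists_sylow_pure {v : G} (hvz : Commute v E.z) (hv2 : v * v = 1) {α : MulAut L}
    (hα : E.Act v α) {τ : Ty} (hτ : τ ≠ (false, false)) (hty : A.HasTy α τ)
    (P : Subgroup G) (hP : IsPGroup 2 P) (hPz : ∀ x ∈ P, Commute x E.z)
    (hPv : ∀ x ∈ P, Commute x v) :
    ∃ l : L, (∃ β, E.Act (E.ι l * v * (E.ι l)⁻¹) β ∧ A.IsTau τ β) ∧
      ∀ x ∈ P, Commute (E.ι l * x * (E.ι l)⁻¹) E.u := by
  have : Fact (Nat.Prime 2) := ⟨Nat.prime_two⟩
  set R : Subgroup G := P ⊔ Subgroup.zpowers v with hR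
  have hvp : IsPGroup 2 (Subgroup.zpowers v) := by
    rintro ⟨x, hx⟩
    obtain ⟨k, rfl⟩ := Subgroup.mem_zpowers_iff.mp hx
    refine ⟨1, ?_⟩
    apply Subtype.ext
    show (v ^ k) ^ (2 ^ 1) = 1
    rw [pow_one, pow_two, ← (Commute.refl v).mul_zpow, hv2, one_zpow]
  have hRp : IsPGroup 2 R := by
    apply IsPGroup.to_sup_of_normal_right' hP hvp
    intro x hx
    rw [Subgroup.mem_normalizer_iff]
    intro y
    have e : ∀ k : ℤ, x * v ^ k * x⁻¹ = v ^ k := by
      intro k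
      rw [((hPv x hx).zpow_right k).eq]; group
    constructor
    · intro hy
      obtain ⟨k, rfl⟩ := Subgroup.mem_zpowers_iff.mp hy
      rw [e]; exact Subgroup.zpow_mem_zpowers v k
    · intro hy
      obtain ⟨k, hk⟩ := Subgroup.mem_zpowers_iff.mp hy
      have : y = v ^ k := by
        have h1 : x * y * x⁻¹ = x * v ^ k * x⁻¹ := by rw [e, hk]
        exact mul_left_cancel (mul_right_cancel h1)
      rw [this]; exact Subgroup.zpow_mem_zpowers v k
  have hRz : ∀ x ∈ R, Commute x E.z := by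
    have h1 : R ≤ Subgroup.centralizer ({E.z} : Set G) := by
      rw [hR, sup_le_iff, Subgroup.zpowers_le]
      exact ⟨fun x hx => E.mem_cent.mpr (hPz x hx), E.mem_cent.mpr hvz⟩
    exact fun x hx => E.mem_cent.mp (h1 hx)
  have hRv : ∀ x ∈ R, Commute x v := by
    have h1 : R ≤ Subgroup.centralizer ({v} : Set G) := by
      rw [hR, sup_le_iff, Subgroup.zpowers_le]
      exact ⟨fun x hx => Subgroup.mem_centralizer_singleton_iff.mpr (hPv x hx),
        Subgroup.mem_centralizer_singleton_iff.mpr rfl⟩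
    exact fun x hx => Subgroup.mem_centralizer_singleton_iff.mp (h1 hx)
  let Q : Subgroup (MulAut L) :=
    { carrier := {β | ∃ x ∈ R, E.Act x β}
      mul_mem' := by
        rintro β γ ⟨x, hx, h⟩ ⟨y, hy, h'⟩
        exact ⟨_, mul_mem hx hy, h.mul h'⟩
      one_mem' := ⟨1, one_mem _, Act.one⟩
      inv_mem' := by
        rintro β ⟨x, hx, h⟩
        exact ⟨_, inv_mem hx, h.inv⟩ }
  have hQ : IsPGroup 2 Q := by
    rintro ⟨β, x, hx, h⟩
    obtain ⟨n, hn⟩ := hRp ⟨x, hx⟩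
    refine ⟨n, ?_⟩
    apply Subtype.ext
    show β ^ (2 ^ n) = 1
    have h1 := h.pow (2 ^ n)
    have h2 : x ^ (2 ^ n) = 1 := congrArg Subtype.val hn
    rw [h2] at h1
    exact h1.unique Act.one
  have hαQ : α ∈ Q := ⟨v, (le_sup_right : _ ≤ R) (Subgroup.mem_zpowers v), hα⟩
  have hα2 : α * α = 1 := by
    have := hα.mul hα
    rw [hv2] at this
    exact this.unique Act.one
  have hc : ∀ β ∈ Q, α * β = β * α := by
    rintro β ⟨x, hx, h⟩
    have h1 := hα.mul h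
    rw [← (hRv x hx).eq] at h1
    exact h1.unique (h.mul hα)
  obtain ⟨l, hl, hl'⟩ := Cov.exists_conj_pure Q hQ hαQ hα2 hτ hty hc
  have hconj : ∀ {x : G} {β : MulAut L}, E.Act x β → E.Act (E.ι l * x * (E.ι l)⁻¹)
      (MulAut.conj l * β * (MulAut.conj l)⁻¹) := fun h =>
    ((act_ι l).mul h).mul (act_ι l).inv
  refine ⟨l, ⟨_, hconj hα, hl⟩, ?_⟩
  intro x hx
  obtain ⟨β, hβ⟩ := E.exists_act (hPz x hx)
  have hβQ : β ∈ Q := ⟨x, (le_sup_left : _ ≤ R) hx, hβ⟩
  exact ((hconj hβ).commute_iff _).mpr (hl' β hβQ).2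

end Emb

end Cfsg.Agent.StdL34
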