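import Cfsg.Agent.StdL34.Connect
import Cfsg.Agent.StdL34.Chi
import Cfsg.Agent.StdL34.TransferZ

/-!
# The character is trivial
-/

set_option autoImplicit false
set_option linter.constructorNameAsVariable false
set_option linter.unusedVariables false

namespace Cfsg.Agent.StdL34

open Cfsg.Agent.SporadicA.FieldFour

namespace Emb

variable {L : Type*} [Group L] {A : Cov L} {G : Type*} [Group G] {E : Emb A G}

theorem pure : Pure A G := by
  intro E v x n τ hv2 ⟨α, hα, hτα⟩ h2 hxz hxv hn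
  have hτ : τ ≠ (false, false) := by rintro rfl; exact absurd h2 (by decide)
  have hP : IsPGroup 2 (Subgroup.zpowers x) := by
    rintro ⟨y, hy⟩
    obtain ⟨k, rfl⟩ := Subgroup.mem_zpowers_iff.mp hy
    refine ⟨n, ?_⟩
    apply Subtype.ext
    show (x ^ k) ^ (2 ^ n) = 1
    rw [← zpow_natCast, ← zpow_mul, mul_comm, zpow_mul, zpow_natCast, hn, one_zpow]
  have hcz : ∀ y ∈ Subgroup.zpowers x, Commute y E.z := by
    intro y hy
    obtain ⟨k, rfl⟩ := Subgroup.mem_zpowers_iff.mp hy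
    exact hxz.zpow_left k
  have hcv : ∀ y ∈ Subgroup.zpowers x, Commute y v := by
    intro y hy
    obtain ⟨k, rfl⟩ := Subgroup.mem_zpowers_iff.mp hy
    exact hxv.zpow_left k
  obtain ⟨l, ⟨β, hβ, hβτ⟩, hl⟩ := E.exists_sylow_pure hα.comm_z hv2 hα hτ hτα _ hP hcz hcv
  exact ⟨l, β, hβ, hβτ, hl x (Subgroup.mem_zpowers x)⟩

theorem orderOf_z (E : Emb A G) : orderOf E.z = 2 :=
  orderOf_eq_prime (by rw [pow_two, E.z_sq]) E.z_ne_one

theorem chi_one [Finite G] [IsSimpleGroup G] (hG : ¬ IsMulCommutative G) (E : Emb A G)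
    (hAA : ∀ (E : Emb A G) w, E.Pair w → E.AA = (E.conj w).AA) : E.chi = 1 := by
  refine transfer_z hG E.z (orderOf_z E) E.chi ?_ ?_
  · rintro g x hx hx' hc ⟨n, hn⟩
    have hxz : Commute x E.z := (E.mem_cent).mp hx
    have hxv : Commute x (g * E.z * g⁻¹) := by
      have h1 : Commute (g⁻¹ * x * g) E.z := (E.mem_cent).mp hx'
      have h2 := h1.conj g
      have e : g * (g⁻¹ * x * g) * g⁻¹ = x := by group
      rwa [e] at h2
    obtain ⟨α, hα⟩ := E.exists_act hxz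
    obtain ⟨τ, hτ⟩ := A.hasTy α
    obtain ⟨α', hα'⟩ := (E.conj g).exists_act hxv
    obtain ⟨τ', hτ'⟩ := A.hasTy α'
    have hx2 : x ∈ Subgroup.centralizer ({(E.conj g).z} : Set G) := ((E.conj g).mem_cent).mpr hxv
    rw [← E.chi_conj' g x hx2 hx', E.chi_eq hx hα hτ, (E.conj g).chi_eq hx2 hα' hτ',
      chi_comm hAA pure hc hxz hxv hn ⟨α, hα, hτ⟩ ⟨α', hα', hτ'⟩]
  · intro S hS hSC hrel g hg
    exact E.hsyl S hS hSC hrel g hg

theorem ty_cases [Finite G] [IsSimpleGroup G] (hG : ¬ IsMulCommutative G) (E : Emb A G)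
    (hAA : ∀ (E : Emb A G) w, E.Pair w → E.AA = (E.conj w).AA) {x : G} {τ : Ty}
    (h : E.HT x τ) : τ = (false, false) ∨ τ = (true, true) := by
  have hx : x ∈ Subgroup.centralizer ({E.z} : Set G) := (E.mem_cent).mpr h.comm
  obtain ⟨α, hα, hτ⟩ := h
  have h1 := E.chi_eq hx hα hτ
  rw [chi_one hG E hAA] at h1
  have h2 : (1 : ℤˣ) = if xor τ.1 τ.2 then -1 else 1 := h1
  obtain ⟨e, f⟩ := τ
  cases e <;> cases f
  · exact Or.inl rfl
  · exact absurd h2 (by decide)
  · exact absurd h2 (by decide)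
  · exact Or.inr rfl

end Emb

end Cfsg.Agent.StdL34
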