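import Cfsg.Agent.SporadicA.FieldFour

/-!
# Coded Sylow 2-subgroup of `4.L3(4)` and its outer automorphisms: finite computations

An element `x₀₁(a) x₁₂(b) x₀₂(c) s^k` of the Sylow 2-subgroup is coded by `⟨a, b, c, k⟩`; `ty = true` is
the type with abelian `⟨s, x₀₁(a)x₁₂(a), x₀₂(c)⟩`.
-/

set_option autoImplicit false

namespace Cfsg.Agent.StdL34

open Cfsg.Agent.SporadicA.FieldFour

/-- trace of `F4` -/
def trF (u : F4) : Bool := match u with
  | .z => false
  | .o => false
  | .w => true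
  | .v => true

/-- the exponent function of the sum relation -/
def gx (ty : Bool) (u : F4) : Fin 4 := match ty, u with
  | _, .z => 0
  | false, .o => 0
  | false, .w => 1
  | false, .v => 3
  | true, .o => 2
  | true, .w => 1
  | true, .v => 1

/-- codes -/
structure Code where
  a : F4
  b : F4
  c : F4
  k : Fin 4
  deriving DecidableEq

/-- `2 * tr` as an exponent -/
def t2 (u : F4) : Fin 4 := if trF u then 2 else 0

/-- product of codes -/
def cmul (ty : Bool) (p q : Code) : Code :=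
  ⟨p.a + q.a, p.b + q.b, q.a * p.b + p.c + q.c,
    p.k + q.k - gx ty (q.a * (p.b * p.b)) + t2 (p.c * q.a) + t2 ((q.a * p.b + p.c) * q.b)⟩

/-- the trivial code -/
def cone : Code := ⟨0, 0, 0, 0⟩

/-- inverse code -/
def cinv (ty : Bool) (p : Code) : Code :=
  ⟨p.a, p.b, p.c + p.a * p.b,
    -(p.k - gx ty (p.a * (p.b * p.b)) + t2 (p.c * p.a) + t2 ((p.a * p.b + p.c) * p.b))⟩

/-- Outer types: `(field, graph)`. -/
abbrev Ty : Type := Bool × Bool

/-- field twist -/
def fr (e : Bool) (u : F4) : F4 := if e then u * u else u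

/-- does the outer type invert `s`? -/
def invs (ty : Bool) (τ : Ty) : Bool := if ty then τ.2 else τ.1

/-- sign on exponents -/
def sg (b : Bool) (k : Fin 4) : Fin 4 := if b then -k else k

/-- the action of a pure outer type on codes -/
def ctau (ty : Bool) (τ : Ty) (p : Code) : Code :=
  if τ.2 then
    cmul ty (cmul ty ⟨0, fr τ.1 p.a, 0, 0⟩ ⟨fr τ.1 p.b, 0, 0, 0⟩) ⟨0, 0, fr τ.1 p.c, sg (invs ty τ) p.k⟩
  else ⟨fr τ.1 p.a, fr τ.1 p.b, fr τ.1 p.c, sg (invs ty τ) p.k⟩

/-- action of `y ↦ p⁻¹ τ(y) p` on codes -/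
def cact (ty : Bool) (p : Code) (τ : Ty) (y : Code) : Code :=
  cmul ty (cmul ty (cinv ty p) (ctau ty τ y)) p

/-- product of outer types -/
def Ty.mul (τ τ' : Ty) : Ty := (xor τ.1 τ'.1, xor τ.2 τ'.2)

theorem forall_code {P : Code → Prop} : (∀ p, P p) ↔ ∀ a b c k, P ⟨a, b, c, k⟩ :=
  ⟨fun h a b c k => h _, fun h p => h p.a p.b p.c p.k⟩

instance {P : Code → Prop} [DecidablePred P] : Decidable (∀ p, P p) :=
  decidable_of_iff _ forall_code.symm

theorem exists_code {P : Code → Prop} : (∃ p, P p) ↔ ∃ a b c k, P ⟨a, b, c, k⟩ :=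
  ⟨fun ⟨p, h⟩ => ⟨p.a, p.b, p.c, p.k, h⟩, fun ⟨_, _, _, _, h⟩ => ⟨_, h⟩⟩

instance {P : Code → Prop} [DecidablePred P] : Decidable (∃ p, P p) :=
  decidable_of_iff _ exists_code.symm

theorem cmul_cinv (ty : Bool) (p : Code) : cmul ty p (cinv ty p) = cone := by
  revert ty p; decide +kernel

end Cfsg.Agent.StdL34
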