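import Cfsg.Agent.StdL34.HT

/-!
# Outer conjugates: connection through an inner one
-/

set_option autoImplicit false
set_option linter.constructorNameAsVariable false
set_option linter.unusedVariables false

namespace Cfsg.Agent.StdL34

open Cfsg.Agent.SporadicA.FieldFour
open Cfsg.Agent.ONType.Psl (kap)

namespace Emb

variable {L : Type*} [Group L] {A : Cov L} {G : Type*} [Group G] {E : Emb A G}

theorem map_s {α : MulAut L} {τ : Ty} (h : A.HasTy α τ) : α A.s = A.sp (sg (invs A.ty τ) 1) := by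
  obtain ⟨l, hl⟩ := h
  have h1 := hl.s
  rw [MulAut.mul_apply, MulAut.conj_apply] at h1
  have h2 : l * α A.s = A.sp (sg (invs A.ty τ) 1) * l := mul_inv_eq_iff_eq_mul.mp h1
  rw [A.sp_cen] at h2
  exact mul_left_cancel h2

theorem HT.comm_s_iff {x : G} {τ : Ty} (h : E.HT x τ) : Commute x E.s ↔ invs A.ty τ = false := by
  obtain ⟨α, hα, hτ⟩ := h
  unfold s
  rw [hα.commute_iff, map_s hτ]
  have e : ∀ b, sg b 1 = 1 ↔ b = false := by decide
  rw [← e, ← A.sp_eq_iff, A.sp_one]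

theorem HT.inv_s {x : G} {τ : Ty} (h : E.HT x τ) (hi : invs A.ty τ = true) :
    x * E.s * x⁻¹ = E.s⁻¹ := by
  obtain ⟨α, hα, hτ⟩ := h
  have h1 := hα A.s
  rw [map_s hτ, hi] at h1
  show x * E.ι A.s * x⁻¹ = (E.ι A.s)⁻¹
  rw [h1, ← map_inv]
  congr 1
  show A.sp (-1) = A.s⁻¹
  rw [← A.sp_neg, A.sp_one]

theorem HT.inner_of_eq {x : G} {τ : Ty} (h : E.HT x τ) (h' : τ = (false, false)) :
    E.HT x (false, false) := by rwa [h'] at h

/-- an outer conjugate inverts `s` -/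
theorem outer_inv {g : G} (hc : Commute (g * E.z * g⁻¹) E.z)
    (hne : g * E.z * g⁻¹ ≠ E.z) {τ : Ty} (ht : E.HT (g * E.z * g⁻¹) τ) (hτ : τ ≠ (false, false)) :
    invs A.ty τ = true := by
  by_contra hcon
  rw [Bool.not_eq_true, ← ht.comm_s_iff] at hcon
  have h1 : Commute E.s (E.conj g).z := hcon.symm
  obtain ⟨ρ, hρ⟩ := exists_HT h1
  have h2 := hρ.mul hρ
  rw [E.s_sq, Cov.Ty.mul_self] at h2
  exact hτ (ht.unique (inner_symm hc hne h2))

theorem outer_snd (hty : A.ty = true) {g : G} (hc : Commute (g * E.z * g⁻¹) E.z)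
    (hne : g * E.z * g⁻¹ ≠ E.z) {τ : Ty} (ht : E.HT (g * E.z * g⁻¹) τ) (hτ : τ ≠ (false, false)) :
    τ.2 = true := by
  have := outer_inv hc hne ht hτ
  rw [hty] at this
  exact this

theorem h_fix {β : MulAut L} (h : A.IsTau (false, true) β) : β A.h = A.h := by
  rw [← A.h_eq 0 2 (by decide)]
  simp only [map_mul, h.x02, h.x20]
  rfl

/-- an involution of the component that centralises the pure outer `v`, and is inner on the component
of `v` -/
theorem exists_j {F : Emb A G} {v : G} (hF : F.z = v) {β : MulAut L} {τ : Ty} (hβ : E.Act v β)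
    (hτ : A.IsTau τ β) (hi : invs A.ty τ = true) :
    ∃ j : L, (j = A.x 0 2 1 ∨ j = A.x 0 2 1 * A.z) ∧ Commute v (E.ι j) ∧
      F.HT (E.ι j) (false, false) := by
  by_cases hcase : A.ty = true ∧ τ = (false, true)
  · obtain ⟨hty, rfl⟩ := hcase
    refine ⟨A.x 0 2 1, Or.inl rfl, ?_, ?_⟩
    · rw [hβ.commute_iff, hτ.x02]; rfl
    · have h1 : Commute (E.ι (A.x 0 2 F4.v)) F.z := by
        rw [hF]
        apply Commute.symm
        rw [hβ.commute_iff, hτ.x02]; rfl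
      have h2 : Commute (E.ι A.h) F.z := by
        rw [hF]
        apply Commute.symm
        rw [hβ.commute_iff, h_fix hτ]
      have h3 : A.x 0 2 1 = (A.x 0 2 F4.v)⁻¹ * A.h⁻¹ * A.x 0 2 F4.v * A.h := by
        have h4 := A.h_x 0 2 (by decide) F4.v
        have e : kap 0 2 * F4.v = F4.w := rfl
        rw [e] at h4
        rw [A.x_inv 0 2 (by decide), mul_assoc, mul_assoc, ← mul_assoc A.h⁻¹, h4,
          A.x_add 0 2 (by decide)]
        rfl
      obtain ⟨ρ, hρ⟩ := exists_HT h1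
      obtain ⟨μ, hμ⟩ := exists_HT h2
      have h5 := ((hρ.inv.mul hμ.inv).mul hρ).mul hμ
      rw [Case2.Ty.comm4] at h5
      rw [h3]
      simpa only [map_mul, map_inv] using h5
  · obtain ⟨a, b, c, k, h1, h2⟩ := sq_fix A.ty τ hi hcase
    set t := A.el ⟨a, b, c, k⟩ with ht
    have hvt : Commute v (E.ι t) := by
      rw [hβ.commute_iff, ht, hτ.el, h1]
    have hTt : Commute (E.ι t) F.z := by rw [hF]; exact hvt.symm
    obtain ⟨ρ, hρ⟩ := exists_HT hTt
    have h3 := hρ.mul hρ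
    rw [← map_mul, Cov.Ty.mul_self] at h3
    refine ⟨t * t, ?_, ?_, h3⟩
    · rw [ht, A.el_mul]
      rcases h2 with h2 | h2
      · left
        rw [h2, A.el_x02]
      · right
        rw [h2, A.z_eq, ← A.el_x02, ← A.el_sp, A.el_mul]
        congr 1
    · rw [map_mul]
      exact hvt.mul_right hvt

theorem u_conj {g : G} (hc : Commute (g * E.z * g⁻¹) E.z) (hne : g * E.z * g⁻¹ ≠ E.z) {j : L}
    (hj : j = A.x 0 2 1 ∨ j = A.x 0 2 1 * A.z) : ∃ h, h * E.z * h⁻¹ = E.ι j := by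
  obtain ⟨w, hP⟩ := exists_pair hc hne
  rcases hj with rfl | rfl
  · exact ⟨w, hP.1⟩
  · obtain ⟨g0, hg0⟩ := A.x02_z
    refine ⟨(E.ι g0)⁻¹ * w, ?_⟩
    have h0 : E.ι g0 * E.ι (A.x 0 2 1 * A.z) * (E.ι g0)⁻¹ = E.u := by
      rw [← map_inv, ← map_mul, ← map_mul, hg0]; rfl
    have h1 : E.ι (A.x 0 2 1 * A.z) = (E.ι g0)⁻¹ * E.u * E.ι g0 := by
      rw [← h0]; group
    rw [h1, ← hP.1]; group

theorem ι_j_ne {j : L} (hj : j = A.x 0 2 1 ∨ j = A.x 0 2 1 * A.z) : E.ι j ≠ E.z := by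
  intro h
  have h1 : j = A.z := E.inj h
  rcases hj with rfl | rfl
  · exact u_ne_z' (E := E) h
  · have h2 : A.x 0 2 1 = 1 := by
      have := congrArg (fun t => t * A.z) h1
      simp only [mul_assoc, A.z_sq, mul_one] at this
      exact this
    rw [← A.el_x02, ← A.el_one] at h2
    have := A.inj h2
    exact absurd this (by decide)

variable (A G) in
/-- statement of the simultaneous purification -/
def Pure : Prop := ∀ (E : Emb A G) (v x : G) (n : ℕ) (τ : Ty), v * v = 1 → E.HT v τ →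
  τ.2 = true → Commute x E.z → Commute x v → x ^ (2 ^ n) = 1 →
  ∃ (l : L) (β : MulAut L), E.Act (E.ι l * v * (E.ι l)⁻¹) β ∧ A.IsTau τ β ∧
    Commute (E.ι l * x * (E.ι l)⁻¹) E.u

/-- connection of an outer conjugate with `z` through an inner one -/
theorem connect (hpure : Pure A G) (hty : A.ty = true) {g : G}
    (hc : Commute (g * E.z * g⁻¹) E.z) (hne : g * E.z * g⁻¹ ≠ E.z) {τ : Ty}
    (ht : E.HT (g * E.z * g⁻¹) τ) (hτ : τ ≠ (false, false)) {x : G} {n : ℕ} (hx : Commute x E.z)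
    (hx' : Commute x (g * E.z * g⁻¹)) (hn : x ^ (2 ^ n) = 1) :
    ∃ (l : L) (h : G), Commute (E.ι l * x * (E.ι l)⁻¹) (h * E.z * h⁻¹) ∧
      Commute (h * E.z * h⁻¹) E.z ∧ h * E.z * h⁻¹ ≠ E.z ∧ E.HT (h * E.z * h⁻¹) (false, false) ∧
      Commute (h * E.z * h⁻¹) (E.conj (E.ι l * g)).z ∧ h * E.z * h⁻¹ ≠ (E.conj (E.ι l * g)).z ∧
      (E.conj (E.ι l * g)).HT (h * E.z * h⁻¹) (false, false) := by
  have h2 : τ.2 = true := outer_snd hty hc hne ht hτ
  have hi : invs A.ty τ = true := outer_inv hc hne ht hτ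
  have hv2 : (g * E.z * g⁻¹) * (g * E.z * g⁻¹) = 1 := by
    calc (g * E.z * g⁻¹) * (g * E.z * g⁻¹) = g * (E.z * E.z) * g⁻¹ := by group
      _ = 1 := by rw [E.z_sq]; group
  obtain ⟨l, β, hβ, hτβ, hxu⟩ := hpure E _ x n τ hv2 ht h2 hx hx' hn
  have hFz : (E.conj (E.ι l * g)).z = E.ι l * (g * E.z * g⁻¹) * (E.ι l)⁻¹ := by
    rw [conj_z]; group
  obtain ⟨j, hj, hvj, hjF⟩ := exists_j (F := E.conj (E.ι l * g)) hFz hβ hτβ hi
  obtain ⟨h, hh⟩ := u_conj hc hne hj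
  refine ⟨l, h, ?_⟩
  rw [hh, hFz]
  have hxz : Commute (E.ι l * x * (E.ι l)⁻¹) E.z := by
    have h3 := hx.conj (E.ι l)
    have h4 : E.ι l * E.z * (E.ι l)⁻¹ = E.z := by rw [← (E.z_comm l).eq]; group
    rwa [h4] at h3
  refine ⟨?_, (E.z_comm j).symm, ι_j_ne hj, ht_ι j, hvj.symm, ?_, hjF⟩
  · rcases hj with rfl | rfl
    · exact hxu
    · rw [map_mul]
      exact hxu.mul_right hxz
  · intro h3
    have h4 : E.HT (E.ι l * (g * E.z * g⁻¹) * (E.ι l)⁻¹) τ := ht.conj_same (E.z_comm l).symm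
    rw [← h3] at h4
    exact hτ (h4.unique (ht_ι j))

/-- **(9)** comparison of the characters, in general -/
theorem chi_comm (hAA : ∀ (E : Emb A G) w, E.Pair w → E.AA = (E.conj w).AA) (hpure : Pure A G)
    {g : G} (hc : Commute (g * E.z * g⁻¹) E.z) {x : G} {n : ℕ} (hx : Commute x E.z)
    (hx' : Commute x (g * E.z * g⁻¹)) (hn : x ^ (2 ^ n) = 1) {τ τ' : Ty} (ht : E.HT x τ)
    (ht' : (E.conj g).HT x τ') : xor τ.1 τ.2 = xor τ'.1 τ'.2 := by
  by_cases hne : g * E.z * g⁻¹ = E.z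
  · have h1 : (E.conj g).z = (E.conj 1).z := by rw [conj_one]; exact hne
    have h2 := ht'.same' h1
    rw [conj_one] at h2
    rw [ht.unique h2]
  obtain ⟨w, hP⟩ := exists_pair hc hne
  have hty := (sAct hP).1
  obtain ⟨ρ, hρ⟩ := exists_HT hc
  by_cases hρ1 : ρ = (false, false)
  · subst hρ1
    exact chi_inner hAA hc hne hρ hx hx' ht ht'
  obtain ⟨l, h, c1, c2, c3, c4, c5, c6, c7⟩ := connect hpure hty hc hne hρ hρ1 hx hx' hn
  have hlz : Commute (E.ι l) E.z := (E.z_comm l).symm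
  have t1 : E.HT (E.ι l * x * (E.ι l)⁻¹) τ := ht.conj_same hlz
  have t2 : (E.conj (E.ι l * g)).HT (E.ι l * x * (E.ι l)⁻¹) τ' := by
    have := ht'.conj (E.ι l)
    rwa [conj_conj] at this
  have hxz : Commute (E.ι l * x * (E.ι l)⁻¹) (E.conj h).z := c1
  obtain ⟨μ, hμ⟩ := exists_HT hxz
  have k1 := chi_inner hAA c2 c3 c4 t1.comm c1 t1 hμ
  have e1 : (h * (E.ι l * g)⁻¹) * (E.conj (E.ι l * g)).z * (h * (E.ι l * g)⁻¹)⁻¹ =
      h * E.z * h⁻¹ := by rw [conj_z]; group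
  have k2 := chi_inner (E := E.conj (E.ι l * g)) (g := h * (E.ι l * g)⁻¹) hAA
    (by rw [e1]; exact c5) (by rw [e1]; exact c6) (by rw [e1]; exact c7) t2.comm
    (by rw [e1]; exact c1) t2 (by rw [conj_conj, inv_mul_cancel_right]; exact hμ)
  rw [k1, k2]

end Emb

end Cfsg.Agent.StdL34
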