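import Cfsg.Agent.StdL34.Case2

/-!
# Step (10), part in the component: the eights group
-/

set_option autoImplicit false
set_option linter.constructorNameAsVariable false
set_option linter.unusedVariables false

namespace Cfsg.Agent.StdL34

open Cfsg.Agent.SporadicA.FieldFour
open scoped Pointwise

namespace OneClass

/-! ### Finite facts on codes -/

/-- the code of the central involution -/
def cze : Code := ⟨0, 0, 0, 2⟩

/-- Elements of the eights group are central modulo `z`. -/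
theorem fin_v0 : ∀ ty (c : F4) (k : Fin 4) (q : Code), (k = 0 ∨ k = 2) →
    cmul ty ⟨0, 0, c, k⟩ q = cmul ty q ⟨0, 0, c, k⟩ ∨
      cmul ty ⟨0, 0, c, k⟩ q = cmul ty (cmul ty q ⟨0, 0, c, k⟩) cze := by decide +kernel

theorem fin_v1 : ∀ ty (p : Code), cmul ty p p = cone →
    (∀ q, cmul ty p q = cmul ty q p ∨ cmul ty p q = cmul ty (cmul ty q p) cze) →
    p.a = 0 ∧ p.b = 0 ∧ (p.k = 0 ∨ p.k = 2) := by decide +kernel

theorem fin_cen : ∀ ty (p : Code), (∀ q, cmul ty p q = cmul ty q p) →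
    p.a = 0 ∧ p.b = 0 ∧ p.c = 0 := by decide +kernel

theorem fin_mul : ∀ ty (c c' : F4) (k k' : Fin 4),
    cmul ty ⟨0, 0, c, k⟩ ⟨0, 0, c', k'⟩ = ⟨0, 0, c + c', k + k'⟩ := by decide +kernel

/-- moving an element of the eights group by the central involution -/
theorem fin_move : ∀ ty (c : F4) (k : Fin 4), c ≠ 0 → (k = 0 ∨ k = 2) →
    ∃ q : Code, cmul ty q ⟨0, 0, c, k⟩ = cmul ty (cmul ty ⟨0, 0, c, k⟩ cze) q := by decide +kernel

theorem fin_k : ∀ k k' : Fin 4, (k = 0 ∨ k = 2) → (k' = 0 ∨ k' = 2) → (k + k' = 0 ∨ k + k' = 2) := by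
  decide

theorem fin_sq : ∀ ty (c : F4) (k : Fin 4), (k = 0 ∨ k = 2) →
    cmul ty ⟨0, 0, c, k⟩ ⟨0, 0, c, k⟩ = cone := by decide +kernel

variable {L : Type*} [Group L] {A : Cov L}

/-- membership in the eights group `{x₀₂(c) z^k}` -/
def InV (A : Cov L) (l : L) : Prop := ∃ c k, (k = 0 ∨ k = 2) ∧ l = A.el ⟨0, 0, c, k⟩

theorem InV.mul {l m : L} (hl : InV A l) (hm : InV A m) : InV A (l * m) := by
  obtain ⟨c, k, hk, rfl⟩ := hl
  obtain ⟨c', k', hk', rfl⟩ := hm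
  refine ⟨c + c', k + k', fin_k k k' hk hk', ?_⟩
  rw [A.el_mul, fin_mul]

theorem InV.sq {l : L} (hl : InV A l) : l * l = 1 := by
  obtain ⟨c, k, hk, rfl⟩ := hl
  rw [A.el_mul, fin_sq A.ty c k hk, A.el_one]

theorem el_cze : A.el cze = A.z := by
  show A.el ⟨0, 0, 0, 2⟩ = A.z
  rw [A.el_sp, A.z_eq]

/-- intrinsic description of the eights group inside `T` -/
theorem inV_iff {l : L} (hl : l ∈ A.T) :
    InV A l ↔ l * l = 1 ∧ ∀ t ∈ A.T, l * t = t * l ∨ l * t = t * l * A.z := by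
  constructor
  · intro h
    refine ⟨h.sq, ?_⟩
    rintro _ ⟨q, rfl⟩
    obtain ⟨c, k, hk, rfl⟩ := h
    rcases fin_v0 A.ty c k q hk with h | h
    · left; rw [A.el_mul, A.el_mul, h]
    · right; rw [A.el_mul, h, A.el_mul, ← el_cze, A.el_mul]
  · rintro ⟨h1, h2⟩
    obtain ⟨p, rfl⟩ := hl
    have e1 : cmul A.ty p p = cone := by
      apply A.inj
      rw [← A.el_mul, h1, A.el_one]
    have e2 := fin_v1 A.ty p e1 (by
      intro q
      rcases h2 _ (A.el_mem q) with h | h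
      · left
        apply A.inj
        rw [← A.el_mul, h, A.el_mul]
      · right
        apply A.inj
        rw [← A.el_mul, h, A.el_mul, ← el_cze, A.el_mul])
    obtain ⟨a, b, c, k⟩ := p
    obtain ⟨ha, hb, hk⟩ := e2
    simp only at ha hb hk
    subst ha; subst hb
    exact ⟨c, k, hk, rfl⟩

theorem InV.mem_T {l : L} (h : InV A l) : l ∈ A.T := by
  obtain ⟨c, k, hk, rfl⟩ := h
  exact A.el_mem _

theorem inV_one : InV A (1 : L) := ⟨0, 0, Or.inl rfl, by rw [A.el_sp, A.sp_zero]⟩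

theorem inV_z : InV A A.z := ⟨0, 2, Or.inr rfl, by rw [A.el_sp, A.z_eq]⟩

theorem inV_x (c : F4) : InV A (A.x 0 2 c) := ⟨c, 0, Or.inl rfl, (A.el_x02 c).symm⟩

/-- Elements of `T` act on the eights group as transvections with centre `z`. -/
theorem T_conj {l t : L} (hl : InV A l) (ht : t ∈ A.T) : t * l * t⁻¹ = l ∨ t * l * t⁻¹ = l * A.z := by
  rcases ((inV_iff hl.mem_T).1 hl).2 t ht with h | h
  · left
    rw [← h, mul_inv_cancel_right]
  · right
    have h1 : l * A.z = A.z * l := (Case2.z_comm l).symm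
    have h2 : t * l = l * t * A.z := by
      rw [h, mul_assoc _ A.z A.z, Case2.zz, mul_one]
    rw [h2, mul_assoc, Case2.z_comm, ← mul_assoc, mul_inv_cancel_right]

theorem InV.mul_z {l : L} (hl : InV A l) : InV A (l * A.z) := hl.mul inV_z

/-- An element of `L` mapping `x₀₂(1)` into its coset modulo `z` lies in `T`. -/
theorem mem_T_of {l : L} (h : l * A.x 0 2 1 * l⁻¹ = A.x 0 2 1 ∨ l * A.x 0 2 1 * l⁻¹ = A.x 0 2 1 * A.z) :
    l ∈ A.T := by
  rcases h with h | h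
  · obtain ⟨p, hp⟩ := Cov.mem_of_commute (A := A) (l := l) (mul_inv_eq_iff_eq_mul.mp h)
    exact ⟨p, hp⟩
  · -- multiply by x01(w)
    have h1 : (A.x 0 1 F4.w) * A.x 0 2 1 * (A.x 0 1 F4.w)⁻¹ = A.x 0 2 1 * A.z := by
      have h1 := A.row 0 2 1 (by decide) (by decide) (by decide) 1 F4.w
      have h2 : A.sp (t2 (1 * F4.w)) = A.z := by rw [A.z_eq]; rfl
      rw [h2] at h1
      have h3 : A.x 0 1 F4.w * A.x 0 2 1 = A.x 0 2 1 * A.x 0 1 F4.w * A.z := by
        rw [h1, mul_assoc _ A.z A.z, Case2.zz, mul_one]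
      rw [h3, mul_assoc, Case2.z_comm, ← mul_assoc, mul_inv_cancel_right]
    have h2 : (A.x 0 1 F4.w) ∈ A.T := by
      rw [← A.el_x01]; exact A.el_mem _
    have h3 : ((A.x 0 1 F4.w) * l) * A.x 0 2 1 = A.x 0 2 1 * ((A.x 0 1 F4.w) * l) := by
      have h4 : l * A.x 0 2 1 = A.x 0 2 1 * A.z * l := mul_inv_eq_iff_eq_mul.mp h
      have h5 : A.x 0 1 F4.w * A.x 0 2 1 = A.x 0 2 1 * A.z * A.x 0 1 F4.w := mul_inv_eq_iff_eq_mul.mp h1
      calc (A.x 0 1 F4.w) * l * A.x 0 2 1 = A.x 0 1 F4.w * (l * A.x 0 2 1) := by group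
        _ = A.x 0 1 F4.w * A.x 0 2 1 * A.z * l := by rw [h4]; group
        _ = A.x 0 2 1 * (A.z * (A.x 0 1 F4.w * A.z)) * l := by rw [h5]; group
        _ = A.x 0 2 1 * (A.z * (A.z * A.x 0 1 F4.w)) * l := by rw [Case2.z_comm (A.x 0 1 F4.w)]
        _ = A.x 0 2 1 * ((A.z * A.z) * A.x 0 1 F4.w) * l := by group
        _ = _ := by rw [Case2.zz, one_mul, mul_assoc]
    obtain ⟨p, hp⟩ := Cov.mem_of_commute (A := A) h3
    have h4 : A.x 0 1 F4.w * l ∈ A.T := ⟨p, hp⟩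
    have h5 := mul_mem (inv_mem h2) h4
    rwa [inv_mul_cancel_left] at h5

/-- An automorphism of type `(true, true)` does not act on the eights group as a transvection with
centre `z`. -/
theorem not_trans {α : MulAut L} (hα : A.HasTy α (true, true))
    (h : ∀ c, α (A.x 0 2 c) = A.x 0 2 c ∨ α (A.x 0 2 c) = A.x 0 2 c * A.z) : False := by
  obtain ⟨l, hl⟩ := hα
  have hz : ∀ y : L, l * (y * A.z) * l⁻¹ = l * y * l⁻¹ * A.z := by
    intro y
    have := Case2.z_comm (A := A) l⁻¹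
    calc l * (y * A.z) * l⁻¹ = l * y * (A.z * l⁻¹) := by group
      _ = _ := by rw [this]; group
  have key : ∀ c, l * A.x 0 2 c * l⁻¹ = A.x 0 2 (c * c) ∨ l * A.x 0 2 c * l⁻¹ = A.x 0 2 (c * c) * A.z := by
    intro c
    have h1 : l * α (A.x 0 2 c) * l⁻¹ = A.x 0 2 (c * c) := by
      have := hl.x02 c
      rwa [MulAut.mul_apply, MulAut.conj_apply] at this
    rcases h c with h2 | h2
    · left; rwa [h2] at h1
    · right
      rw [h2, hz] at h1
      rw [← h1, mul_assoc _ A.z A.z, Case2.zz, mul_one]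
  have hT : l ∈ A.T := mem_T_of (by
    have := key 1
    have e : (1 : F4) * 1 = 1 := rfl
    rwa [e] at this)
  have h1 := key F4.w
  have h2 := T_conj (inV_x F4.w) hT
  have e : F4.w * F4.w = F4.v := rfl
  rw [e] at h1
  have e1 : A.x 0 2 F4.w = A.el ⟨0, 0, F4.w, 0⟩ := (A.el_x02 _).symm
  have e2 : A.x 0 2 F4.w * A.z = A.el ⟨0, 0, F4.w, 2⟩ := by
    rw [A.el_nk ⟨0, 0, F4.w, 2⟩, A.z_eq, ← A.el_x02]; rfl
  have e3 : A.x 0 2 F4.v = A.el ⟨0, 0, F4.v, 0⟩ := (A.el_x02 _).symm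
  have e4 : A.x 0 2 F4.v * A.z = A.el ⟨0, 0, F4.v, 2⟩ := by
    rw [A.el_nk ⟨0, 0, F4.v, 2⟩, A.z_eq, ← A.el_x02]; rfl
  rcases h1 with h1 | h1 <;> rcases h2 with h2 | h2 <;> rw [h1] at h2
  · rw [e3, e1] at h2; exact absurd (A.inj h2) (by decide)
  · rw [e3, e2] at h2; exact absurd (A.inj h2) (by decide)
  · rw [e4, e1] at h2; exact absurd (A.inj h2) (by decide)
  · rw [e4, e2] at h2; exact absurd (A.inj h2) (by decide)

end OneClass

end Cfsg.Agent.StdL34
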