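import Cfsg.Agent.StdL34.Cov

/-!
# Embeddings of `4.L3(4)` as a standard component
-/

set_option autoImplicit false

namespace Cfsg.Agent.StdL34

/-- An embedding of `L` in `G` as a standard component: `C(ι z)` normalises `ι L`, and the centraliser of
`ι L` is tightly embedded (in the form of the consequences that are used). -/
structure Emb {L : Type*} [Group L] (A : Cov L) (G : Type*) [Group G] where
  ι : L →* G
  inj : Function.Injective ι
  norm : ∀ m, Commute m (ι A.z) → ∃ α : MulAut L, ∀ y, m * ι y * m⁻¹ = ι (α y)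
  tight : ∀ k, (∀ y, Commute k (ι y)) → k ≠ 1 → k * k = 1 → ∀ m, Commute m k → Commute m (ι A.z)
  uniq : ∀ g, (∀ y, Commute (g * ι A.z * g⁻¹) (ι y)) → g * ι A.z * g⁻¹ = ι A.z
  disj : ∀ g, g * ι A.z * g⁻¹ ≠ ι A.z → ∀ k, k * k = 1 → (∀ y, Commute k (ι y)) →
    (∀ y, Commute k (g * ι y * g⁻¹)) → k = 1

namespace Emb

variable {L : Type*} [Group L] {A : Cov L} {G : Type*} [Group G] (E : Emb A G)

/-- the central involution -/
def z : G := E.ι A.z

/-- the generator of the centre -/
def s : G := E.ι A.s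

/-- the centraliser of the component -/
def K : Subgroup G := Subgroup.centralizer (Set.range E.ι)

variable {E} in
theorem mem_K {k : G} : k ∈ E.K ↔ ∀ y, Commute k (E.ι y) := by
  unfold K
  rw [Subgroup.mem_centralizer_iff]
  constructor
  · intro h y; exact (h _ ⟨y, rfl⟩).symm
  · rintro h _ ⟨y, rfl⟩; exact (h y).symm

/-- `m` acts on the component as `α` -/
def Act (m : G) (α : MulAut L) : Prop := ∀ y, m * E.ι y * m⁻¹ = E.ι (α y)

variable {E}

theorem Act.mul {m n : G} {α β : MulAut L} (h : E.Act m α) (h' : E.Act n β) :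
    E.Act (m * n) (α * β) := by
  intro y
  rw [MulAut.mul_apply, ← h, ← h']
  group

theorem Act.one : E.Act 1 1 := by intro y; simp

theorem Act.inv {m : G} {α : MulAut L} (h : E.Act m α) : E.Act m⁻¹ α⁻¹ := by
  intro y
  have := h (α⁻¹ y)
  rw [MulAut.apply_inv_self] at this
  rw [← this]
  group

theorem Act.pow {m : G} {α : MulAut L} (h : E.Act m α) (n : ℕ) : E.Act (m ^ n) (α ^ n) := by
  induction n with
  | zero => simpa using Act.one
  | succ n ih => rw [pow_succ, pow_succ]; exact ih.mul h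

theorem act_ι (l : L) : E.Act (E.ι l) (MulAut.conj l) := by
  intro y
  rw [MulAut.conj_apply]; simp

theorem Act.unique {m : G} {α β : MulAut L} (h : E.Act m α) (h' : E.Act m β) : α = β := by
  ext y
  apply E.inj
  rw [← h, ← h']

theorem act_one_iff {m : G} : E.Act m 1 ↔ m ∈ E.K := by
  rw [mem_K]
  constructor
  · intro h y
    have := h y
    rw [MulAut.one_apply] at this
    exact mul_inv_eq_iff_eq_mul.mp this
  · intro h y
    rw [MulAut.one_apply]
    exact mul_inv_eq_iff_eq_mul.mpr (h y)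

theorem Act.commute_iff {m : G} {α : MulAut L} (h : E.Act m α) (y : L) :
    Commute m (E.ι y) ↔ α y = y := by
  rw [← E.inj.eq_iff, ← h]
  constructor
  · intro h; exact mul_inv_eq_iff_eq_mul.mpr h
  · intro h; exact mul_inv_eq_iff_eq_mul.mp h

variable (E)

theorem exists_act {m : G} (h : Commute m E.z) : ∃ α, E.Act m α := E.norm m h

/-- the conjugate embedding -/
def conj (g : G) : Emb A G where
  ι := (MulAut.conj g).toMonoidHom.comp E.ι
  inj := (MulAut.conj g).injective.comp E.inj
  norm m hm := by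
    have h1 : Commute (g⁻¹ * m * g) (E.ι A.z) := by
      have := hm.conj g⁻¹
      simpa [mul_assoc] using this
    obtain ⟨α, hα⟩ := E.norm _ h1
    refine ⟨α, fun y => ?_⟩
    have := hα y
    simp only [MonoidHom.coe_comp, Function.comp_apply, MulEquiv.toMonoidHom_eq_coe,
      MonoidHom.coe_coe, MulAut.conj_apply]
    rw [← this]
    group
  tight k hk h1 h2 m hm := by
    have h3 : ∀ y, Commute (g⁻¹ * k * g) (E.ι y) := by
      intro y
      have := (hk y).conj g⁻¹
      simpa [mul_assoc] using this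
    have h4 : g⁻¹ * k * g ≠ 1 := by
      intro h
      apply h1
      have : k = g * (g⁻¹ * k * g) * g⁻¹ := by group
      rw [this, h]; group
    have h5 : (g⁻¹ * k * g) * (g⁻¹ * k * g) = 1 := by
      calc (g⁻¹ * k * g) * (g⁻¹ * k * g) = g⁻¹ * (k * k) * g := by group
        _ = 1 := by rw [h2]; group
    have h6 : Commute (g⁻¹ * m * g) (g⁻¹ * k * g) := by
      have := hm.conj g⁻¹
      simpa [mul_assoc] using this
    have := (E.tight _ h3 h4 h5 _ h6).conj g
    simpa [mul_assoc] using this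
  uniq h hh := by
    have h3 : ∀ y, Commute ((g⁻¹ * h * g) * E.ι A.z * (g⁻¹ * h * g)⁻¹) (E.ι y) := by
      intro y
      have := (hh y).conj g⁻¹
      simpa [mul_assoc] using this
    have h4 := congrArg (fun t => g * t * g⁻¹) (E.uniq _ h3)
    simp only [MonoidHom.coe_comp, Function.comp_apply, MulEquiv.toMonoidHom_eq_coe,
      MonoidHom.coe_coe, MulAut.conj_apply] at h4 ⊢
    refine Eq.trans ?_ h4
    group
  disj h hh k h1 h2 h3 := by
    have e1 : (g⁻¹ * h * g) * E.ι A.z * (g⁻¹ * h * g)⁻¹ ≠ E.ι A.z := by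
      intro h5
      apply hh
      simp only [MonoidHom.coe_comp, Function.comp_apply, MulEquiv.toMonoidHom_eq_coe,
        MonoidHom.coe_coe, MulAut.conj_apply]
      have h6 : g * ((g⁻¹ * h * g) * E.ι A.z * (g⁻¹ * h * g)⁻¹) * g⁻¹ = g * E.ι A.z * g⁻¹ := by rw [h5]
      refine Eq.trans ?_ h6
      group
    have e2 : (g⁻¹ * k * g) * (g⁻¹ * k * g) = 1 := by
      calc (g⁻¹ * k * g) * (g⁻¹ * k * g) = g⁻¹ * (k * k) * g := by group
        _ = 1 := by rw [h1]; group
    have e3 : ∀ y, Commute (g⁻¹ * k * g) (E.ι y) := by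
      intro y
      have := (h2 y).conj g⁻¹
      simpa [mul_assoc] using this
    have e4 : ∀ y, Commute (g⁻¹ * k * g) ((g⁻¹ * h * g) * E.ι y * (g⁻¹ * h * g)⁻¹) := by
      intro y
      have := (h3 y).conj g⁻¹
      simpa [mul_assoc] using this
    have := E.disj _ e1 _ e2 e3 e4
    have h5 : k = g * (g⁻¹ * k * g) * g⁻¹ := by group
    rw [h5, this]; group

theorem conj_ι (g : G) (y : L) : (E.conj g).ι y = g * E.ι y * g⁻¹ := rfl

theorem conj_z (g : G) : (E.conj g).z = g * E.z * g⁻¹ := rfl

theorem conj_s (g : G) : (E.conj g).s = g * E.s * g⁻¹ := rfl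

theorem ext' {E E' : Emb A G} (h : E.ι = E'.ι) : E = E' := by
  cases E; cases E'; congr

theorem conj_conj (g h : G) : (E.conj g).conj h = E.conj (h * g) := by
  apply ext'
  ext y
  rw [conj_ι, conj_ι, conj_ι]
  group

theorem conj_one : E.conj 1 = E := by
  apply ext'
  ext y
  rw [conj_ι]
  group

theorem conj_inv_conj (g : G) : (E.conj g).conj g⁻¹ = E := by
  rw [conj_conj, inv_mul_cancel, conj_one]

end Emb

end Cfsg.Agent.StdL34
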