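import Cfsg.Agent.StdL34.Inv2

/-!
# Fixed points of commuting involutory automorphisms
-/

set_option autoImplicit false
set_option linter.constructorNameAsVariable false
set_option linter.unusedVariables false

namespace Cfsg.Agent.StdL34

open Cfsg.Agent.SporadicA.FieldFour
open Cfsg.Agent.ONType.Psl (kap)
open Cfsg.Agent.ONType.OuterL (rv rv_ne rv_rv)

theorem Ty.mul_comm' : ∀ τ ρ : Ty, τ.mul ρ = ρ.mul τ := by decide

namespace Cov

variable {L : Type*} [Group L] {A : Cov L}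

theorem conj_inj {a b : L} (h : MulAut.conj a = MulAut.conj b) : ∃ k, a = b * A.sp k := by
  have : MulAut.conj (b⁻¹ * a) = 1 := by rw [map_mul, map_inv, h, inv_mul_cancel]
  obtain ⟨k, hk⟩ := A.conj_eq_one this
  exact ⟨k, by rw [← hk]; group⟩

theorem sq_central (l : L) (h : MulAut.conj l ≠ 1) (h2 : MulAut.conj l * MulAut.conj l = 1) :
    ∃ g k, g * l * g⁻¹ = A.x 0 2 1 * A.sp k := by
  obtain ⟨g, ⟨τ, hτ, ht⟩ | hg⟩ := A.inv_class (MulAut.conj l) h h2
  · exfalso
    have e : MulAut.conj g * MulAut.conj l * (MulAut.conj g)⁻¹ = MulAut.conj (g * l * g⁻¹) := by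
      rw [map_mul, map_mul, map_inv]
    rw [e] at ht
    exact hτ (ht.hasTy.unique (hasTy_conj _))
  · have e : MulAut.conj g * MulAut.conj l * (MulAut.conj g)⁻¹ = MulAut.conj (g * l * g⁻¹) := by
      rw [map_mul, map_mul, map_inv]
    rw [e] at hg
    obtain ⟨k, hk⟩ := A.conj_inj hg
    exact ⟨g, k, hk⟩

theorem sp_eq_iff {k l : Fin 4} : A.sp k = A.sp l ↔ k = l := by
  constructor
  · intro h
    rw [← A.el_sp, ← A.el_sp] at h
    have := A.inj h
    injection this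
  · rintro rfl; rfl

theorem sp_eq_one {k : Fin 4} : A.sp k = 1 ↔ k = 0 := by
  rw [← A.sp_zero, sp_eq_iff]

theorem z_ne_one : A.z ≠ 1 := by
  rw [A.z_eq, Ne, sp_eq_one]; decide

theorem z_sq : A.z * A.z = 1 := by
  rw [A.z_eq, A.sp_add]
  exact A.sp_zero

theorem z_cen (m : L) : A.z * m = m * A.z := by
  rw [A.z_eq]; exact A.sp_cen _ _

/-- `x₀₂(1) z` is conjugate to `x₀₂(1)` -/
theorem x02_z : ∃ g, g * (A.x 0 2 1 * A.z) * g⁻¹ = A.x 0 2 1 := by
  have h := A.row 0 1 2 (by decide) (by decide) (by decide) F4.w 1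
  have e : t2 (F4.w * 1) = 2 := by decide
  rw [e, ← A.z_eq] at h
  refine ⟨A.x 0 1 F4.w, ?_⟩
  rw [← mul_assoc, h]
  have hz := A.z_sq
  have hc := A.z_cen (A.x 0 1 F4.w)
  have hc2 := A.z_cen
  calc A.x 0 2 1 * A.x 0 1 F4.w * A.z * A.z * (A.x 0 1 F4.w)⁻¹
      = A.x 0 2 1 * A.x 0 1 F4.w * (A.z * A.z) * (A.x 0 1 F4.w)⁻¹ := by group
    _ = _ := by rw [hz]; group

/-- noncentral involutions of `L` -/
theorem invol_conj (i : L) (h : MulAut.conj i ≠ 1) (h2 : i * i = 1) :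
    ∃ g, g * i * g⁻¹ = A.x 0 2 1 := by
  obtain ⟨g, k, hg⟩ := A.sq_central i h (by rw [← map_mul, h2, map_one])
  have h3 : A.sp (k + k) = 1 := by
    have h4 : (g * i * g⁻¹) * (g * i * g⁻¹) = 1 := by
      calc (g * i * g⁻¹) * (g * i * g⁻¹) = g * (i * i) * g⁻¹ := by group
        _ = 1 := by rw [h2]; group
    rw [hg] at h4
    have h5 : A.x 0 2 1 * A.sp k * (A.x 0 2 1 * A.sp k) = (A.x 0 2 1 * A.x 0 2 1) * A.sp (k + k) := by
      rw [← A.sp_add]
      have := A.sp_cen k (A.x 0 2 1)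
      calc A.x 0 2 1 * A.sp k * (A.x 0 2 1 * A.sp k) = A.x 0 2 1 * (A.sp k * A.x 0 2 1) * A.sp k := by
            group
        _ = _ := by rw [this]; group
    rw [h5, A.x_sq 0 2 (by decide), one_mul] at h4
    exact h4
  have h4 : k = 0 ∨ k = 2 := by
    have := A.sp_eq_one.mp h3
    revert this; clear * -
    revert k; decide
  rcases h4 with rfl | rfl
  · exact ⟨g, by rw [hg, A.sp_zero, mul_one]⟩
  · obtain ⟨g', hg'⟩ := A.x02_z
    refine ⟨g' * g, ?_⟩
    rw [← hg', A.z_eq, ← hg]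
    group

theorem cj_ne {v : MulAut L} (g : MulAut L) (h : v ≠ 1) : g * v * g⁻¹ ≠ 1 := by
  intro h2
  apply h
  have : v = g⁻¹ * (g * v * g⁻¹) * g := by group
  rw [this, h2]; group

theorem fix_cj (g v : MulAut L) (m : L) : (g * v * g⁻¹) m = m ↔ v (g⁻¹ m) = g⁻¹ m := by
  have e : (g * v * g⁻¹) m = g (v (g⁻¹ m)) := rfl
  rw [e]
  constructor
  · intro h
    have := congrArg (g⁻¹ : MulAut L) h
    rwa [MulAut.inv_apply_self] at this
  · intro h
    rw [h, MulAut.apply_inv_self]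

theorem fix_trans (g : MulAut L) {v y : MulAut L} (h : ∀ m, v m = m → y m = m) :
    ∀ m, (g * v * g⁻¹) m = m → (g * y * g⁻¹) m = m := by
  intro m hm
  rw [fix_cj] at *
  exact h _ hm

variable (A) in
include A in
/-- inner case -/
theorem fzero_inner {v y : MulAut L} (l : L) (hv : v = MulAut.conj l) (hv1 : v ≠ 1)
    (hv2 : v * v = 1) (h1 : ∀ l, v l = l → y l = l) : y = 1 ∨ y = v := by
  obtain ⟨g, k, hg⟩ := A.sq_central l (hv ▸ hv1) (by rw [← hv]; exact hv2)
  set y' := MulAut.conj g * y * (MulAut.conj g)⁻¹ with hy'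
  have hv' : MulAut.conj g * v * (MulAut.conj g)⁻¹ = MulAut.conj (A.x 0 2 1) := by
    rw [hv]
    have e : MulAut.conj g * MulAut.conj l * (MulAut.conj g)⁻¹ = MulAut.conj (g * l * g⁻¹) := by
      rw [map_mul, map_mul, map_inv]
    rw [e, hg, map_mul, A.conj_sp, mul_one]
  have h1' : ∀ m, MulAut.conj (A.x 0 2 1) m = m → y' m = m := by
    rw [← hv']
    exact fix_trans _ h1
  have hcomm : ∀ m, A.x 0 2 1 * m = m * A.x 0 2 1 → y' m = m := by
    intro m hm
    apply h1'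
    rw [MulAut.conj_apply, hm]; group
  obtain ⟨a, b, c, τ, hcd⟩ := A.exists_cd' (hcomm _ rfl)
  have := fix_T0 A.ty τ a b c (fun t ht => by
    apply A.inj
    rw [← hcd.apply]
    apply hcomm
    rw [← A.el_x02, A.el_mul, A.el_mul, T0_comm A.ty t ht])
  obtain ⟨rfl, rfl, rfl, hc⟩ := this
  have hy'' : MulAut.conj (A.el ⟨0, 0, c, 0⟩) * y' = 1 := IsTau.ext hcd isTau_one
  rw [A.el_x02] at hy''
  rcases hc with rfl | rfl
  · left
    rw [A.x_zero 0 2 (by decide), map_one, one_mul] at hy''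
    have : y = (MulAut.conj g)⁻¹ * y' * MulAut.conj g := by rw [hy']; group
    rw [this, hy'']; group
  · right
    have h3 : y' = MulAut.conj (A.x 0 2 1) := by
      rw [← conj_x02_inv]; exact eq_inv_of_mul_eq_one_right hy''
    have : y = (MulAut.conj g)⁻¹ * y' * MulAut.conj g := by rw [hy']; group
    rw [this, h3, ← hv']; group

theorem isTau_fix_r {τ : Ty} {β : MulAut L} (h : A.IsTau τ β) :
    β (A.x 0 2 1 * A.x 2 0 1) = A.x 0 2 1 * A.x 2 0 1 := by
  have e1 : ∀ e, fr e (1 : F4) = 1 := by decide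
  rw [map_mul, h.x02, h.x20, e1]

variable (A) in
include A in
/-- **(F0)** -/
theorem fzero {v y : MulAut L} (hvy : v * y = y * v) (hv : v ≠ 1) (hy : y ≠ 1)
    (hne : v ≠ y) (hv2 : v * v = 1) (hy2 : y * y = 1) (h1 : ∀ l, v l = l → y l = l)
    (h2 : ∀ l, v (y l) = l → y l = l) : False := by
  have hvy1 : v * y ≠ 1 := by
    intro h
    apply hne
    have : v = v * (y * y) := by rw [hy2, mul_one]
    rw [this, ← mul_assoc, h, one_mul]
  have hvy2 : (v * y) * (v * y) = 1 := by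
    calc (v * y) * (v * y) = v * (y * v) * y := by group
      _ = v * (v * y) * y := by rw [hvy]
      _ = (v * v) * (y * y) := by group
      _ = 1 := by rw [hv2, hy2, mul_one]
  obtain ⟨τ, hτ⟩ := A.hasTy v
  obtain ⟨ρ, hρ⟩ := A.hasTy y
  by_cases c1 : τ = (false, false)
  · subst c1
    obtain ⟨l, hl⟩ := hτ.inner
    rcases A.fzero_inner l hl hv hv2 h1 with h | h
    · exact hy h
    · exact hne h.symm
  by_cases c2 : τ.mul ρ = (false, false)
  · have h3 := hτ.mul hρ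
    rw [c2] at h3
    obtain ⟨l, hl⟩ := h3.inner
    rcases A.fzero_inner l hl hvy1 hvy2 h2 with h | h
    · exact hy h
    · exact hv (mul_eq_right.mp h.symm)
  obtain ⟨g, hg⟩ := A.inv_class v hv hv2
  have hv' : ∃ τ, τ ≠ (false, false) ∧ A.IsTau τ (MulAut.conj g * v * (MulAut.conj g)⁻¹) := by
    rcases hg with h | h
    · exact h
    · exfalso
      have h3 : v = MulAut.conj (g⁻¹ * A.x 0 2 1 * g) := by
        rw [map_mul, map_mul, map_inv, ← h]; group
      rw [h3] at hτ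
      exact c1 (hτ.unique (hasTy_conj _))
  obtain ⟨τ', hτ1, hτ'⟩ := hv'
  have e : τ' = τ := hτ'.hasTy.unique (hτ.conj _)
  subst e
  by_cases c3 : ρ = (false, false)
  · subst c3
    obtain ⟨m, hm⟩ := hρ.inner
    obtain ⟨g2, k, hg2⟩ := A.sq_central m (hm ▸ hy) (by rw [← hm]; exact hy2)
    -- `r` conjugated
    set r := A.x 0 2 1 * A.x 2 0 1 with hr
    have h3 : v (g⁻¹ * r * g) = g⁻¹ * r * g := by
      have h4 := isTau_fix_r hτ'
      rw [← hr, fix_cj] at h4
      have h6 : (MulAut.conj g)⁻¹ r = g⁻¹ * r * g := by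
        rw [← map_inv, MulAut.conj_apply, inv_inv]
      rwa [h6] at h4
    have h4 := h1 _ h3
    rw [hm, MulAut.conj_apply] at h4
    have h5 : m = g2⁻¹ * (A.x 0 2 1 * A.sp k) * g2 := by rw [← hg2]; group
    set r2 := g2 * (g⁻¹ * r * g) * g2⁻¹ with hr2
    have h6 : r2 * A.x 0 2 1 = A.x 0 2 1 * r2 := by
      have h7 : m * (g⁻¹ * r * g) = (g⁻¹ * r * g) * m := mul_inv_eq_iff_eq_mul.mp h4
      rw [h5] at h7
      have h8 : (A.x 0 2 1 * A.sp k) * r2 = r2 * (A.x 0 2 1 * A.sp k) := by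
        have := congrArg (fun t => g2 * t * g2⁻¹) h7
        rw [hr2]
        calc _ = g2 * (g2⁻¹ * (A.x 0 2 1 * A.sp k) * g2 * (g⁻¹ * r * g)) * g2⁻¹ := by group
          _ = _ := this
          _ = _ := by group
      have h9 := A.sp_cen k
      rw [← A.sp_cen, mul_assoc, ← mul_assoc r2, ← A.sp_cen, mul_assoc] at h8
      exact (mul_left_cancel h8).symm
    obtain ⟨p, hp⟩ := A.mem_of_commute h6
    have h7 : r2 ^ 16 = 1 := by
      have e : ∀ t : L, t ^ 16 = (((t * t) * (t * t)) * ((t * t) * (t * t))) *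
          (((t * t) * (t * t)) * ((t * t) * (t * t))) := by
        intro t
        rw [show (16 : ℕ) = 2 * 2 * 2 * 2 by rfl, pow_mul, pow_mul, pow_mul]
        simp only [pow_two]
      rw [← hp, e]
      simp only [A.el_mul, pow16, A.el_one]
    have h8 : r ^ 16 = 1 := by
      have : r = (g * g2⁻¹) * r2 * (g * g2⁻¹)⁻¹ := by rw [hr2]; group
      rw [this, conj_pow, h7]; group
    exact A.r_ne 4 h8
  -- all outer
  set y' := MulAut.conj g * y * (MulAut.conj g)⁻¹ with hy'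
  set v' := MulAut.conj g * v * (MulAut.conj g)⁻¹ with hvd
  have h1' : ∀ m, v' m = m → y' m = m := fix_trans _ h1
  have h2' : ∀ m, (v' * y') m = m → y' m = m := by
    have e : v' * y' = MulAut.conj g * (v * y) * (MulAut.conj g)⁻¹ := by rw [hvd, hy']; group
    rw [e]
    exact fix_trans _ h2
  have e1 : ∀ e, fr e (1 : F4) = 1 := by decide
  obtain ⟨a, b, c, ρ', hcd⟩ := A.exists_cd' (h1' (A.x 0 2 1) (by rw [hτ'.x02, e1]))
  have e : ρ' = ρ := hcd.hasTy.unique (hρ.conj _)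
  subst e
  have hy2' : y' * y' = 1 := by
    calc y' * y' = MulAut.conj g * (y * y) * (MulAut.conj g)⁻¹ := by rw [hy']; group
      _ = 1 := by rw [hy2]; group
  have hcomm' : v' * y' = y' * v' := by
    rw [hvd, hy']
    calc _ = MulAut.conj g * (v * y) * (MulAut.conj g)⁻¹ := by group
      _ = MulAut.conj g * (y * v) * (MulAut.conj g)⁻¹ := by rw [hvy]
      _ = _ := by group
  have c4 : cz (cmul A.ty (ctau A.ty ρ' ⟨a, b, c, 0⟩) ⟨a, b, c, 0⟩) := by
    have := hcd.mul hcd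
    rw [hy2'] at this
    exact this.one.2
  have c5 : cz (cmul A.ty (ctau A.ty τ' ⟨a, b, c, 0⟩) (cinv A.ty ⟨a, b, c, 0⟩)) := by
    -- `v' y'` has codes `τ'(q)` and `q`
    have k1 : A.IsTau (Ty.mul τ' ρ') (MulAut.conj (A.el (ctau A.ty τ' ⟨a, b, c, 0⟩)) * (v' * y')) := by
      have := hτ'.mul hcd
      convert this using 1
      rw [hτ'.conj]
      group
    have k2 : A.IsTau (Ty.mul ρ' τ') (MulAut.conj (A.el ⟨a, b, c, 0⟩) * (v' * y')) := by
      have := IsTau.mul hcd hτ'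
      convert this using 1
      rw [hcomm']
      group
    have k3 : Ty.mul ρ' τ' = Ty.mul τ' ρ' := Ty.mul_comm' _ _
    rw [k3] at k2
    have k4 := mul_right_cancel (k1.ext k2)
    apply A.cz_of_conj
    rw [← A.el_mul, ← A.el_inv, map_mul, map_inv, k4, mul_inv_cancel]
  have k1 : A.Cd (v' * y') (ctau A.ty τ' ⟨a, b, c, 0⟩) (Ty.mul τ' ρ') := by
    have := hτ'.mul hcd
    unfold Cd
    convert this using 1
    rw [hτ'.conj]
    group
  refine all_outer A.ty τ' ρ' a b c hτ1 c3 ?_ c4 c5 ?_ ?_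
  · rintro rfl
    exact c2 (Ty.mul_self _)
  · intro t ht
    apply A.inj
    rw [← hcd.apply]
    apply h1'
    rw [hτ'.cd.apply, ht]
  · intro t ht
    apply A.inj
    rw [← hcd.apply]
    apply h2'
    rw [k1.apply, ht]

end Cov

end Cfsg.Agent.StdL34
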