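import Cfsg.Agent.SporRec.LyReduce
import Cfsg.Agent.S1754
import Cfsg.Prelude.Def_Local

/-!
# Standard subgroups with cyclic centre of order four

`exists_found`: the elementary consequences of tight embedding for a standard subgroup `L` of a finite
simple group whose centre is cyclic of order four.
-/

set_option autoImplicit false

namespace Cfsg.Agent.StdL34

open Subgroup

/-- The elementary facts: `L` is a perfect subgroup, `s` generates its centre and has order four, the
centralizer of `s ^ 2` is the normalizer of `L`, and the centralizer `K` of `L` is tightly embedded. -/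
structure Found {G : Type*} [Group G] (L : Subgroup G) (s : G) : Prop where
  perfect : commutator L = ⊤
  s_mem : s ∈ L
  s_comm : ∀ x ∈ L, x * s = s * x
  s_gen : ∀ x ∈ L, (∀ u ∈ L, x * u = u * x) → ∃ k : ℕ, x = s ^ k
  s_ord : orderOf s = 4
  cent_eq : centralizer ({s ^ 2} : Set G) = normalizer (L : Set G)
  norm_K : normalizer (centralizer (L : Set G) : Set G) = normalizer (L : Set G)
  tight : ∀ g : G, g ∉ centralizer ({s ^ 2} : Set G) →
    Odd (Nat.card ↥(centralizer (L : Set G) ⊓
      (centralizer (L : Set G)).map (MulAut.conj g).toMonoidHom))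
  cent_le : ∀ v : G, v ∈ centralizer (L : Set G) → orderOf v = 2 →
    centralizer ({v} : Set G) ≤ centralizer ({s ^ 2} : Set G)
  uniq : ∀ g : G, g * s ^ 2 * g⁻¹ ∈ centralizer (L : Set G) → g * s ^ 2 * g⁻¹ = s ^ 2

theorem exists_found {G : Type*} [Group G] [Finite G] (L : Subgroup G)
    (hL : Cfsg.IsStandardSubgroup L) (hc : IsCyclic ↥(Subgroup.center ↥L))
    (h4 : Nat.card ↥(Subgroup.center ↥L) = 4) : ∃ s : G, Found L s := by
  classical
  obtain ⟨hqs, ⟨_, htight⟩, _, hnorm⟩ := id hL
  have hperf : Group.IsPerfect ↥L := hqs.1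
  obtain ⟨s₀, hs₀⟩ := hc.exists_generator
  have hord0 : orderOf s₀ = 4 := by
    rw [← h4]; exact orderOf_eq_card_of_forall_mem_zpowers hs₀
  set s : G := ((s₀ : L) : G) with hs
  have hord : orderOf s = 4 := by
    rw [← hord0, hs]
    rw [Subgroup.orderOf_coe, Subgroup.orderOf_coe]
  have hsL : s ∈ L := (s₀ : L).2
  have hscomm : ∀ x ∈ L, x * s = s * x := fun x hx =>
    congrArg Subtype.val (Subgroup.mem_center_iff.1 s₀.2 ⟨x, hx⟩)
  have hgen : ∀ x ∈ L, (∀ u ∈ L, x * u = u * x) → ∃ k : ℕ, x = s ^ k := by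
    intro x hx hxu
    have h1 : (⟨x, hx⟩ : L) ∈ Subgroup.center L := by
      rw [Subgroup.mem_center_iff]
      intro u
      exact Subtype.ext (hxu u u.2).symm
    have h2 : (⟨⟨x, hx⟩, h1⟩ : Subgroup.center L) ∈ zpowers s₀ := hs₀ _
    rw [mem_zpowers_iff_mem_range_orderOf] at h2
    obtain ⟨k, -, hk⟩ := Finset.mem_image.1 h2
    refine ⟨k, ?_⟩
    have := congrArg (fun u : Subgroup.center L => ((u : L) : G)) hk
    exact this.symm
  set z : G := s ^ 2 with hz
  have hzord : orderOf z = 2 := by
    rw [hz, orderOf_pow' s (by norm_num), hord]; rfl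
  have hzz : z * z = 1 := by rw [← pow_two, ← hzord]; exact pow_orderOf_eq_one z
  have hz1 : z ≠ 1 := by
    intro h; rw [h, orderOf_one] at hzord; omega
  have hzL : z ∈ L := L.pow_mem hsL 2
  have hzcomm : ∀ x ∈ L, x * z = z * x := fun x hx => by
    have : Commute x s := hscomm x hx
    exact (this.pow_right 2)
  have hzC : z ∈ Subgroup.centralizer (L : Set G) := by
    rw [Subgroup.mem_centralizer_iff]
    exact hzcomm
  have hnormMem : ∀ y : G, y ∈ Subgroup.normalizer (L : Set G) → ∀ x ∈ L, y * x * y⁻¹ ∈ L := by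
    intro y hy x hx
    exact (Subgroup.mem_normalizer_iff.mp hy x).1 hx
  have hNz : ∀ y : G, y ∈ Subgroup.normalizer (L : Set G) → y * z = z * y := by
    intro y hy
    have h1 : y * z * y⁻¹ ∈ L := hnormMem y hy z hzL
    obtain ⟨k, hk⟩ := hgen _ h1 (by
      intro u hu
      have hu' : y⁻¹ * u * y ∈ L := by
        have := hnormMem y⁻¹ (inv_mem hy) u hu
        rwa [inv_inv] at this
      have h3 := hzcomm _ hu'
      calc y * z * y⁻¹ * u = y * (z * (y⁻¹ * u * y)) * y⁻¹ := by group
        _ = y * ((y⁻¹ * u * y) * z) * y⁻¹ := by rw [h3]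
        _ = u * (y * z * y⁻¹) := by group)
    have h5 : (s ^ k) * (s ^ k) = 1 := by
      rw [← hk, show y * z * y⁻¹ * (y * z * y⁻¹) = y * (z * z) * y⁻¹ by group, hzz]; group
    have h6 : 4 ∣ k + k := by
      rw [← hord]; apply orderOf_dvd_of_pow_eq_one; rw [pow_add]; exact h5
    have h7 : y * z * y⁻¹ ≠ 1 := by
      intro h
      apply hz1
      have : z = y⁻¹ * (y * z * y⁻¹) * y := by group
      rw [this, h]; group
    obtain ⟨j, hj⟩ : ∃ j, k = 2 * j := ⟨k / 2, by omega⟩
    have h8 : s ^ k = z ^ j := by rw [hj, pow_mul]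
    have h9 : z ^ j = z := by
      rcases Nat.even_or_odd' j with ⟨i, hi | hi⟩
      · exfalso; apply h7
        rw [hk, h8, hi, pow_mul, pow_two, hzz, one_pow]
      · rw [hi, pow_add, pow_mul, pow_two, hzz, one_pow, one_mul, pow_one]
    rw [h8, h9, mul_inv_eq_iff_eq_mul] at hk
    exact hk
  have hceq : centralizer ({z} : Set G) = normalizer (L : Set G) := by
    apply le_antisymm
    · exact (Cfsg.Agent.S1754.result L hL z hzord hzC).1
    · intro y hy
      rw [mem_centralizer_singleton_iff]
      exact hNz y hy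
  refine ⟨s, ⟨hperf.commutator_eq_top, hsL, hscomm, hgen, hord, hceq, hnorm.symm, ?_, ?_, ?_⟩⟩
  · intro g hg
    apply htight g
    rw [← hnorm, ← hceq]
    exact hg
  · intro v hv hvo
    rw [← hz, hceq]
    exact (Cfsg.Agent.S1754.result L hL v hvo hv).1
  · intro g hg
    rw [← hz] at hg ⊢
    have hgN : g ∈ Subgroup.normalizer (L : Set G) := by
      rw [hnorm]
      by_contra hcon
      have hodd := htight g hcon
      have hmem : g * z * g⁻¹ ∈ Subgroup.centralizer (L : Set G) ⊓
          (Subgroup.centralizer (L : Set G)).map (MulAut.conj g).toMonoidHom := by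
        refine ⟨hg, ⟨z, hzC, ?_⟩⟩
        simp
      have hdvd : orderOf (⟨g * z * g⁻¹, hmem⟩ : ↥(Subgroup.centralizer (L : Set G) ⊓
          (Subgroup.centralizer (L : Set G)).map (MulAut.conj g).toMonoidHom)) ∣ _ :=
        orderOf_dvd_natCard _
      have hord : orderOf (g * z * g⁻¹) = 2 := by
        rw [← hzord]
        exact orderOf_injective (MulAut.conj g).toMonoidHom (MulAut.conj g).injective z
      rw [Subgroup.orderOf_mk, hord] at hdvd
      exact (Nat.not_even_iff_odd.mpr hodd) (even_iff_two_dvd.mpr hdvd)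
    rw [hNz g hgN, mul_inv_cancel_right]

end Cfsg.Agent.StdL34
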