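import Cfsg.Agent.StdL34.Nine

/-!
# Outer types of the elements of centralisers, for varying conjugates
-/

set_option autoImplicit false
set_option linter.constructorNameAsVariable false
set_option linter.unusedVariables false

namespace Cfsg.Agent.StdL34

open Cfsg.Agent.SporadicA.FieldFour
open Cfsg.Agent.ONType.Psl (kap)

namespace Emb

variable {L : Type*} [Group L] {A : Cov L} {G : Type*} [Group G] {E : Emb A G}

/-- `x` acts with outer type `τ` -/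
def HT (E : Emb A G) (x : G) (τ : Ty) : Prop := ∃ α, E.Act x α ∧ A.HasTy α τ

theorem exists_HT {x : G} (h : Commute x E.z) : ∃ τ, E.HT x τ := by
  obtain ⟨α, hα⟩ := E.exists_act h
  obtain ⟨τ, hτ⟩ := A.hasTy α
  exact ⟨τ, α, hα, hτ⟩

theorem HT.unique {x : G} {τ ρ : Ty} (h : E.HT x τ) (h' : E.HT x ρ) : τ = ρ := by
  obtain ⟨α, hα, hτ⟩ := h
  obtain ⟨β, hβ, hρ⟩ := h'
  have := hα.unique hβ
  subst this
  exact hτ.unique hρ

theorem HT.mul {x y : G} {τ ρ : Ty} (h : E.HT x τ) (h' : E.HT y ρ) : E.HT (x * y) (τ.mul ρ) := by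
  obtain ⟨α, hα, hτ⟩ := h
  obtain ⟨β, hβ, hρ⟩ := h'
  exact ⟨α * β, hα.mul hβ, hτ.mul hρ⟩

theorem HT.inv {x : G} {τ : Ty} (h : E.HT x τ) : E.HT x⁻¹ τ := by
  obtain ⟨α, hα, hτ⟩ := h
  exact ⟨α⁻¹, hα.inv, hτ.inv⟩

theorem ht_ι (l : L) : E.HT (E.ι l) (false, false) := ⟨_, act_ι l, Cov.hasTy_conj l⟩

theorem ht_K {k : G} (h : k ∈ E.K) : E.HT k (false, false) :=
  ⟨1, act_one_iff.mpr h, Cov.isTau_one.hasTy⟩

/-- the central involution is fixed by every automorphism -/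
theorem map_z (α : MulAut L) : α A.z = A.z := by
  obtain ⟨l, τ, hl⟩ := A.exists_tau α
  have h1 := hl.sp 2
  have e : ∀ b, sg b 2 = 2 := by decide
  rw [e, ← A.z_eq, MulAut.mul_apply, MulAut.conj_apply] at h1
  have h2 : l * α A.z = A.z * l := mul_inv_eq_iff_eq_mul.mp h1
  rw [A.z_cen] at h2
  exact mul_left_cancel h2

theorem Act.comm_z {x : G} {α : MulAut L} (h : E.Act x α) : Commute x E.z := by
  have := h.commute_iff A.z
  exact this.mpr (map_z α)

theorem HT.comm {x : G} {τ : Ty} (h : E.HT x τ) : Commute x E.z := by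
  obtain ⟨α, hα, hτ⟩ := h
  exact hα.comm_z

theorem act_conj_iff {g x : G} {α : MulAut L} : (E.conj g).Act (g * x * g⁻¹) α ↔ E.Act x α := by
  unfold Act
  refine forall_congr' fun y => ?_
  rw [conj_ι, conj_ι]
  constructor
  · intro h
    have := congrArg (fun t => g⁻¹ * t * g) h
    simp only [mul_assoc, inv_mul_cancel_left, inv_mul_cancel, mul_one, mul_inv_rev, inv_inv]
      at this
    simpa only [mul_assoc] using this
  · intro h
    rw [← h]; group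

theorem HT.conj {x : G} {τ : Ty} (h : E.HT x τ) (g : G) : (E.conj g).HT (g * x * g⁻¹) τ := by
  obtain ⟨α, hα, hτ⟩ := h
  exact ⟨α, act_conj_iff.mpr hα, hτ⟩

/-- the type depends only on `z` -/
theorem HT.same {g x : G} {τ : Ty} (h : E.HT x τ) (hg : Commute g E.z) : (E.conj g).HT x τ := by
  obtain ⟨α, hα, hτ⟩ := h
  obtain ⟨γ, hγ⟩ := E.exists_act hg
  refine ⟨γ⁻¹ * α * γ, ?_, ?_⟩
  · intro y
    rw [conj_ι, conj_ι, hγ, hα, hγ]
    congr 1
    simp [MulAut.mul_apply]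
  · have := hτ.conj γ⁻¹
    rwa [inv_inv] at this

theorem HT.conj_same {g x : G} {τ : Ty} (h : E.HT x τ) (hg : Commute g E.z) :
    E.HT (g * x * g⁻¹) τ := by
  have h1 := h.conj g
  have h2 : Commute g⁻¹ (E.conj g).z := by
    rw [conj_z, hg.eq, mul_inv_cancel_right]
    exact hg.inv_left
  have := h1.same h2
  rwa [conj_inv_conj] at this

theorem HT.same' {g h x : G} {τ : Ty} (ht : (E.conj g).HT x τ) (hgh : (E.conj g).z = (E.conj h).z) :
    (E.conj h).HT x τ := by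
  have h1 : Commute (h * g⁻¹) (E.conj g).z := by
    rw [conj_z, conj_z] at hgh
    rw [conj_z]
    show h * g⁻¹ * (g * E.z * g⁻¹) = (g * E.z * g⁻¹) * (h * g⁻¹)
    rw [hgh]
    have : h * g⁻¹ * (h * E.z * h⁻¹) = h * g⁻¹ * (g * E.z * g⁻¹) := by rw [hgh]
    rw [this]; group
  have := ht.same h1
  rwa [conj_conj, inv_mul_cancel_right] at this

theorem step3 : Case2.Step3 A G := by
  intro E g α hc hne ha hin
  exact inner_conj hc hne ha hin

theorem exists_pair {g : G} (hc : Commute (g * E.z * g⁻¹) E.z) (hne : g * E.z * g⁻¹ ≠ E.z) :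
    ∃ w, E.Pair w := Case2.exists_pair E g hc hne step3 A.inv_class

theorem u_ne_z' : E.u ≠ E.z := Case2.u_ne_z E

/-- inner case of (9) -/
theorem chi_inner (hAA : ∀ (E : Emb A G) w, E.Pair w → E.AA = (E.conj w).AA) {g : G}
    (hc : Commute (g * E.z * g⁻¹) E.z) (hne : g * E.z * g⁻¹ ≠ E.z)
    (hin : E.HT (g * E.z * g⁻¹) (false, false)) {x : G} (hz : Commute x E.z)
    (hv : Commute x (g * E.z * g⁻¹)) {τ τ' : Ty} (ht : E.HT x τ) (ht' : (E.conj g).HT x τ') :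
    xor τ.1 τ.2 = xor τ'.1 τ'.2 := by
  obtain ⟨α, hα, hτ⟩ := hin
  obtain ⟨l, hl⟩ := inner_conj hc hne hα hτ
  obtain ⟨w, hP⟩ := exists_pair hc hne
  have hlz : Commute (E.ι l) E.z := (E.z_comm l).symm
  have h1 : E.HT (E.ι l * x * (E.ι l)⁻¹) τ := ht.conj_same hlz
  have h2 : ((E.conj g).conj (E.ι l)).HT (E.ι l * x * (E.ι l)⁻¹) τ' := ht'.conj _
  rw [conj_conj] at h2
  have h3 : (E.conj (E.ι l * g)).z = (E.conj w).z := by
    rw [hP.z', ← hl, conj_z]; group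
  have h4 := h2.same' h3
  obtain ⟨β, hβ, hβ'⟩ := h1
  obtain ⟨γ, hγ, hγ'⟩ := h4
  refine chi_pair hP (hAA E w hP) (x := E.ι l * x * (E.ι l)⁻¹) ?_ ?_ hβ hγ hβ' hγ'
  · exact hβ.comm_z
  · rw [← hl]
    exact hv.conj _

/-- symmetry of "acts as an inner automorphism" -/
theorem inner_symm {g : G} (hc : Commute (g * E.z * g⁻¹) E.z) (hne : g * E.z * g⁻¹ ≠ E.z)
    (hin : (E.conj g).HT E.z (false, false)) : E.HT (g * E.z * g⁻¹) (false, false) := by
  set F := E.conj g with hF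
  have hz : g⁻¹ * F.z * g⁻¹⁻¹ = E.z := by rw [hF, conj_z]; group
  have hc' : Commute (g⁻¹ * F.z * g⁻¹⁻¹) F.z := by rw [hz]; exact hc.symm
  have hne' : g⁻¹ * F.z * g⁻¹⁻¹ ≠ F.z := by rw [hz]; exact hne.symm
  obtain ⟨α, hα, hτ⟩ := hin
  obtain ⟨l, hl⟩ := inner_conj hc' hne' (by rw [hz]; exact hα) hτ
  rw [hz] at hl
  obtain ⟨w, hP⟩ := exists_pair hc' hne'
  set w2 := (F.ι l)⁻¹ * w * F.ι l with hw2
  have hlz : Commute (F.ι l) F.z := (F.z_comm l).symm
  have e1 : w2 * F.z * w2⁻¹ = E.z := by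
    have h1 : F.ι l * F.z * (F.ι l)⁻¹ = F.z := by rw [hlz.eq]; group
    calc w2 * F.z * w2⁻¹ = (F.ι l)⁻¹ * (w * (F.ι l * F.z * (F.ι l)⁻¹) * w⁻¹) * F.ι l := by
          rw [hw2]; group
      _ = (F.ι l)⁻¹ * F.u * F.ι l := by rw [h1, hP.1]
      _ = E.z := by rw [← hl]; group
  have e2 : w2 * E.z * w2⁻¹ = F.z := by
    calc w2 * E.z * w2⁻¹ = (F.ι l)⁻¹ * (w * (F.ι l * E.z * (F.ι l)⁻¹) * w⁻¹) * F.ι l := by
          rw [hw2]; group
      _ = (F.ι l)⁻¹ * F.z * F.ι l := by rw [hl, hP.2]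
      _ = (F.ι l)⁻¹ * (F.z * F.ι l) := by group
      _ = F.z := by rw [← hlz.eq]; group
  have e3 : E.z = F.ι (l⁻¹ * A.x 0 2 1 * l) := by
    have : E.z = (F.ι l)⁻¹ * F.u * F.ι l := by rw [← hl]; group
    rw [this, map_mul, map_mul, map_inv]; rfl
  have h5 : (F.conj w2).HT (w2 * E.z * w2⁻¹) (false, false) := by
    apply HT.conj
    rw [e3]
    exact ht_ι _
  rw [e2, hF, conj_conj] at h5
  have h6 : (E.conj (w2 * g)).z = (E.conj 1).z := by
    rw [conj_one, ← e1, hF, conj_z, conj_z]; group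
  have h7 := h5.same' h6
  rw [conj_one] at h7
  exact h7

end Emb

end Cfsg.Agent.StdL34
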