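import Cfsg.Agent.StdL34.HT
import Cfsg.Agent.StdL34.Assembly

/-!
# Step (12): the component has index two in the centralizer of `z`
-/

set_option autoImplicit false
set_option linter.constructorNameAsVariable false
set_option linter.unusedVariables false

namespace Cfsg.Agent.StdL34.IndexTwo

open Cfsg.Agent.SporadicA.FieldFour
open Cfsg.Agent.StdL34
open Cfsg.Agent.StdL34.Emb (mem_K act_ι HT)

variable {L : Type*} [Group L] {A : Cov L} {G : Type*} [Group G] {E : Emb A G}

/-- the centralizer of the component is contained in the component -/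
theorem K_le (hK : ∀ k ∈ E.K, ∃ j : ℕ, k = E.s ^ j) : E.K ≤ E.ι.range := by
  intro k hk
  obtain ⟨j, rfl⟩ := hK k hk
  have h : E.s ∈ E.ι.range := ⟨A.s, rfl⟩
  exact pow_mem h j

theorem mem_range_of_inner (hK : ∀ k ∈ E.K, ∃ j : ℕ, k = E.s ^ j) {x : G}
    (hx : E.HT x (false, false)) : x ∈ E.ι.range := by
  obtain ⟨α, hα, hτ⟩ := hx
  obtain ⟨l, rfl⟩ := hτ.inner
  have h1 : x * (E.ι l)⁻¹ ∈ E.K := by
    rw [← Emb.act_one_iff]
    have := hα.mul (act_ι (E := E) l).inv
    rwa [mul_inv_cancel] at this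
  have h2 := mul_mem (K_le hK h1) (⟨l, rfl⟩ : E.ι l ∈ E.ι.range)
  rwa [inv_mul_cancel_right] at h2

theorem inner_of_mem_range {x : G} (hx : x ∈ E.ι.range) : E.HT x (false, false) := by
  obtain ⟨l, rfl⟩ := hx
  exact Emb.ht_ι l

/-- an element of `C(z)` inverting `s` -/
theorem exists_inv {w : G} (hP : E.Pair w) : ∃ x, Commute x E.z ∧ ¬ Commute x E.s := by
  obtain ⟨hty, c, hq⟩ := Emb.sAct hP
  refine ⟨(E.conj w).ι (A.x 0 1 1), ?_, ?_⟩
  · have h1 : (E.conj w).ι (A.x 0 2 1) = E.z := hP.u'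
    rw [← h1]
    show (E.conj w).ι _ * (E.conj w).ι _ = (E.conj w).ι _ * (E.conj w).ι _
    rw [← map_mul, ← map_mul, ← A.el_x01, ← A.el_x02, A.el_mul, A.el_mul, hty]
    congr 2
  · intro h
    have h2 := (hq.commute_iff (A.x 0 1 1)).1 h.symm
    have h3 : MulAut.conj (A.el ⟨1, 1, c, 0⟩) (A.x 0 1 1) = A.x 0 1 1 := by
      have h4 := congrArg (MulAut.conj (A.el ⟨1, 1, c, 0⟩)) h2
      rw [MulAut.apply_inv_self] at h4
      exact h4.symm
    rw [MulAut.conj_apply, mul_inv_eq_iff_eq_mul, ← A.el_x01, A.el_mul, A.el_mul, hty] at h3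
    have h5 := A.inj h3
    revert h5
    clear * -
    revert c
    decide

/-- **(12).** -/
theorem index_two (hK : ∀ k ∈ E.K, ∃ j : ℕ, k = E.s ^ j)
    (hker : ∀ x τ, E.HT x τ → τ = (false, false) ∨ τ = (true, true))
    (hex : ∃ x, Commute x E.z ∧ ¬ Commute x E.s) :
    (E.ι.range.subgroupOf (Subgroup.centralizer ({E.z} : Set G))).index = 2 := by
  obtain ⟨x₀, hz, hs⟩ := hex
  have hmem : ∀ y : G, y ∈ Subgroup.centralizer ({E.z} : Set G) ↔ Commute y E.z := by
    intro y; rw [Subgroup.mem_centralizer_singleton_iff]; exact Iff.rfl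
  have hx0 : x₀ ∉ E.ι.range := by
    rintro ⟨l, rfl⟩
    exact hs (E.s_comm l).symm
  rw [Subgroup.index_eq_two_iff]
  refine ⟨⟨x₀, (hmem _).2 hz⟩, ?_⟩
  rintro ⟨b, hb⟩
  have hbz := (hmem b).1 hb
  have htype : ∀ y : G, Commute y E.z → y ∉ E.ι.range → E.HT y (true, true) := by
    intro y hy hy'
    obtain ⟨τ, hτ⟩ := Emb.exists_HT hy
    rcases hker y τ hτ with h | h
    · subst h
      exact absurd (mem_range_of_inner hK hτ) hy'
    · subst h; exact hτ
  simp only [Subgroup.mem_subgroupOf]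
  show Xor (b * x₀ ∈ E.ι.range) (b ∈ E.ι.range)
  by_cases h : b ∈ E.ι.range
  · right
    refine ⟨h, fun h2 => hx0 ?_⟩
    have := mul_mem (inv_mem h) h2
    rwa [inv_mul_cancel_left] at this
  · left
    refine ⟨?_, h⟩
    apply mem_range_of_inner hK
    exact (htype b hbz h).mul (htype x₀ hz hx0)

/-- the final conclusion in the form used by `assemble` -/
theorem final {L : Subgroup G} {A : Cov L} (E : Emb A G) (hι : E.ι = L.subtype)
    (hK : ∀ k ∈ E.K, ∃ j : ℕ, k = E.s ^ j)
    (hker : ∀ x τ, E.HT x τ → τ = (false, false) ∨ τ = (true, true))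
    (hex : ∃ x, Commute x E.z ∧ ¬ Commute x E.s) : Final G L E.z := by
  have hr : E.ι.range = L := by rw [hι]; exact L.range_subtype
  refine ⟨?_, ?_⟩
  · have h1 := K_le hK
    rw [hr] at h1
    have h2 : E.K = Subgroup.centralizer (L : Set G) := by
      show Subgroup.centralizer (Set.range E.ι) = _
      rw [hι]
      congr 1
      exact Subtype.range_coe
    rwa [h2] at h1
  · have := index_two hK hker hex
    rwa [hr] at this

end Cfsg.Agent.StdL34.IndexTwo
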