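import Cfsg.Agent.StdL34.Inv

/-!
# Classes of involutory automorphisms of `4.L3(4)`
-/

set_option autoImplicit false
set_option linter.constructorNameAsVariable false
set_option linter.unusedVariables false

namespace Cfsg.Agent.StdL34

open Cfsg.Agent.SporadicA.FieldFour
open Cfsg.Agent.ONType.Psl (kap)
open Cfsg.Agent.ONType.OuterL (rv rv_ne rv_rv)

theorem T0_comm : ∀ ty, ∀ y ∈ T0, cmul ty y ⟨0, 0, 1, 0⟩ = cmul ty ⟨0, 0, 1, 0⟩ y := by decide

theorem t0_comm : ∀ ty (p : Code), cmul ty p ⟨0, 0, 1, 0⟩ = cmul ty ⟨0, 0, 1, 0⟩ p ↔ t0 p := by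
  decide +kernel

namespace Cov

variable {L : Type*} [Group L] {A : Cov L}

variable (A) in
/-- automorphisms with a code -/
def MT : Subgroup (MulAut L) where
  carrier := {α | ∃ p τ, A.Cd α p τ}
  mul_mem' := by
    rintro α β ⟨p, τ, h⟩ ⟨q, ρ, h'⟩
    exact ⟨_, _, h.mul h'⟩
  one_mem' := ⟨cone, (false, false), isTau_one.cd⟩
  inv_mem' := by
    rintro α ⟨p, τ, h⟩
    exact ⟨_, _, h.inv⟩

theorem mem_MT {α : MulAut L} : α ∈ A.MT ↔ ∃ p τ, A.Cd α p τ := Iff.rfl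

theorem IsTau.mem_MT {τ : Ty} {β : MulAut L} (h : A.IsTau τ β) : β ∈ A.MT := ⟨_, _, h.cd⟩

theorem conj_mem_MT (p : Code) : MulAut.conj (A.el p) ∈ A.MT :=
  ⟨cinv A.ty p, (false, false), by
    unfold Cd
    rw [← A.el_inv, map_inv, inv_mul_cancel]
    exact isTau_one⟩

theorem MT_odd : ¬ 2 ∣ Nat.card (MulAut L ⧸ A.MT) := by
  let act : MulAction L (MulAut L ⧸ A.MT) :=
    MulAction.compHom _ (MulAut.conj : L →* MulAut L)
  have hact : ∀ (l : L) (β : MulAut L), l • (β : MulAut L ⧸ A.MT) =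
      ((MulAut.conj l * β : MulAut L) : MulAut L ⧸ A.MT) := fun _ _ => rfl
  have htr : MulAction.IsPretransitive L (MulAut L ⧸ A.MT) := by
    rw [MulAction.isPretransitive_iff_base ((1 : MulAut L) : MulAut L ⧸ A.MT)]
    intro x
    obtain ⟨β, rfl⟩ := QuotientGroup.mk_surjective x
    obtain ⟨l, τ, hl⟩ := A.exists_tau β
    refine ⟨l⁻¹, ?_⟩
    rw [hact, QuotientGroup.eq, mul_one, map_inv, inv_inv]
    exact hl.mem_MT
  rw [← MulAction.index_stabilizer_of_transitive L ((1 : MulAut L) : MulAut L ⧸ A.MT)]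
  intro h
  apply A.T_index
  refine h.trans (Subgroup.index_dvd_of_le ?_)
  rintro _ ⟨p, rfl⟩
  rw [MulAction.mem_stabilizer_iff, hact, mul_one, QuotientGroup.eq, mul_one]
  exact inv_mem (conj_mem_MT p)

/-- every 2-group of automorphisms is conjugate into `MT` -/
theorem exists_conj_MT (Q : Subgroup (MulAut L)) (hQ : IsPGroup 2 Q) :
    ∃ l, ∀ α ∈ Q, MulAut.conj l * α * (MulAut.conj l)⁻¹ ∈ A.MT := by
  obtain ⟨x, hx⟩ := hQ.nonempty_fixed_point_of_prime_not_dvd_card (MulAut L ⧸ A.MT) MT_odd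
  obtain ⟨β, rfl⟩ := QuotientGroup.mk_surjective x
  obtain ⟨l, τ, hl⟩ := A.exists_tau β
  refine ⟨l, fun α hα => ?_⟩
  have h1 : (α * β : MulAut L) = (α • (β : MulAut L) : MulAut L) := rfl
  have h2 := hx ⟨α, hα⟩
  have h3 : ((α * β : MulAut L) : MulAut L ⧸ A.MT) = (β : MulAut L ⧸ A.MT) := h2
  rw [eq_comm, QuotientGroup.eq] at h3
  have h4 := mul_mem (mul_mem hl.mem_MT h3) (inv_mem hl.mem_MT)
  convert h4 using 1
  group

theorem isPGroup_zpowers {α : MulAut L} {n : ℕ} (h : α ^ (2 ^ n) = 1) :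
    IsPGroup 2 (Subgroup.zpowers α) := by
  intro x
  obtain ⟨x, hx⟩ := x
  obtain ⟨k, rfl⟩ := Subgroup.mem_zpowers_iff.mp hx
  refine ⟨n, ?_⟩
  apply Subtype.ext
  show (α ^ k) ^ (2 ^ n) = 1
  rw [← zpow_natCast, ← zpow_mul, mul_comm, zpow_mul, zpow_natCast, h, one_zpow]

theorem exists_conj_cd {α : MulAut L} {n : ℕ} (h : α ^ (2 ^ n) = 1) :
    ∃ l a b c τ, A.Cd (MulAut.conj l * α * (MulAut.conj l)⁻¹) ⟨a, b, c, 0⟩ τ := by
  obtain ⟨l, hl⟩ := A.exists_conj_MT _ (isPGroup_zpowers h)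
  obtain ⟨p, τ, hp⟩ := hl α (Subgroup.mem_zpowers α)
  exact ⟨l, p.a, p.b, p.c, τ, hp.nk⟩

theorem x02_conj (c : F4) (h : c ≠ 0) : ∃ g, g * A.x 0 2 c * g⁻¹ = A.x 0 2 1 := by
  cases c
  · exact absurd rfl h
  · exact ⟨1, by rw [one_mul, inv_one, mul_one]; rfl⟩
  · refine ⟨A.h⁻¹, ?_⟩
    rw [inv_inv, A.h_x 0 2 (by decide)]
    rfl
  · refine ⟨A.h, ?_⟩
    have := A.h_x 0 2 (by decide) 1
    have e : kap 0 2 * 1 = F4.v := rfl
    rw [e] at this
    rw [← this]; group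

theorem x01_conj (a : F4) (h : a ≠ 0) : ∃ g, g * A.x 0 1 a * g⁻¹ = A.x 0 2 1 := by
  obtain ⟨g, hg⟩ := A.x02_conj a h
  have := A.x_wey 1 2 0 1 (by decide) (by decide) a
  have e1 : Equiv.swap (1 : Fin 3) 2 0 = 0 := by decide
  have e2 : Equiv.swap (1 : Fin 3) 2 1 = 2 := by decide
  rw [e1, e2] at this
  refine ⟨g * (A.x 1 2 1 * A.x 2 1 1 * A.x 1 2 1)⁻¹, ?_⟩
  rw [← hg, ← this]
  group

theorem x12_conj (b : F4) (h : b ≠ 0) : ∃ g, g * A.x 1 2 b * g⁻¹ = A.x 0 2 1 := by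
  obtain ⟨g, hg⟩ := A.x02_conj b h
  have := A.x_wey 0 1 1 2 (by decide) (by decide) b
  have e1 : Equiv.swap (0 : Fin 3) 1 1 = 0 := by decide
  have e2 : Equiv.swap (0 : Fin 3) 1 2 = 2 := by decide
  rw [e1, e2] at this
  refine ⟨g * (A.x 0 1 1 * A.x 1 0 1 * A.x 0 1 1)⁻¹, ?_⟩
  rw [← hg, ← this]
  group

theorem conj_x02_inv : (MulAut.conj (A.x 0 2 1))⁻¹ = MulAut.conj (A.x 0 2 1) := by
  rw [← map_inv, A.x_inv 0 2 (by decide)]

/-- **Classes of involutory automorphisms.** -/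
theorem inv_class (v : MulAut L) (h1 : v ≠ 1) (h2 : v * v = 1) :
    ∃ l, (∃ τ, τ ≠ (false, false) ∧ A.IsTau τ (MulAut.conj l * v * (MulAut.conj l)⁻¹)) ∨
      MulAut.conj l * v * (MulAut.conj l)⁻¹ = MulAut.conj (A.x 0 2 1) := by
  obtain ⟨l, a, b, c, τ, hcd⟩ := A.exists_conj_cd (α := v) (n := 1) (by rw [pow_one, pow_two, h2])
  set v' := MulAut.conj l * v * (MulAut.conj l)⁻¹ with hv'
  have h1' : v' ≠ 1 := by
    intro h
    apply h1
    have : v = (MulAut.conj l)⁻¹ * v' * MulAut.conj l := by rw [hv']; group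
    rw [this, h]; group
  have h2' : v' * v' = 1 := by
    calc v' * v' = MulAut.conj l * (v * v) * (MulAut.conj l)⁻¹ := by rw [hv']; group
      _ = 1 := by rw [h2]; group
  have hsq := hcd.mul hcd
  rw [h2'] at hsq
  have hcz := hsq.one.2
  by_cases hτ : τ = (false, false)
  · subst hτ
    rw [ctau_one] at hcz
    have hnz : ¬ cz (⟨a, b, c, 0⟩ : Code) := by
      intro h
      exact h1' ((hcd.of_cz h).ext isTau_one)
    obtain ⟨a', b', hr⟩ := inv_inner A.ty a b c hcz hnz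
    have hc2 := hcd.conj ⟨a', b', 0, 0⟩
    rw [ctau_one] at hc2
    set r := cmul A.ty (cmul A.ty ⟨a', b', 0, 0⟩ ⟨a, b, c, 0⟩) (cinv A.ty ⟨a', b', 0, 0⟩) with hrdef
    have hr' : A.el r = A.el (cmul A.ty ⟨a', b', 0, 0⟩ (cmul A.ty ⟨a, b, c, 0⟩
        (cinv A.ty ⟨a', b', 0, 0⟩))) := by
      rw [hrdef, ← A.el_mul, ← A.el_mul, ← A.el_mul, ← A.el_mul, mul_assoc]
    have hc3 : A.IsTau (false, false) (MulAut.conj (A.el r) * (MulAut.conj (A.el ⟨a', b', 0, 0⟩) *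
        v' * (MulAut.conj (A.el ⟨a', b', 0, 0⟩))⁻¹)) := by
      rw [hr']; exact hc2
    set v'' := MulAut.conj (A.el ⟨a', b', 0, 0⟩) * v' * (MulAut.conj (A.el ⟨a', b', 0, 0⟩))⁻¹
      with hv''
    have h3 : MulAut.conj (A.el r) * v'' = 1 := hc3.ext isTau_one
    have h1'' : v'' ≠ 1 := by
      intro h
      apply h1'
      have : v' = (MulAut.conj (A.el ⟨a', b', 0, 0⟩))⁻¹ * v'' *
          MulAut.conj (A.el ⟨a', b', 0, 0⟩) := by rw [hv'']; group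
      rw [this, h]; group
    have h4 : v'' = (MulAut.conj (A.el (nk r)))⁻¹ := by
      rw [← conj_nk]; exact eq_inv_of_mul_eq_one_right h3
    have hrz : ¬ cz r := by
      intro h
      rw [conj_cz h, one_mul] at h3
      exact h1'' h3
    have key : ∃ g, g * A.el (nk r) * g⁻¹ = A.x 0 2 1 := by
      rcases hr with ⟨ha, hb⟩ | ⟨hb, hc⟩ | ⟨ha, hc⟩
      · have hne : r.c ≠ 0 := fun h => hrz ⟨ha, hb, h⟩
        have : A.el (nk r) = A.x 0 2 r.c := by rw [← A.el_x02, StdL34.nk, ha, hb]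
        rw [this]
        exact A.x02_conj _ hne
      · have hne : r.a ≠ 0 := fun h => hrz ⟨h, hb, hc⟩
        have : A.el (nk r) = A.x 0 1 r.a := by rw [← A.el_x01, StdL34.nk, hb, hc]
        rw [this]
        exact A.x01_conj _ hne
      · have hne : r.b ≠ 0 := fun h => hrz ⟨ha, h, hc⟩
        have : A.el (nk r) = A.x 1 2 r.b := by rw [← A.el_x12, StdL34.nk, ha, hc]
        rw [this]
        exact A.x12_conj _ hne
    obtain ⟨g, hg⟩ := key
    refine ⟨g * A.el ⟨a', b', 0, 0⟩ * l, Or.inr ?_⟩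
    calc MulAut.conj (g * A.el ⟨a', b', 0, 0⟩ * l) * v *
          (MulAut.conj (g * A.el ⟨a', b', 0, 0⟩ * l))⁻¹
        = MulAut.conj g * v'' * (MulAut.conj g)⁻¹ := by
          rw [hv'', hv', map_mul, map_mul]; group
      _ = (MulAut.conj (A.x 0 2 1))⁻¹ := by
          rw [h4, ← hg, map_mul, map_mul, map_inv]; group
      _ = _ := conj_x02_inv
  · obtain ⟨a', b', c', hq⟩ := inv_outer A.ty τ a b c hτ hcz
    have hc2 := hcd.conj ⟨a', b', c', 0⟩
    refine ⟨A.el ⟨a', b', c', 0⟩ * l, Or.inl ⟨τ, hτ, ?_⟩⟩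
    have := hc2.of_cz hq
    convert this using 1
    rw [hv', map_mul]; group

end Cov

end Cfsg.Agent.StdL34
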