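import Cfsg.Agent.StdL34.Found
import Cfsg.Agent.StdL34.ExistsCov
import Cfsg.Agent.StdL34.Emb

/-!
# A standard subgroup `4·L₃(4)` gives the data `Cov` and `Emb`
-/

set_option autoImplicit false

namespace Cfsg.Agent.StdL34

open Subgroup
open Cfsg.Agent.SporadicA.FieldFour

/-- The embedding data of a standard subgroup with cyclic centre of order four. -/
theorem exists_emb {G : Type*} [Group G] [Finite G] (L : Subgroup G) (s₁ : G) (Fd : Found L s₁)
    (A : Cov L) (hA : Subgroup.center L = zpowers A.s) (hA4 : orderOf A.s = 4) :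
    ∃ E : Emb A G, E.ι = L.subtype ∧ E.z = s₁ ^ 2 := by
  classical
  have hz1 : orderOf (s₁ ^ 2) = 2 := by
    rw [orderOf_pow' s₁ (by norm_num), Fd.s_ord]; rfl
  -- the central involution
  have hzz : ((A.z : L) : G) = s₁ ^ 2 := by
    have hcomm : ∀ y ∈ L, ((A.s : L) : G) * y = y * (A.s : G) := by
      intro y hy
      exact congrArg Subtype.val (A.s_cen ⟨y, hy⟩)
    obtain ⟨k, hk⟩ := Fd.s_gen (A.s : G) (A.s).2 hcomm
    have hs4 : s₁ ^ 4 = 1 := by rw [← Fd.s_ord]; exact pow_orderOf_eq_one s₁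
    have hord : orderOf ((A.s : L) : G) = 4 := by rw [Subgroup.orderOf_coe, hA4]
    have hk1 : ¬ 2 ∣ k := by
      rintro ⟨j, rfl⟩
      have h1 : ((A.s : L) : G) ^ 2 = 1 := by
        rw [hk, ← pow_mul, show 2 * j * 2 = 4 * j by ring, pow_mul, hs4, one_pow]
      have h2 := orderOf_dvd_of_pow_eq_one h1
      rw [hord] at h2
      omega
    obtain ⟨j, rfl⟩ : ∃ j, k = 2 * j + 1 := ⟨k / 2, by omega⟩
    show ((A.s : L) : G) * (A.s : G) = s₁ ^ 2
    rw [hk, ← pow_two, ← pow_mul, show (2 * j + 1) * 2 = 4 * j + 2 by ring, pow_add, pow_mul, hs4,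
      one_pow, one_mul]
  have hK : ∀ k : G, k ∈ centralizer (L : Set G) ↔ ∀ y : L, Commute k (y : G) := by
    intro k
    rw [mem_centralizer_iff]
    exact ⟨fun h y => (h y y.2).symm, fun h y hy => (h ⟨y, hy⟩).symm.eq⟩
  have hC : ∀ m : G, Commute m (s₁ ^ 2) ↔ m ∈ centralizer ({s₁ ^ 2} : Set G) := by
    intro m
    rw [mem_centralizer_singleton_iff]; exact Iff.rfl
  refine ⟨{ ι := L.subtype, inj := L.subtype_injective, norm := ?_, tight := ?_, uniq := ?_, disj := ?_ }, rfl, hzz⟩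
  · intro m hm
    have hm1 : Commute m (s₁ ^ 2) := by rw [← hzz]; exact hm
    rw [hC, Fd.cent_eq] at hm1
    exact ⟨Subgroup.normalizerMonoidHom L ⟨m, hm1⟩, fun y => rfl⟩
  · intro k hk hk1 hkk m hm
    have hko : orderOf k = 2 := orderOf_eq_prime (by rw [pow_two]; exact hkk) hk1
    have h1 := Fd.cent_le k ((hK k).2 hk) hko (mem_centralizer_singleton_iff.2 hm)
    rw [← hC, ← hzz] at h1
    exact h1
  · intro g hg
    have h1 : g * (s₁ ^ 2) * g⁻¹ ∈ centralizer (L : Set G) := by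
      rw [hK, ← hzz]; exact hg
    have h2 := Fd.uniq g h1
    rw [← hzz] at h2
    exact h2
  · intro g hg k hkk hk1 hk2
    by_contra hk0
    have hko : orderOf k = 2 := orderOf_eq_prime (by rw [pow_two]; exact hkk) hk0
    have hg' : g ∉ centralizer ({s₁ ^ 2} : Set G) := by
      intro h
      apply hg
      rw [← hC] at h
      show g * ((A.z : L) : G) * g⁻¹ = ((A.z : L) : G)
      rw [hzz, h.eq, mul_inv_cancel_right]
    have hodd := Fd.tight g hg'
    have hmem : k ∈ Subgroup.centralizer (L : Set G) ⊓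
        (Subgroup.centralizer (L : Set G)).map (MulAut.conj g).toMonoidHom := by
      refine ⟨(hK k).2 hk1, ⟨g⁻¹ * k * g, ?_, ?_⟩⟩
      · rw [SetLike.mem_coe, hK]
        intro y
        have h1 : k * (g * (y : G) * g⁻¹) = g * (y : G) * g⁻¹ * k := hk2 y
        show g⁻¹ * k * g * (y : G) = (y : G) * (g⁻¹ * k * g)
        calc g⁻¹ * k * g * (y : G) = g⁻¹ * (k * (g * (y : G) * g⁻¹)) * g := by group
          _ = (y : G) * (g⁻¹ * k * g) := by rw [h1]; group
      · show g * (g⁻¹ * k * g) * g⁻¹ = k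
        group
    have hdvd : orderOf (⟨k, hmem⟩ : ↥(Subgroup.centralizer (L : Set G) ⊓
        (Subgroup.centralizer (L : Set G)).map (MulAut.conj g).toMonoidHom)) ∣ _ :=
      orderOf_dvd_natCard _
    rw [Subgroup.orderOf_mk, hko] at hdvd
    exact (Nat.not_even_iff_odd.mpr hodd) (even_iff_two_dvd.mpr hdvd)

end Cfsg.Agent.StdL34
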