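import Cfsg.Agent.StdL34.Found
import Cfsg.Agent.ONType.OuterZ

/-!
# Root elements in a standard subgroup `4·L₃(4)`
-/

set_option autoImplicit false
set_option linter.constructorNameAsVariable false

namespace Cfsg.Agent.StdL34

open Subgroup
open Cfsg.Agent.SporadicA.FieldFour
open Cfsg.Agent.ONType.Psl
open Cfsg.Agent.ONType.Lift
open Cfsg.Agent.ONType.Data
open Cfsg.Agent.ONType.OuterL (rv rv_ne rv_rv)
open Cfsg.Agent.ONType.OuterM (trn)
open Cfsg.Agent.ONType.OuterZ (IsSigma IsGamma IsSG)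

/-- The structure of a subgroup `L` which is a perfect central extension of `PSL(3,4)` by the cyclic
group of order four generated by `s`: root elements `x i j u` with the relations of `MRel`, the
projection `p` on `PSL(3,4)`, and the action of the normalizer. -/
structure Roots {G : Type*} [Group G] (L : Subgroup G) (s : G) (x : Fin 3 → Fin 3 → F4 → G) (h : G)
    (g : F4 → ℕ) (p : L →* PSL3) : Prop where
  rel : MRel x s h g
  type : g = gI ∨ g = gII
  s_mem : s ∈ L
  s_ord : orderOf s = 4
  x_mem : ∀ i j u, i ≠ j → x i j u ∈ L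
  h_mem : h ∈ L
  p_surj : Function.Surjective p
  p_x : ∀ i j u (hij : i ≠ j), p ⟨x i j u, x_mem i j u hij⟩ = t i j u
  p_ker : ∀ y : L, p y = 1 ↔ ∃ k : ℕ, (y : G) = s ^ k
  gen : L = closure {y | ∃ i j u, i ≠ j ∧ y = x i j u}
  perfect : commutator L = ⊤
  outer : ∀ m : G, m ∈ normalizer (L : Set G) → ∃ l ∈ L,
    (∀ y ∈ L, (l * m) * y = y * (l * m)) ∨ IsSigma x (l * m) ∨ IsGamma x (l * m) ∨ IsSG x (l * m)

theorem exists_roots {G : Type*} [Group G] [Finite G] (L : Subgroup G) (s₁ : G) (Fd : Found L s₁)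
    (hc : IsCyclic ↥(Subgroup.center ↥L)) (h4 : Nat.card ↥(Subgroup.center ↥L) = 4)
    {F : Type*} [Field F] [Fintype F] (hF : Fintype.card F = 4)
    (e : ↥L ⧸ Subgroup.center ↥L ≃* Matrix.ProjectiveSpecialLinearGroup (Fin 3) F) :
    ∃ (s : G) (x : Fin 3 → Fin 3 → F4 → G) (h : G) (g : F4 → ℕ) (p : L →* PSL3),
      Roots L s x h g p ∧ s ^ 2 = s₁ ^ 2 := by
  classical
  obtain ⟨e'⟩ := nonempty_psl_equiv (n := Fin 3) F hF
  obtain ⟨π, C, z, hker, hcz, hz, hR⟩ := exists_data (M := L) hc h4 Fd.perfect F4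
    F4.card_eq (e.trans e'.symm)
  have hcen : ∀ k : L, (∀ m, k * m = m * k) → π k = 1 := by
    intro k hk
    have : k ∈ π.ker := by
      rw [hker, Subgroup.mem_center_iff]
      exact fun m => (hk m).symm
    exact this
  have hzord : orderOf (z : G) = 4 := by rw [Subgroup.orderOf_coe, hz]
  have hzcen : ∀ y ∈ L, (z : G) * y = y * z := by
    intro y hy
    have h1 : z ∈ Subgroup.center L := by rw [hcz]; exact Subgroup.mem_zpowers z
    exact (congrArg (fun y : L => (y : G)) (Subgroup.mem_center_iff.mp h1 ⟨y, hy⟩)).symm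
  -- the two squares agree
  have hsq : (z : G) ^ 2 = s₁ ^ 2 := by
    obtain ⟨k, hk⟩ := Fd.s_gen z z.2 hzcen
    have hs4 : s₁ ^ 4 = 1 := by rw [← Fd.s_ord]; exact pow_orderOf_eq_one s₁
    have hk1 : ¬ 2 ∣ k := by
      rintro ⟨j, rfl⟩
      have h1 : (z : G) ^ 2 = 1 := by
        rw [hk, ← pow_mul, show 2 * j * 2 = 4 * j by ring, pow_mul, hs4, one_pow]
      have h2 := orderOf_dvd_of_pow_eq_one h1
      rw [hzord] at h2
      omega
    obtain ⟨j, rfl⟩ : ∃ j, k = 2 * j + 1 := ⟨k / 2, by omega⟩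
    rw [hk, ← pow_mul, show (2 * j + 1) * 2 = 4 * j + 2 by ring, pow_add, pow_mul, hs4, one_pow,
      one_mul]
  obtain ⟨g, hg, R⟩ : ∃ g, (g = gI ∨ g = gII) ∧ MRel C.x z C.h g := by
    rcases hR with h | h
    · exact ⟨_, Or.inl rfl, h⟩
    · exact ⟨_, Or.inr rfl, h⟩
  have RG : MRel (fun i j u => (C.x i j u : G)) (z : G) (C.h : G) g := R.map L.subtype
  have ht1 : z * z ≠ 1 := by
    intro h
    have h2 := orderOf_dvd_of_pow_eq_one (x := z) (n := 2) (by rw [pow_two]; exact h)
    rw [hz] at h2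
    omega
  have hrow : ∀ u v : F4, C.x 0 1 u * C.x 0 2 v = C.x 0 2 v * C.x 0 1 u * (z * z) ^ trn (u * v) := by
    intro u v
    rw [R.row 0 1 2 (by decide) (by decide) (by decide) u v, pow_mul, pow_two]
  have hcol : ∀ u v : F4, C.x 1 2 u * C.x 0 2 v = C.x 0 2 v * C.x 1 2 u * (z * z) ^ trn (u * v) := by
    intro u v
    rw [R.col 1 2 0 (by decide) (by decide) (by decide) u v, pow_mul, pow_two]
  refine ⟨z, fun i j u => C.x i j u, C.h, g, π, ⟨RG, hg, z.2, hzord, fun i j u _ => (C.x i j u).2,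
    C.h.2, C.surj, fun i j u hij => C.map_x i j hij u, ?_, ?_, Fd.perfect, ?_⟩, hsq⟩
  · intro y
    have h1 : π y = 1 ↔ y ∈ zpowers z := by rw [← hcz, ← hker]; exact Iff.rfl
    rw [h1, mem_zpowers_iff_mem_range_orderOf]
    constructor
    · intro h2
      obtain ⟨k, -, hk⟩ := Finset.mem_image.1 h2
      exact ⟨k, (congrArg Subtype.val hk).symm⟩
    · rintro ⟨k, hk⟩
      rw [Finset.mem_image]
      refine ⟨k % orderOf z, Finset.mem_range.2 (Nat.mod_lt _ (by rw [hz]; omega)), ?_⟩
      rw [pow_mod_orderOf]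
      exact Subtype.ext hk.symm
  · have h1 := Cfsg.Agent.ONType.OuterC.closure_x C Fd.perfect
    apply le_antisymm
    · intro y hy
      have h2 : (⟨y, hy⟩ : L) ∈ closure {y : L | ∃ (i j : Fin 3) (u : F4), i ≠ j ∧ y = C.x i j u} := by
        rw [h1]; exact mem_top _
      have h3 : y ∈ (closure {y : L | ∃ (i j : Fin 3) (u : F4), i ≠ j ∧ y = C.x i j u}).map L.subtype :=
        ⟨_, h2, rfl⟩
      rw [MonoidHom.map_closure] at h3
      refine closure_mono ?_ h3
      rintro _ ⟨y, ⟨i, j, u, hij, rfl⟩, rfl⟩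
      exact ⟨i, j, u, hij, rfl⟩
    · rw [closure_le]
      rintro _ ⟨i, j, u, hij, rfl⟩
      exact (C.x i j u).2
  · intro m hm
    let α : MulAut L := Subgroup.normalizerMonoidHom L ⟨m, hm⟩
    have hα : ∀ y : L, ((α y : L) : G) = m * y * m⁻¹ := fun y => rfl
    have hmz : m * ((z : G) ^ 2) * m⁻¹ = (z : G) ^ 2 := by
      rw [hsq]
      rw [← Fd.cent_eq, mem_centralizer_singleton_iff] at hm
      rw [hm, mul_inv_cancel_right]
    obtain ⟨l, σ, hσ, -, hx⟩ := Cfsg.Agent.ONType.OuterM.exists_outer C hcen (z * z) ht1 hrow hcol α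
      (fun l => by
        apply Subtype.ext
        rw [MulAut.mul_apply, MulAut.conj_apply]
        show (l : G) * (α (z * z) : L) * (l : G)⁻¹ = ((z : G) * z)
        rw [hα]
        show (l : G) * (m * ((z : G) * z) * m⁻¹) * (l : G)⁻¹ = ((z : G) * z)
        rw [← pow_two, hmz]
        have : Commute (l : G) ((z : G)) := (hzcen l l.2).symm
        rw [(this.pow_right 2).eq, mul_inv_cancel_right])
    have hact : ∀ y : L, (((MulAut.conj l * α : MulAut L) y : L) : G)
        = (l * m) * (y : G) * (l * m)⁻¹ := by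
      intro y
      rw [MulAut.mul_apply, MulAut.conj_apply]
      show (l : G) * (α y : L) * (l : G)⁻¹ = _
      rw [hα]
      group
    have hσσ : ∀ u, σ (σ u) = u := by
      intro u
      rcases hσ with h | h
      · rw [h, h]
      · rw [h, h]; cases u <;> rfl
    refine ⟨l, l.2, ?_⟩
    rcases hx with hx | hx
    · have hx' : ∀ i j : Fin 3, i ≠ j → ∀ u : F4,
          (l * m)⁻¹ * (C.x i j u : G) * (l * m) = C.x i j (σ u) := by
        intro i j hij u
        have h1 := hx i j hij (σ u)
        have h2 := congrArg (fun y : L => (y : G)) h1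
        simp only [hact] at h2
        rw [hσσ] at h2
        rw [← h2]; group
      rcases hσ with h | h
      · left
        have h1 : ((MulAut.conj l * α : MulAut L)).toMonoidHom = MonoidHom.id L := by
          apply Cfsg.Agent.ONType.OuterC.hom_ext C Fd.perfect
          intro i j hij u
          have := hx i j hij u
          rw [h] at this
          exact this
        intro y hy
        have h2 := congrArg (fun f : L →* L => ((f ⟨y, hy⟩ : L) : G)) h1
        change (((MulAut.conj l * α : MulAut L) ⟨y, hy⟩ : L) : G) = y at h2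
        rw [hact] at h2
        exact mul_inv_eq_iff_eq_mul.1 h2
      · right; left
        intro i j hij u
        rw [hx' i j hij u, h]
    · have hx' : ∀ i j : Fin 3, i ≠ j → ∀ u : F4,
          (l * m)⁻¹ * (C.x i j u : G) * (l * m) = C.x (rv j) (rv i) (σ u) := by
        intro i j hij u
        have h1 := hx (rv j) (rv i) (rv_ne hij.symm) (σ u)
        have h2 := congrArg (fun y : L => (y : G)) h1
        simp only [hact] at h2
        rw [hσσ, rv_rv, rv_rv] at h2
        rw [← h2]; group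
      right; right
      rcases hσ with h | h
      · left
        intro i j hij u
        rw [hx' i j hij u, h]
      · right
        intro i j hij u
        rw [hx' i j hij u, h]

end Cfsg.Agent.StdL34
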