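import Cfsg.Agent.StdL34.Pair

/-!
# Step (7): the 2-elements centralizing the component are powers of `s`
-/

set_option autoImplicit false
set_option linter.constructorNameAsVariable false
set_option linter.unusedVariables false

namespace Cfsg.Agent.StdL34.Seven

open Cfsg.Agent.SporadicA.FieldFour
open Cfsg.Agent.StdL34
open Cfsg.Agent.StdL34.Emb (mem_K act_ι)

/-! ### finite facts -/

theorem T0_comm : ∀ ty, ∀ y ∈ T0, cmul ty y ⟨0, 0, 1, 0⟩ = cmul ty ⟨0, 0, 1, 0⟩ y := by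
  decide +kernel

theorem fix_s : ∀ (τ : Ty) a b c, cact true ⟨a, b, c, 0⟩ τ ⟨0, 0, 0, 1⟩ = ⟨0, 0, 0, 1⟩ →
    τ.2 = false := by
  decide +kernel

theorem pow_two' : ∀ c : F4, cq (cmul true ⟨1, 1, c, 0⟩ ⟨1, 1, c, 0⟩) ⟨0, 0, 1, 0⟩ := by
  decide +kernel

theorem pow_three' : ∀ c : F4,
    cq (cmul true (cmul true ⟨1, 1, c, 0⟩ ⟨1, 1, c, 0⟩) ⟨1, 1, c, 0⟩) ⟨1, 1, c + 1, 0⟩ := by
  decide +kernel

/-! ### general facts on `Cov` -/

section Cov

variable {L : Type*} [Group L] {A : Cov L}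

/-- equality modulo the centre, on codes -/
theorem cq_of_conj {p q : Code} (h : MulAut.conj (A.el p) = MulAut.conj (A.el q)) : cq p q := by
  have h1 : MulAut.conj (A.el (cmul A.ty (cinv A.ty q) p)) = 1 := by
    rw [← A.el_mul, map_mul, ← A.el_inv, map_inv, h, inv_mul_cancel]
  have h2 : cz (cmul A.ty (cinv A.ty q) p) := Cov.cz_of_conj h1
  have h3 : A.el p = A.el q * A.sp (cmul A.ty (cinv A.ty q) p).k := by
    rw [← Cov.cz_el h2, ← A.el_mul, ← A.el_inv, mul_inv_cancel_left]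
  rw [← A.el_sp, A.el_mul] at h3
  have h4 := A.inj h3
  obtain ⟨a, b, c, k⟩ := q
  rw [h4]
  unfold cmul cq
  simp [zero_mul]

theorem conj_of_cq {p q : Code} (h : cq p q) : MulAut.conj (A.el p) = MulAut.conj (A.el q) := by
  rw [Cov.conj_nk, Cov.conj_nk (p := q)]
  obtain ⟨h1, h2, h3⟩ := h
  unfold nk
  rw [h1, h2, h3]

/-- an automorphism sends `s` to `s` or its inverse -/
theorem map_s (α : MulAut L) : α A.s = A.s ∨ α A.s = A.s⁻¹ := by
  obtain ⟨l, τ, h⟩ := A.exists_tau α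
  have h1 := h.s
  rw [MulAut.mul_apply, MulAut.conj_apply] at h1
  have h2 : α A.s = A.sp (sg (invs A.ty τ) 1) := by
    have : α A.s = l⁻¹ * (l * α A.s * l⁻¹) * l := by group
    rw [this, h1, mul_assoc, A.sp_cen, ← mul_assoc, inv_mul_cancel, one_mul]
  rw [h2]
  cases invs A.ty τ
  · left; exact A.sp_one
  · right
    show A.sp (-1) = _
    rw [← A.sp_neg, A.sp_one]

/-- the fourth power of a product of codes -/
theorem Cd_pow {α : MulAut L} {p : Code} {τ : Ty} (h : A.Cd α p τ) : α ^ 32 = 1 := by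
  have h2 := h.mul h
  rw [Cov.Ty.mul_self] at h2
  have h3 : MulAut.conj (A.el (cmul A.ty (ctau A.ty τ p) p)) * (α * α) = 1 :=
    Cov.IsTau.ext h2 Cov.isTau_one
  have h4 : α * α = (MulAut.conj (A.el (cmul A.ty (ctau A.ty τ p) p)))⁻¹ :=
    eq_inv_of_mul_eq_one_right h3
  have h5 : α ^ 32 = (α * α) ^ 16 := by rw [← pow_two, ← pow_mul]
  rw [h5, h4, inv_pow, inv_eq_one, ← map_pow]
  have h6 : (A.el (cmul A.ty (ctau A.ty τ p) p)) ^ 16 = 1 := by
    generalize cmul A.ty (ctau A.ty τ p) p = q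
    have e : (A.el q) ^ 16 = A.el q * A.el q * (A.el q * A.el q) * (A.el q * A.el q * (A.el q * A.el q)) *
        (A.el q * A.el q * (A.el q * A.el q) * (A.el q * A.el q * (A.el q * A.el q))) := by
      simp only [← pow_two, ← pow_mul]
      norm_num
    rw [e]
    simp only [A.el_mul]
    rw [pow16, A.el_one]
  rw [h6, map_one]

end Cov

/-! ### general facts on `Emb` -/

section Emb

variable {L : Type*} [Group L] {A : Cov L} {G : Type*} [Group G] {E : Emb A G}

theorem conj_mem_K {m k : G} (hm : Commute m E.z) (hk : k ∈ E.K) : m * k * m⁻¹ ∈ E.K := by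
  rw [mem_K] at hk ⊢
  intro y
  obtain ⟨α, hα⟩ := E.exists_act hm
  have h1 := hα (α.symm y)
  rw [MulEquiv.apply_symm_apply] at h1
  rw [← h1]
  exact (hk (α.symm y)).conj m

theorem s_mem_K : E.s ∈ E.K := by
  rw [mem_K]
  intro y
  show E.ι A.s * E.ι y = E.ι y * E.ι A.s
  rw [← map_mul, ← map_mul, A.s_cen]

theorem comm_ι {k : G} (hk : k ∈ E.K) (y : L) : Commute k (E.ι y) := mem_K.1 hk y

theorem s_sq : E.s * E.s = E.z := by
  show E.ι A.s * E.ι A.s = E.ι (A.s * A.s)
  rw [map_mul]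

theorem s_four : E.s ^ 4 = 1 := by
  show (E.ι A.s) ^ 4 = 1
  rw [← map_pow, A.s_pow, map_one]

theorem z_sq : E.z * E.z = 1 := by
  rw [← s_sq, ← s_four (E := E)]
  simp only [pow_succ, pow_zero, one_mul, mul_assoc]

theorem z_mem_K : E.z ∈ E.K := by
  rw [← s_sq]; exact mul_mem s_mem_K s_mem_K

theorem z_ne : E.z ≠ 1 := by
  intro h
  have h1 : E.ι A.z = E.ι 1 := by rw [map_one]; exact h
  have h2 := E.inj h1
  rw [A.z_eq, ← A.el_sp, ← A.el_one] at h2
  have := A.inj h2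
  revert this
  decide

theorem conj_s_cases {m : G} (hm : Commute m E.z) :
    m * E.s * m⁻¹ = E.s ∨ m * E.s * m⁻¹ = E.s⁻¹ := by
  obtain ⟨α, hα⟩ := E.exists_act hm
  rw [show m * E.s * m⁻¹ = E.ι (α A.s) from hα A.s]
  rcases map_s (A := A) α with h | h
  · left; rw [h]; rfl
  · right; rw [h, map_inv]; rfl

/-- `u` does not centralize the component -/
theorem u_not_mem_K : E.u ∉ E.K := by
  intro h
  have h1 : E.Act E.u 1 := Emb.act_one_iff.2 h
  have h2 := h1.unique (act_ι (E := E) (A.x 0 2 1))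
  have h3 := Cov.cz_of_conj (A := A) (p := ⟨0, 0, 1, 0⟩) (by rw [A.el_x02, ← h2])
  exact absurd h3.2.2 (by decide)

variable {w : G}

theorem z_comm_u : Commute E.z E.u := comm_ι z_mem_K _

theorem K_comm_u {k : G} (hk : k ∈ E.K) : Commute k E.u := comm_ι hk _

theorem K_comm_z {k : G} (hk : k ∈ E.K) : Commute k E.z := comm_ι hk _

/-- an element commuting with `z` and `u` has a code on the conjugate component -/
theorem exists_code' (hP : E.Pair w) {m : G} (hz : Commute m E.z) (hu : Commute m E.u) :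
    ∃ α p τ, (E.conj w).Act m α ∧ A.Cd α p τ := by
  have h1 : Commute m (E.conj w).z := by rw [hP.z']; exact hu
  obtain ⟨α, hα⟩ := (E.conj w).exists_act h1
  have h2 : Commute m ((E.conj w).ι (A.x 0 2 1)) := by
    have : (E.conj w).ι (A.x 0 2 1) = E.z := hP.u'
    rw [this]; exact hz
  have h3 := (Emb.Act.commute_iff hα _).1 h2
  obtain ⟨p, τ, h⟩ := Cov.exists_cd h3
  exact ⟨α, p, τ, hα, h⟩

/-- no involution centralizes both components -/
theorem inf_no_inv (hP : E.Pair w) {k : G} (h1 : k ∈ E.K) (h2 : k ∈ (E.conj w).K) (hkk : k * k = 1) :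
    k = 1 := by
  apply E.disj w
  · intro h
    have h3 : E.u = E.z := by rw [← hP.1]; exact h
    apply u_not_mem_K (E := E)
    rw [h3]; exact z_mem_K
  · exact hkk
  · exact mem_K.1 h1
  · exact mem_K.1 h2

variable [Finite G]

/-- elements centralizing both components have odd order -/
theorem inf_odd (hP : E.Pair w) {k : G} (h1 : k ∈ E.K) (h2 : k ∈ (E.conj w).K) :
    Odd (orderOf k) := by
  rw [← Nat.not_even_iff_odd]
  rintro ⟨n, hn⟩
  have h0 : 0 < orderOf k := orderOf_pos k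
  have h3 : (k ^ n) * (k ^ n) = 1 := by rw [← pow_add, ← hn]; exact pow_orderOf_eq_one k
  have h4 := inf_no_inv hP (pow_mem h1 n) (pow_mem h2 n) h3
  have h5 := orderOf_dvd_of_pow_eq_one h4
  have := Nat.le_of_dvd (by omega) h5
  omega

omit [Finite G] in
/-- elements of odd order of `K` centralize the conjugate component -/
theorem odd_mem (hP : E.Pair w) {k : G} (hk : k ∈ E.K) (ho : Odd (orderOf k)) :
    k ∈ (E.conj w).K := by
  obtain ⟨α, p, τ, hα, hc⟩ := exists_code' hP (K_comm_z hk) (K_comm_u hk)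
  have h1 := Cd_pow hc
  have h2 : α ^ orderOf k = 1 := by
    have h3 := hα.pow (orderOf k)
    rw [pow_orderOf_eq_one] at h3
    exact h3.unique Emb.Act.one
  have h4 : α ^ (Nat.gcd (orderOf k) 32) = 1 := pow_gcd_eq_one.2 ⟨h2, h1⟩
  have h5 : Nat.Coprime (orderOf k) (2 ^ 5) := by
    apply Nat.Coprime.pow_right
    rw [Nat.coprime_two_right]; exact ho
  have h6 : Nat.gcd (orderOf k) 32 = 1 := h5
  rw [h6, pow_one] at h4
  rw [h4] at hα
  exact Emb.act_one_iff.1 hα

/-- an element of `K` whose action on the conjugate component is an involution acts as `z` -/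
theorem act_inv (hP : E.Pair w) (hone : ∀ k ∈ E.K, k * k = 1 → k = 1 ∨ k = E.z) {k : G}
    (hk : k ∈ E.K) {β ζ : MulAut L} (hβ : (E.conj w).Act k β) (hζ : (E.conj w).Act E.z ζ)
    (hββ : β * β = 1) : β = 1 ∨ β = ζ := by
  have h1 : k * k ∈ (E.conj w).K := by
    rw [← Emb.act_one_iff, ← hββ]
    exact hβ.mul hβ
  have h2 : Odd (orderOf (k * k)) := inf_odd hP (mul_mem hk hk) h1
  obtain ⟨n, hn⟩ := h2
  have h3 : (k ^ (2 * n + 1)) * (k ^ (2 * n + 1)) = 1 := by
    rw [← (Commute.refl k).mul_pow, ← hn, pow_orderOf_eq_one]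
  have h4 := hβ.pow (2 * n + 1)
  have h5 : β ^ (2 * n + 1) = β := by
    rw [pow_succ, pow_mul, pow_two, hββ, one_pow, one_mul]
  rw [h5] at h4
  rcases hone _ (pow_mem hk _) h3 with h | h
  · left
    rw [h] at h4
    exact h4.unique Emb.Act.one
  · right
    rw [h] at h4
    exact h4.unique hζ

/-- an element of 2-power order whose square is not trivial has a power of order four -/
theorem exists_pow_four {H : Type*} [Group H] (m : ℕ) : ∀ c : H, c ^ (2 ^ m) = 1 → c * c ≠ 1 →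
    ∃ j : ℕ, c ^ j * c ^ j ≠ 1 ∧ c ^ j * c ^ j * (c ^ j * c ^ j) = 1 := by
  induction m with
  | zero =>
    intro c h h1
    rw [pow_zero, pow_one] at h
    rw [h, mul_one] at h1
    exact absurd rfl h1
  | succ m ih =>
    intro c h h1
    by_cases h2 : c * c * (c * c) = 1
    · exact ⟨1, by rwa [pow_one], by rwa [pow_one]⟩
    · obtain ⟨j, hj⟩ := ih (c * c) (by rw [← pow_two, ← pow_mul, ← pow_succ']; exact h) h2
      have e : (c * c) ^ j = c ^ (2 * j) := by rw [pow_mul, pow_two]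
      rw [e] at hj
      exact ⟨2 * j, hj⟩

/-- two elements of `K` whose actions on the conjugate component have the same square, the action
of `s` -/
theorem root_unique (hP : E.Pair w) (hone : ∀ k ∈ E.K, k * k = 1 → k = 1 ∨ k = E.z) {q : MulAut L}
    (hq : (E.conj w).Act E.s q) {k k' : G} (hk : k ∈ E.K) (hk' : k' ∈ E.K) {b b' : MulAut L}
    (hb : (E.conj w).Act k b) (hb' : (E.conj w).Act k' b') (h1 : b * b = q) (h2 : b' * b' = q) :
    b' = b ∨ b' = b * (q * q) := by
  have hζ : (E.conj w).Act E.z (q * q) := by rw [← s_sq]; exact hq.mul hq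
  have hζ1 : q * q ≠ 1 := by
    intro h
    rw [h, Emb.act_one_iff, ← hP.u'] at hζ
    exact u_not_mem_K hζ
  have hζ2 : q * q * (q * q) = 1 := by
    have h3 := hζ.mul hζ
    rw [z_sq] at h3
    exact h3.unique Emb.Act.one
  set c := b⁻¹ * b' with hc
  have hcK : k⁻¹ * k' ∈ E.K := mul_mem (inv_mem hk) hk'
  have hcA : (E.conj w).Act (k⁻¹ * k') c := hb.inv.mul hb'
  have hinv : b⁻¹ * c * b = c⁻¹ := by
    have h3 : b' = b * c := by rw [hc]; group
    have h4 : b * c * (b * c) = b * b := by rw [← h3, h1, h2]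
    have h5 : c * (b * c) = b := by
      apply mul_left_cancel (a := b)
      rw [← mul_assoc]; exact h4
    rw [eq_inv_iff_mul_eq_one, mul_assoc, mul_assoc, h5, inv_mul_cancel]
  suffices h : c = 1 ∨ c = q * q by
    rcases h with h | h
    · left; rw [hc, inv_mul_eq_one] at h; exact h.symm
    · right; rw [← h, hc]; group
  by_cases hcc : c * c = 1
  · exact act_inv hP hone hcK hcA hζ hcc
  exfalso
  obtain ⟨α, p, τ, hα, hcd⟩ := exists_code' hP (K_comm_z hcK) (K_comm_u hcK)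
  have hαc : α = c := hα.unique hcA
  rw [hαc] at hcd
  obtain ⟨j, hj1, hj2⟩ := exists_pow_four 5 c (Cd_pow hcd) hcc
  set f := c ^ j with hf
  have hfK : (k⁻¹ * k') ^ j ∈ E.K := pow_mem hcK j
  have hfA : (E.conj w).Act ((k⁻¹ * k') ^ j) f := hcA.pow j
  have hff : f * f = q * q := by
    rcases act_inv hP hone (mul_mem hfK hfK) (hfA.mul hfA) hζ hj2 with h | h
    · exact absurd h hj1
    · exact h
  have hfinv : b⁻¹ * f * b = f⁻¹ := by
    have h3 : b⁻¹ * c ^ j * b = (b⁻¹ * c * b) ^ j := by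
      have := conj_pow (i := j) (a := b⁻¹) (b := c)
      rw [inv_inv] at this
      exact this.symm
    rw [hf, h3, hinv, inv_pow]
  -- `f` commutes with `q`
  have hfq : f * q = q * f := by
    have h3 : (k⁻¹ * k') ^ j * E.s = E.s * (k⁻¹ * k') ^ j := (comm_ι hfK A.s).eq
    have h4 := hfA.mul hq
    rw [h3] at h4
    exact h4.unique (hq.mul hfA)
  have hfq' : f * q⁻¹ = q⁻¹ * f := by
    rw [eq_inv_mul_iff_mul_eq, ← mul_assoc, ← hfq, mul_inv_cancel_right]
  have h6 : f * q⁻¹ * (f * q⁻¹) = 1 := by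
    calc f * q⁻¹ * (f * q⁻¹) = f * (q⁻¹ * f) * q⁻¹ := by group
      _ = f * (f * q⁻¹) * q⁻¹ := by rw [hfq']
      _ = (f * f) * (q * q)⁻¹ := by group
      _ = 1 := by rw [hff, mul_inv_cancel]
  have hcomm : b⁻¹ * f * b = f := by
    rcases act_inv hP hone (mul_mem hfK (inv_mem s_mem_K)) (hfA.mul hq.inv) hζ h6 with h | h
    · rw [mul_inv_eq_one] at h
      rw [h, ← h1]; group
    · rw [mul_inv_eq_iff_eq_mul] at h
      rw [h, ← h1]; group
  rw [hfinv] at hcomm
  apply hj1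
  nth_rewrite 1 [← hcomm]
  exact inv_mul_cancel f

/-- `s` has no square root in `K` -/
theorem no_root (hP : E.Pair w) (hs : E.SAct w)
    (hone : ∀ k ∈ E.K, k * k = 1 → k = 1 ∨ k = E.z) {k : G} (hk : k ∈ E.K) (hks : k * k = E.s) :
    False := by
  obtain ⟨hty, c', hq⟩ := hs
  obtain ⟨b, p, τ, hb, hcd⟩ := exists_code' hP (K_comm_z hk) (K_comm_u hk)
  set q := (MulAut.conj (A.el ⟨1, 1, c', 0⟩))⁻¹ with hqdef
  have hbb : b * b = q := by
    have h1 := hb.mul hb
    rw [hks] at h1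
    exact h1.unique hq
  have hζ : (E.conj w).Act E.z (q * q) := by rw [← s_sq]; exact hq.mul hq
  have hζ2 : q * q * (q * q) = 1 := by
    have h3 := hζ.mul hζ
    rw [z_sq] at h3
    exact h3.unique Emb.Act.one
  -- `k` commutes with the generator of the centre of the conjugate component
  have hkE' : Commute k (E.conj w).z := by rw [hP.z']; exact K_comm_u hk
  have hsE' : Commute (E.conj w).s E.z := by
    rw [← hP.u']
    exact comm_ι s_mem_K _
  have hks' : k * (E.conj w).s * k⁻¹ = (E.conj w).s := by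
    rcases conj_s_cases hkE' with h | h
    · exact h
    · exfalso
      have h1 : k * ((E.conj w).s * k⁻¹ * (E.conj w).s⁻¹) ∈ E.K :=
        mul_mem hk (conj_mem_K hsE' (inv_mem hk))
      have h2 : k * ((E.conj w).s * k⁻¹ * (E.conj w).s⁻¹) = (E.conj w).z := by
        calc k * ((E.conj w).s * k⁻¹ * (E.conj w).s⁻¹)
            = (k * (E.conj w).s * k⁻¹) * (E.conj w).s⁻¹ := by group
          _ = ((E.conj w).s * (E.conj w).s)⁻¹ := by rw [h]; group
          _ = ((E.conj w).z)⁻¹ := by rw [s_sq]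
          _ = (E.conj w).z := inv_eq_of_mul_eq_one_left z_sq
      rw [h2, hP.z'] at h1
      exact u_not_mem_K h1
  have hbs : b A.s = A.s := by
    apply (E.conj w).inj
    rw [← hb]
    exact hks'
  have hcdn := hcd.nk
  have hτ : τ.2 = false := by
    apply fix_s τ p.a p.b p.c
    have h1 := hcdn.apply ⟨0, 0, 0, 1⟩
    rw [A.el_sp, A.sp_one, hbs] at h1
    have h2 : A.el ⟨0, 0, 0, 1⟩ = A.el (cact A.ty (nk p) τ ⟨0, 0, 0, 1⟩) := by
      rw [A.el_sp, A.sp_one]; exact h1
    have h3 := A.inj h2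
    rw [hty] at h3
    exact h3.symm
  -- the square of `b`
  have hsq : cq (cmul true (ctau true τ (nk p)) (nk p)) ⟨1, 1, c', 0⟩ := by
    have h1 := hcdn.mul hcdn
    rw [Cov.Ty.mul_self, hbb, hty] at h1
    have h2 : MulAut.conj (A.el (cmul true (ctau true τ (nk p)) (nk p))) * q = 1 :=
      Cov.IsTau.ext h1 Cov.isTau_one
    rw [hqdef, mul_inv_eq_one] at h2
    exact cq_of_conj h2
  apply k_act τ p.a p.b p.c c' hτ hsq
  intro y hy
  -- the element `t`
  set t := (E.conj w).ι (A.el y) with ht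
  have htz : Commute t E.z := by
    have h1 : (E.conj w).ι (A.x 0 2 1) = E.z := hP.u'
    rw [← h1]
    show (E.conj w).ι (A.el y) * (E.conj w).ι (A.x 0 2 1) = (E.conj w).ι (A.x 0 2 1) * (E.conj w).ι (A.el y)
    rw [← map_mul, ← map_mul, ← A.el_x02, A.el_mul, A.el_mul, T0_comm A.ty y hy]
  have htz' : Commute t⁻¹ E.z := htz.inv_left
  have hK' : t⁻¹ * k * t⁻¹⁻¹ ∈ E.K := conj_mem_K htz' hk
  set b' := (MulAut.conj (A.el y))⁻¹ * b * (MulAut.conj (A.el y)) with hb'
  have hA' : (E.conj w).Act (t⁻¹ * k * t⁻¹⁻¹) b' := by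
    have h1 := (((act_ι (E := E.conj w) (A.el y)).inv).mul hb).mul
      (act_ι (E := E.conj w) (A.el y)).inv.inv
    rw [inv_inv (MulAut.conj (A.el y))] at h1
    exact h1
  have hex : ∃ i : ℕ, i < 4 ∧ b' = b * (MulAut.conj (A.el ⟨1, 1, c', 0⟩)) ^ i := by
    have hq1 : MulAut.conj (A.el ⟨1, 1, c', 0⟩) = q⁻¹ := by rw [hqdef, inv_inv]
    have hqq : q * q * q * q = 1 := by rw [← hζ2]; group
    rw [hq1]
    have hs2 : (E.conj w).Act (t⁻¹ * E.s * t⁻¹⁻¹) (b' * b') := by
      have h1 := hA'.mul hA'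
      have h2 : t⁻¹ * k * t⁻¹⁻¹ * (t⁻¹ * k * t⁻¹⁻¹) = t⁻¹ * E.s * t⁻¹⁻¹ := by
        rw [← hks]; group
      rw [h2] at h1
      exact h1
    rcases conj_s_cases htz' with h | h
    · rw [h] at hs2
      have h3 := hs2.unique hq
      rcases root_unique hP hone hq hk hK' hb hA' hbb h3 with h4 | h4
      · exact ⟨0, by norm_num, by rw [h4, pow_zero, mul_one]⟩
      · refine ⟨2, by norm_num, ?_⟩
        rw [h4]
        congr 1
        calc q * q = q * q * q * q * (q⁻¹ * q⁻¹) := by simp [mul_assoc]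
          _ = q⁻¹ ^ 2 := by rw [hqq, one_mul, pow_two]
    · rw [h] at hs2
      have h3 := hs2.unique hq.inv
      have hcom : b' * q = q * b' := by
        have h4 : (t⁻¹ * k * t⁻¹⁻¹) * E.s = E.s * (t⁻¹ * k * t⁻¹⁻¹) := (comm_ι hK' A.s).eq
        have h5 := hA'.mul hq
        rw [h4] at h5
        exact h5.unique (hq.mul hA')
      have h6 : b' * q * (b' * q) = q := by
        calc b' * q * (b' * q) = b' * (q * b') * q := by group
          _ = b' * (b' * q) * q := by rw [hcom]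
          _ = (b' * b') * (q * q) := by group
          _ = q := by rw [h3]; group
      rcases root_unique hP hone hq hk (mul_mem hK' s_mem_K) hb (hA'.mul hq) hbb h6 with h4 | h4
      · refine ⟨1, by norm_num, ?_⟩
        rw [pow_one, ← h4, mul_inv_cancel_right]
      · refine ⟨3, by norm_num, ?_⟩
        have h7 : b' = b * (q * q) * q⁻¹ := by rw [← h4, mul_inv_cancel_right]
        rw [h7]
        calc b * (q * q) * q⁻¹ = b * (q * q * q * q * (q⁻¹ ^ 3)) := by group
          _ = b * q⁻¹ ^ 3 := by rw [hqq, one_mul]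
  obtain ⟨i, hi, hbi⟩ := hex
  have hcommg : b * (MulAut.conj (A.el ⟨1, 1, c', 0⟩)) ^ i = (MulAut.conj (A.el ⟨1, 1, c', 0⟩)) ^ i * b := by
    have h1 : Commute b q := by rw [← hbb]; exact (Commute.refl b).mul_right (Commute.refl b)
    have h2 : Commute b (MulAut.conj (A.el ⟨1, 1, c', 0⟩)) := by
      have := h1.inv_right
      rwa [hqdef, inv_inv] at this
    exact (h2.pow_right i).eq
  have hfinal : MulAut.conj (A.el (cact true (nk p) τ y)) =
      MulAut.conj (A.el y) * (MulAut.conj (A.el ⟨1, 1, c', 0⟩)) ^ i := by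
    have h1 := hcdn.apply y
    rw [hty] at h1
    rw [← h1, Cov.conj_map]
    have h2 : b * MulAut.conj (A.el y) * b⁻¹ =
        MulAut.conj (A.el y) * b' * b⁻¹ := by rw [hb']; group
    rw [h2, hbi, hcommg]
    group
  rw [← map_pow, ← map_mul] at hfinal
  interval_cases i
  · left
    rw [pow_zero, mul_one] at hfinal
    exact cq_of_conj hfinal
  · right; left
    rw [pow_one, A.el_mul, hty] at hfinal
    exact cq_of_conj hfinal
  · right; right; left
    have h1 : MulAut.conj (A.el ⟨1, 1, c', 0⟩ ^ 2) = MulAut.conj (A.el ⟨0, 0, 1, 0⟩) := by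
      rw [pow_two, A.el_mul, hty]
      exact conj_of_cq (pow_two' c')
    rw [map_mul, h1, ← map_mul, A.el_mul, hty] at hfinal
    exact cq_of_conj hfinal
  · right; right; right
    have h1 : MulAut.conj (A.el ⟨1, 1, c', 0⟩ ^ 3) = MulAut.conj (A.el ⟨1, 1, c' + 1, 0⟩) := by
      rw [pow_succ, pow_two, A.el_mul, A.el_mul, hty]
      exact conj_of_cq (pow_three' c')
    rw [map_mul, h1, ← map_mul, A.el_mul, hty] at hfinal
    exact cq_of_conj hfinal

/-- **Step (7).** The 2-elements of `K` are the powers of `s`. -/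
theorem mem_zpowers_of_two (hP : E.Pair w) (hs : E.SAct w)
    (hone : ∀ k ∈ E.K, k * k = 1 → k = 1 ∨ k = E.z) :
    ∀ k ∈ E.K, (∃ n, k ^ (2 ^ n) = 1) → ∃ j : ℕ, k = E.s ^ j := by
  rintro k hk ⟨n, hn⟩
  induction n generalizing k with
  | zero => exact ⟨0, by rw [pow_zero, pow_one] at hn; rw [hn, pow_zero]⟩
  | succ n ih =>
    have h4 : E.s ^ 4 = 1 := s_four
    have hz2 : E.z = E.s ^ 2 := by rw [pow_two]; exact s_sq.symm
    obtain ⟨j, hj⟩ := ih (k * k) (mul_mem hk hk) (by rw [← pow_two, ← pow_mul, ← pow_succ']; exact hn)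
    have hj' : k * k = E.s ^ (j % 4) := by
      rw [hj]
      conv_lhs => rw [← Nat.div_add_mod j 4, pow_add, pow_mul, h4, one_pow, one_mul]
    have hlt : j % 4 < 4 := Nat.mod_lt _ (by norm_num)
    have hcs : Commute k E.s := comm_ι hk A.s
    generalize j % 4 = i at hj' hlt
    interval_cases i
    · rcases hone k hk (by rw [hj', pow_zero]) with h | h
      · exact ⟨0, by rw [h, pow_zero]⟩
      · exact ⟨2, by rw [h, hz2]⟩
    · exact (no_root hP hs hone hk (by rw [hj', pow_one])).elim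
    · have h5 : (k * E.s) * (k * E.s) = 1 := by
        calc (k * E.s) * (k * E.s) = k * (E.s * k) * E.s := by group
          _ = k * (k * E.s) * E.s := by rw [hcs.eq]
          _ = (k * k) * E.s ^ 2 := by rw [pow_two]; group
          _ = 1 := by rw [hj', ← pow_add]; exact h4
      rcases hone _ (mul_mem hk s_mem_K) h5 with h | h
      · refine ⟨3, ?_⟩
        rw [eq_inv_of_mul_eq_one_left h, inv_eq_of_mul_eq_one_left]
        rw [← pow_succ]; exact h4
      · refine ⟨1, ?_⟩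
        rw [hz2, pow_two] at h
        rw [pow_one]
        exact mul_right_cancel h
    · exfalso
      apply no_root hP hs hone (inv_mem hk)
      rw [← mul_inv_rev, hj', inv_eq_iff_mul_eq_one, ← pow_succ]
      exact h4

/-! ### the structure of `K` and the position of `s` -/

/-- **(7c).** -/
theorem exists_decomp (hP : E.Pair w) (hs : E.SAct w)
    (hone : ∀ k ∈ E.K, k * k = 1 → k = 1 ∨ k = E.z) {k : G} (hk : k ∈ E.K) :
    ∃ (j : ℕ) (d : G), d ∈ E.K ∧ d ∈ (E.conj w).K ∧ Odd (orderOf d) ∧ k = E.s ^ j * d := by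
  have h0 : orderOf k ≠ 0 := (orderOf_pos k).ne'
  obtain ⟨a, m, hm, hmo⟩ := Nat.exists_eq_two_pow_mul_odd h0
  have hcop : Nat.Coprime (2 ^ a) m := Nat.Coprime.pow_left a (by rw [Nat.coprime_two_left]; exact hm)
  have hb := Nat.gcd_eq_gcd_ab (2 ^ a) m
  rw [hcop.gcd_eq_one] at hb
  set x := Nat.gcdA (2 ^ a) m
  set y := Nat.gcdB (2 ^ a) m
  have hk1 : k = k ^ ((m : ℤ) * y) * k ^ (((2 ^ a : ℕ) : ℤ) * x) := by
    rw [← zpow_add, add_comm, ← hb]; simp
  have hord : k ^ (orderOf k : ℤ) = 1 := by rw [zpow_natCast]; exact pow_orderOf_eq_one k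
  have h2 : (k ^ ((m : ℤ) * y)) ^ (2 ^ a) = 1 := by
    rw [← zpow_natCast, ← zpow_mul]
    have : (m : ℤ) * y * ((2 ^ a : ℕ) : ℤ) = (orderOf k : ℤ) * y := by
      rw [hmo]; push_cast; ring
    rw [this, zpow_mul, hord, one_zpow]
  have h3 : (k ^ (((2 ^ a : ℕ) : ℤ) * x)) ^ m = 1 := by
    rw [← zpow_natCast, ← zpow_mul]
    have : (((2 ^ a : ℕ) : ℤ) * x) * (m : ℤ) = (orderOf k : ℤ) * x := by
      rw [hmo]; push_cast; ring
    rw [this, zpow_mul, hord, one_zpow]
  obtain ⟨j, hj⟩ := mem_zpowers_of_two hP hs hone _ (zpow_mem hk _) ⟨a, h2⟩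
  have h4 : Odd (orderOf (k ^ (((2 ^ a : ℕ) : ℤ) * x))) :=
    Odd.of_dvd_nat hm (orderOf_dvd_of_pow_eq_one h3)
  refine ⟨j, k ^ (((2 ^ a : ℕ) : ℤ) * x), zpow_mem hk _, odd_mem hP (zpow_mem hk _) h4, h4, ?_⟩
  rw [← hj]
  exact hk1

omit [Finite G] in
theorem el_pow16 (p : Code) : (A.el p) ^ 16 = 1 := by
  have e : (A.el p) ^ 16 = A.el p * A.el p * (A.el p * A.el p) * (A.el p * A.el p * (A.el p * A.el p)) *
      (A.el p * A.el p * (A.el p * A.el p) * (A.el p * A.el p * (A.el p * A.el p))) := by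
    simp only [← pow_two, ← pow_mul]
    norm_num
  rw [e]
  simp only [A.el_mul]
  rw [pow16, A.el_one]

/-- A 2-element acting as an inner automorphism by an element of `T` lies in the component. -/
theorem mem_of_inner (hP : E.Pair w) (hs : E.SAct w)
    (hone : ∀ k ∈ E.K, k * k = 1 → k = 1 ∨ k = E.z) {m : G} {p : Code}
    (hm : E.Act m (MulAut.conj (A.el p))) (h2 : ∃ n, m ^ (2 ^ n) = 1) :
    ∃ j : Fin 4, m = E.ι (A.el p * A.sp j) := by
  have h1 : m * (E.ι (A.el p))⁻¹ ∈ E.K := by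
    rw [← Emb.act_one_iff]
    have := hm.mul (act_ι (E := E) (A.el p)).inv
    rwa [mul_inv_cancel] at this
  obtain ⟨j, d, hd, -, hdo, hj⟩ := exists_decomp hP hs hone h1
  obtain ⟨i, hi⟩ : ∃ i : Fin 4, (i : ℕ) = j % 4 := ⟨⟨j % 4, Nat.mod_lt _ (by norm_num)⟩, rfl⟩
  have hm1 : m = d * E.ι (A.el p * A.sp i) := by
    have hsj : E.s ^ j = E.ι (A.sp i) := by
      show (E.ι A.s) ^ j = _
      rw [← map_pow]
      congr 1
      show A.s ^ j = A.s ^ (i : ℕ)
      rw [hi]
      conv_lhs => rw [← Nat.div_add_mod j 4, pow_add, pow_mul, A.s_pow, one_pow, one_mul]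
    rw [mul_inv_eq_iff_eq_mul] at hj
    rw [hj, hsj, map_mul]
    have c1 := comm_ι hd (A.sp i)
    have c2 : A.el p * A.sp i = A.sp i * A.el p := (A.sp_cen _ _).symm
    rw [← c1.eq, mul_assoc, ← map_mul, ← map_mul, ← c2]
  have hd1 : d = 1 := by
    obtain ⟨n, hn⟩ := h2
    have hc := comm_ι hd (A.el p * A.sp i)
    have h5 : (E.ι (A.el p * A.sp i)) ^ 16 = 1 := by
      rw [← map_pow, ← A.el_sp, A.el_mul, el_pow16, map_one]
    have h6 : d ^ (16 * 2 ^ n) = 1 := by
      have h7 : d = m * (E.ι (A.el p * A.sp i))⁻¹ := by rw [hm1]; group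
      have h8 : Commute m (E.ι (A.el p * A.sp i)) := by
        rw [hm1]; exact hc.mul_left (Commute.refl _)
      rw [h7, h8.inv_right.mul_pow, pow_mul', hn, one_pow, pow_mul, inv_pow, h5, inv_one, one_pow,
        one_mul]
    have h9 := orderOf_dvd_of_pow_eq_one h6
    have h10 : Nat.Coprime (orderOf d) (16 * 2 ^ n) := by
      have : 16 * 2 ^ n = 2 ^ (4 + n) := by rw [pow_add]; norm_num
      rw [this]
      apply Nat.Coprime.pow_right
      rw [Nat.coprime_two_right]; exact hdo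
    rw [← orderOf_eq_one_iff]
    exact Nat.eq_one_of_dvd_coprimes h10 dvd_rfl h9
  rw [hd1, one_mul] at hm1
  exact ⟨_, hm1⟩

theorem cinv_one : ∀ c : F4, ∃ k : Fin 4, cinv true ⟨1, 1, c, 0⟩ = ⟨1, 1, c + 1, k⟩ := by
  decide +kernel

theorem cmul_sp : ∀ (a b c : F4) (k j : Fin 4),
    cmul true ⟨a, b, c, k⟩ ⟨0, 0, 0, j⟩ = ⟨a, b, c, k + j⟩ := by
  decide +kernel

/-- **(7d).** The generator `s` of the centre of the component as an element of the conjugate
component. -/
theorem exists_s_eq (hP : E.Pair w) (hs : E.SAct w) (hs' : (E.conj w).SAct w⁻¹)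
    (hone' : ∀ k ∈ (E.conj w).K, k * k = 1 → k = 1 ∨ k = (E.conj w).z) :
    ∃ (c : F4) (k : Fin 4), E.s = (E.conj w).ι (A.el ⟨1, 1, c, k⟩) := by
  obtain ⟨hty, c, hq⟩ := hs
  have hq' : (E.conj w).Act E.s (MulAut.conj (A.el (cinv A.ty ⟨1, 1, c, 0⟩))) := by
    rw [← A.el_inv, map_inv]; exact hq
  obtain ⟨j, hj⟩ := mem_of_inner hP.symm hs' hone' hq' ⟨2, s_four⟩
  obtain ⟨k, hk⟩ := cinv_one c
  rw [hty, hk, ← A.el_sp, A.el_mul, hty, cmul_sp] at hj
  exact ⟨_, _, hj⟩

end Emb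

end Cfsg.Agent.StdL34.Seven
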