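import Cfsg.Agent.StdL34.Basic
import Cfsg.Agent.StdL34.Case2

/-!
# Step (6): type II, and the action of `s` on the conjugate component
-/

set_option autoImplicit false
set_option linter.constructorNameAsVariable false
set_option linter.unusedVariables false

namespace Cfsg.Agent.StdL34

open Cfsg.Agent.SporadicA.FieldFour

namespace Emb

variable {L : Type*} [Group L] {A : Cov L} {G : Type*} [Group G] {E : Emb A G}

theorem cq_aux : ∀ ty k, cq (cmul ty ⟨0, 0, 1, 0⟩ ⟨0, 0, 0, k⟩) ⟨0, 0, 1, 0⟩ := by decide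

theorem el_cq {r : Code} (h : MulAut.conj (A.el r) = MulAut.conj (A.x 0 2 1)) :
    cq r ⟨0, 0, 1, 0⟩ := by
  obtain ⟨k, hk⟩ := A.conj_inj h
  rw [← A.el_x02, ← A.el_sp, A.el_mul] at hk
  have := A.inj hk
  rw [this]
  exact cq_aux _ _

theorem cact_or {w : G} (hP : E.Pair w) {α : MulAut L} (hα : (E.conj w).Act E.s α) {y : Code}
    (hy : t0 y) : α (A.el y) = A.el y ∨ α (A.el y) = A.el (cmul A.ty y ⟨0, 0, 1, 0⟩) := by
  set t := (E.conj w).ι (A.el y) with ht
  have hmul : t = w * E.ι (A.el y) * w⁻¹ := rfl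
  -- `t` commutes with `z`
  have h1 : Commute (A.el y) (A.x 0 2 1) := by
    show A.el y * A.x 0 2 1 = A.x 0 2 1 * A.el y
    rw [← A.el_x02, A.el_mul, A.el_mul, (t0_comm A.ty y).mpr hy]
  have htz : Commute t E.z := by
    rw [← hP.u']
    exact h1.map (E.conj w).ι
  have hst := hα (A.el y)
  rcases Case2.s_or E htz with h | h
  · left
    apply (E.conj w).inj
    rw [← hst, ← ht, ← h.eq]; group
  · right
    apply (E.conj w).inj
    rw [← hst, ← ht, ← A.el_mul, A.el_x02, map_mul, ← ht]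
    have hu : (E.conj w).ι (A.x 0 2 1) = E.z := hP.u'
    rw [hu]
    have h2 : t * E.s = E.s⁻¹ * t := mul_inv_eq_iff_eq_mul.mp h
    calc E.s * t * E.s⁻¹ = E.s * (t * E.s) * (E.s * E.s)⁻¹ := by group
      _ = t * (E.s * E.s)⁻¹ := by rw [h2, mul_inv_cancel_left]
      _ = t * E.z := by
        rw [Case2.Ess]
        congr 1
        rw [inv_eq_iff_mul_eq_one, Case2.Ezz]

theorem T0_t0 : ∀ y ∈ T0, t0 y := by decide

/-- **(6)** -/
theorem sAct {w : G} (hP : E.Pair w) : E.SAct w := by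
  have hc : Commute E.s (E.conj w).z := by rw [hP.z']; exact Case2.s_comm_u E
  obtain ⟨α, hα⟩ := (E.conj w).exists_act hc
  have hfix : α (A.x 0 2 1) = A.x 0 2 1 := by
    rw [← hα.commute_iff]
    have : (E.conj w).ι (A.x 0 2 1) = E.z := hP.u'
    rw [this]
    exact (Case2.z_comm_ι E A.s).symm
  obtain ⟨a, b, c, τ, hcd⟩ := A.exists_cd' hfix
  have hsq : α * α = MulAut.conj (A.x 0 2 1) := by
    have h1 := hα.mul hα
    rw [Case2.Ess, ← hP.u'] at h1
    exact h1.unique (act_ι _)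
  have h2 := hcd.mul hcd
  rw [hsq, Cov.Ty.mul_self] at h2
  have h3 : MulAut.conj (A.el (cmul A.ty (ctau A.ty τ ⟨a, b, c, 0⟩) ⟨a, b, c, 0⟩)) =
      MulAut.conj (A.x 0 2 1) := by
    have h4 := Cov.IsTau.ext h2 Cov.isTau_one
    rw [← Cov.conj_x02_inv]
    exact eq_inv_of_mul_eq_one_left h4
  obtain ⟨h5, h6, h7, h8⟩ := s_act A.ty τ a b c (el_cq h3) (fun y hy => by
    rcases cact_or hP hα (T0_t0 y hy) with h | h
    · left
      rw [hcd.apply] at h
      exact A.inj h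
    · right
      rw [hcd.apply] at h
      exact A.inj h)
  subst h6 h7 h8
  refine ⟨h5, c, ?_⟩
  have h9 : MulAut.conj (A.el ⟨1, 1, c, 0⟩) * α = 1 := Cov.IsTau.ext hcd Cov.isTau_one
  have : α = (MulAut.conj (A.el ⟨1, 1, c, 0⟩))⁻¹ := eq_inv_of_mul_eq_one_right h9
  rwa [← this]

end Emb

end Cfsg.Agent.StdL34
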